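import Cfsg.Prelude.Def_Blocks
import Cfsg.Prelude.Def_BlockRank
import Cfsg.Agent.Lib.Invol.Strong
import Cfsg.Agent.Lib.Invol.SectionChar

/-!
Common vocabulary for abelian Sylow two-subgroups with an inertial quotient regular on the involutions.

`Setup` is the data obtained from the signalizer functor for an elementary Sylow subgroup `R` of order
`2 ^ n`: `W` is generated by the odd cores of the centralizers of the involutions of `R`, and
`M = W R ⟨w⟩` is strongly embedded.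
-/

set_option autoImplicit false

namespace CfsgLib.BlockA.PrimeInertial

open Cfsg

universe u

variable {G : Type u} [Group G] [Finite G]

/-- The centralizer of one element. -/
abbrev cz (t : G) : Subgroup G := Subgroup.centralizer ({t} : Set G)

/-- No nontrivial normal subgroup of odd order. -/
def NoOddNormal (G : Type u) [Group G] : Prop :=
  ∀ N : Subgroup G, N.Normal → Odd (Nat.card N) → N = ⊥

/-- The strongly embedded configuration `M = W R ⟨w⟩` with `⟨w⟩` regular on `R \ {1}` modulo `W`. -/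
structure Setup (R : Sylow 2 G) (W M : Subgroup G) (w : G) (n : ℕ) : Prop where
  three_le : 3 ≤ n
  card_R : Nat.card (R : Subgroup G) = 2 ^ n
  elem : ∀ r ∈ (R : Subgroup G), r * r = 1
  core : NoOddNormal G
  se : IsStronglyEmbedded M
  odd_W : Odd (Nat.card W)
  W_le : W ≤ M
  R_le : (R : Subgroup G) ≤ M
  W_norm : ∀ m ∈ M, ∀ a ∈ W, m * a * m⁻¹ ∈ W
  w_mem : w ∈ M
  w_norm : ∀ r ∈ (R : Subgroup G), w * r * w⁻¹ ∈ (R : Subgroup G)
  mem_M : ∀ g ∈ M, ∃ a ∈ W, ∃ r ∈ (R : Subgroup G), ∃ i : ℕ, g = a * r * w ^ i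
  card_M : Nat.card M = Nat.card W * 2 ^ n * (2 ^ n - 1)
  w_pow : w ^ (2 ^ n - 1) ∈ W
  w_trans : ∀ s ∈ (R : Subgroup G), s ≠ 1 → ∀ t ∈ (R : Subgroup G), t ≠ 1 →
    ∃ i : ℕ, w ^ i * s * (w ^ i)⁻¹ = t
  w_free : ∀ i : ℕ, ∀ t ∈ (R : Subgroup G), t ≠ 1 → Commute (w ^ i) t → (2 ^ n - 1) ∣ i
  cent : ∀ t ∈ (R : Subgroup G), t ≠ 1 → ∀ g : G,
    (g ∈ cz t ↔ ∃ a ∈ W ⊓ cz t, ∃ r ∈ (R : Subgroup G), g = a * r)

/-- The value data of the principal block on the two-singular elements. -/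
structure Column (M : Ideal AlgInt) (n v : ℕ) (d : IrrCharacter G → ℤ) : Prop where
  value : ∀ χ ∈ principalBlock M G, ∀ g : G, CfsgLib.Invol.twoPart g ≠ 1 →
    (χ : G → ℂ) g = (d χ : ℂ)
  one : ∀ χ : IrrCharacter G, (χ : G → ℂ) = (fun _ => 1) → d χ = 1
  norm : ∑ χ ∈ (principalBlock M G).toFinite.toFinset, d χ * d χ = (2 : ℤ) ^ n
  orth : ∑ χ ∈ (principalBlock M G).toFinite.toFinset,
    d χ * (charDegree (χ : G → ℂ) : ℤ) = 0
  cube : (∑ χ ∈ (principalBlock M G).toFinite.toFinset,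
      (d χ : ℝ) ^ 3 / (charDegree (χ : G → ℂ) : ℝ)) =
    (2 : ℝ) ^ n * ((2 : ℝ) ^ n - 2) / (((2 : ℝ) ^ n - 1) * (v : ℝ))

end CfsgLib.BlockA.PrimeInertial
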