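import Cfsg.Agent.Lib.BlockA.PrimeInertial.Basic
import Cfsg.Agent.Lib.Invol.FusionBasics
import Cfsg.Agent.Lib.Transfer.Basic
import Cfsg.Agent.Lib.Transfer.Focal
import Cfsg.Agent.S0205
import Cfsg.Agent.S0217
import Cfsg.Agent.S0223

/-!
The strongly embedded subgroup `W N(P)` generated by the odd cores of the centralizers of the
involutions of an abelian Sylow two-subgroup of rank at least three.
-/

set_option autoImplicit false
set_option linter.unusedSectionVars false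

namespace CfsgLib.BlockA.PrimeInertial

open Cfsg Subgroup CfsgLib
open scoped Pointwise

universe u

variable {G : Type u} [Group G] [Finite G]

/-- The subgroup generated by the elements of odd order of a centralizer. -/
def oddPart (t : G) : Subgroup G := (Cfsg.pResidual 2 (cz t)).map (cz t).subtype

theorem oddPart_le (t : G) : oddPart t ≤ cz t := map_subtype_le _

theorem mem_oddPart {t : G} (h : HasNormalPComplement 2 (cz t)) {x : G} :
    x ∈ oddPart t ↔ x ∈ cz t ∧ Odd (orderOf x) := by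
  constructor
  · rintro ⟨y, hy, rfl⟩
    refine ⟨y.2, ?_⟩
    have := (Transfer.mem_pResidual_iff h y).1 hy
    rw [orderOf_injective _ (cz t).subtype_injective]
    exact Nat.coprime_two_right.1 this
  · rintro ⟨hx, ho⟩
    refine ⟨⟨x, hx⟩, (Transfer.mem_pResidual_iff h _).2 ?_, rfl⟩
    rw [orderOf_mk]
    exact Nat.coprime_two_right.2 ho

theorem odd_card_oddPart {t : G} (h : HasNormalPComplement 2 (cz t)) :
    Odd (Nat.card (oddPart t)) := by
  rw [oddPart, Subgroup.card_map_of_injective (cz t).subtype_injective]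
  exact Nat.coprime_two_right.1 (Transfer.hasNormalPComplement_iff_coprime_pResidual.1 h)

/-- A centralizer is its odd part times the abelian Sylow subgroup. -/
theorem exists_oddPart_mul (P : Sylow 2 G) (hab : IsMulCommutative (P : Subgroup G)) {t g : G}
    (ht : t ∈ (P : Subgroup G)) (hg : g ∈ cz t) :
    ∃ k ∈ oddPart t, ∃ r ∈ (P : Subgroup G), g = k * r := by
  have hPy : (P : Subgroup G) ≤ cz t := fun a ha => mem_centralizer_singleton_iff.2
    (congrArg Subtype.val (hab.is_comm.comm ⟨a, ha⟩ ⟨t, ht⟩))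
  have := Transfer.pResidual_normal (G := cz t) (p := 2)
  have h : (⟨g, hg⟩ : cz t) ∈
      Cfsg.pResidual 2 (cz t) ⊔ ((P.subtype hPy : Sylow 2 (cz t)) : Subgroup (cz t)) := by
    rw [Transfer.pResidual_sup_sylow]; exact mem_top _
  obtain ⟨k, hk, r, hr, hkr⟩ := mem_sup_of_normal_left.1 h
  exact ⟨k, ⟨k, hk, rfl⟩, r, hr, (congrArg Subtype.val hkr).symm⟩

/-- An element of odd order in a `2`-group is trivial. -/
theorem eq_one_of_odd_mem {P : Subgroup G} (hP : IsPGroup 2 P) {x : G} (hx : x ∈ P)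
    (ho : Odd (orderOf x)) : x = 1 := by
  obtain ⟨k, hk⟩ := IsPGroup.iff_orderOf.1 hP ⟨x, hx⟩
  rw [orderOf_mk] at hk
  rcases k with _ | k
  · exact orderOf_eq_one_iff.1 (by rw [hk, pow_zero])
  · exact absurd (hk ▸ ho) (Nat.not_odd_iff_even.2 ((even_two.pow_of_ne_zero k.succ_ne_zero)))

theorem odd_orderOf_of_mem {W : Subgroup G} (hW : Odd (Nat.card W)) {x : G} (hx : x ∈ W) :
    Odd (orderOf x) := hW.of_dvd_nat (W.orderOf_dvd_natCard hx)

/-- The signalizer functor step. -/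
theorem exists_core_gen (P : Sylow 2 G) (hab : IsMulCommutative (P : Subgroup G))
    (hΩ : 8 ≤ Nat.card {x : (P : Subgroup G) // x * x = 1})
    (hcn : ∀ t ∈ (P : Subgroup G), t ≠ 1 → HasNormalPComplement 2 (cz t)) :
    ∃ W : Subgroup G, Odd (Nat.card W) ∧
      (∀ t ∈ (P : Subgroup G), t * t = 1 → t ≠ 1 → W ⊓ cz t = oddPart t) ∧
      normalizer ((P : Subgroup G) : Set G) ≤ normalizer (W : Set G) ∧
      ∀ t ∈ (P : Subgroup G), t * t = 1 → t ≠ 1 →
        cz t ≤ W ⊔ normalizer ((P : Subgroup G) : Set G) := by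
  have : Fact (Nat.Prime 2) := ⟨Nat.prime_two⟩
  have hc : ∀ a ∈ (P : Subgroup G), ∀ b ∈ (P : Subgroup G), a * b = b * a := fun a ha b hb =>
    congrArg Subtype.val (hab.is_comm.comm ⟨a, ha⟩ ⟨b, hb⟩)
  let A : Subgroup G :=
    { carrier := {x | x ∈ (P : Subgroup G) ∧ x * x = 1}
      one_mem' := ⟨one_mem _, one_mul 1⟩
      mul_mem' := by
        rintro a b ⟨ha, ha2⟩ ⟨hb, hb2⟩
        refine ⟨mul_mem ha hb, ?_⟩
        calc a * b * (a * b) = a * (b * a) * b := by group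
          _ = a * (a * b) * b := by rw [hc b hb a ha]
          _ = (a * a) * (b * b) := by group
          _ = 1 := by rw [ha2, hb2, one_mul]
      inv_mem' := by
        rintro a ⟨ha, ha2⟩
        exact ⟨inv_mem ha, by rw [← mul_inv_rev, ha2, inv_one]⟩ }
  have hA : Nat.card A = Nat.card {x : (P : Subgroup G) // x * x = 1} :=
    Nat.card_congr
      { toFun := fun x => ⟨⟨x.1, x.2.1⟩, Subtype.ext x.2.2⟩
        invFun := fun x => ⟨x.1.1, x.1.2, congrArg Subtype.val x.2⟩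
        left_inv := fun _ => rfl
        right_inv := fun _ => rfl }
  have hcA : ∀ a ∈ A, a ≠ 1 → HasNormalPComplement 2 (cz a) := fun a ha => hcn a ha.1
  have hinv : ∀ a ∈ A, a ≠ 1 → ∀ g ∈ normalizer ((P : Subgroup G) : Set G), ∀ x ∈ oddPart a,
      g * a * g⁻¹ ∈ A ∧ g * a * g⁻¹ ≠ 1 ∧ g * x * g⁻¹ ∈ oddPart (g * a * g⁻¹) := by
    intro a ha h1 g hg x hx
    have hga : g * a * g⁻¹ ∈ A := ⟨(mem_normalizer_iff.1 hg a).1 ha.1, by
      rw [show g * a * g⁻¹ * (g * a * g⁻¹) = g * (a * a) * g⁻¹ by group, ha.2, mul_one,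
        mul_inv_cancel]⟩
    have hne : g * a * g⁻¹ ≠ 1 := fun h => h1 (conj_eq_one_iff.1 h)
    obtain ⟨hxa, hxo⟩ := (mem_oddPart (hcA a ha h1)).1 hx
    refine ⟨hga, hne, (mem_oddPart (hcA _ hga hne)).2 ⟨mem_centralizer_singleton_iff.2 ?_, ?_⟩⟩
    · have := mem_centralizer_singleton_iff.1 hxa
      calc g * x * g⁻¹ * (g * a * g⁻¹) = g * (x * a) * g⁻¹ := by group
        _ = g * (a * x) * g⁻¹ := by rw [this]
        _ = g * a * g⁻¹ * (g * x * g⁻¹) := by group
    · rwa [Invol.orderOf_conj_eq]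
  obtain ⟨hodd, hW⟩ := Cfsg.Agent.S0217.result (p := 2) A (fun a ha b hb => hc a ha.1 b hb.1)
    (fun a ha => by rw [pow_two]; exact ha.2) (by rw [hA]; simpa using hΩ) oddPart
    (fun a _ _ => oddPart_le a)
    (fun a ha h1 h => Nat.not_even_iff_odd.2 (odd_card_oddPart (hcA a ha h1))
      (even_iff_two_dvd.2 h))
    (fun a ha h1 b hb x hx => by
      have h := (hinv a ha h1 b (le_normalizer hb.1) x hx).2.2
      rwa [hc b hb.1 a ha.1, mul_inv_cancel_right] at h)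
    (fun a ha h1 => Cfsg.Agent.S0205.result (odd_card_oddPart (hcA a ha h1)))
    (fun a ha h1 b hb hb1 x hx => (mem_oddPart (hcA b hb hb1)).2
      ⟨hx.2, ((mem_oddPart (hcA a ha h1)).1 hx.1).2⟩)
  set W := ⨆ a : {a : G // a ∈ A ∧ a ≠ 1}, oddPart (a : G) with hWdef
  have hle : ∀ a ∈ A, a ≠ 1 → oddPart a ≤ W := fun a ha h1 =>
    le_iSup (fun a : {a : G // a ∈ A ∧ a ≠ 1} => oddPart (a : G)) ⟨a, ha, h1⟩
  have hN : normalizer ((P : Subgroup G) : Set G) ≤ normalizer (W : Set G) := by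
    intro g hg
    refine Invol.mem_normalizer_iff_of_finite fun x hx => ?_
    have h : W ≤ W.comap (MulAut.conj g).toMonoidHom :=
      iSup_le fun a => fun y hy => by
        obtain ⟨h1, h2, h3⟩ := hinv a a.2.1 a.2.2 g hg y hy
        rw [mem_comap]
        exact hle _ h1 h2 h3
    exact h hx
  refine ⟨W, ?_, fun t ht h2 h1 => hW t ⟨ht, h2⟩ h1, hN, fun t ht h2 h1 g hg => ?_⟩
  · rw [← Nat.not_even_iff_odd, even_iff_two_dvd]
    exact hodd
  · obtain ⟨k, hk, r, hr, rfl⟩ := exists_oddPart_mul P hab ht hg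
    exact mul_mem (mem_sup_left (hle t ⟨ht, h2⟩ h1 hk)) (mem_sup_right (le_normalizer hr))

/-- `W N(P)` is strongly embedded. -/
theorem se_sup_normalizer (hcore : NoOddNormal G) (P : Sylow 2 G)
    (hab : IsMulCommutative (P : Subgroup G)) (hnn : ¬ (P : Subgroup G).Normal) {W : Subgroup G}
    (hodd : Odd (Nat.card W))
    (hN : normalizer ((P : Subgroup G) : Set G) ≤ normalizer (W : Set G))
    (hC : ∀ t ∈ (P : Subgroup G), t * t = 1 → t ≠ 1 →
      cz t ≤ W ⊔ normalizer ((P : Subgroup G) : Set G)) :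
    IsStronglyEmbedded (W ⊔ normalizer ((P : Subgroup G) : Set G)) := by
  have : Fact (Nat.Prime 2) := ⟨Nat.prime_two⟩
  have := hab
  set H := W ⊔ normalizer ((P : Subgroup G) : Set G) with hH
  have hPH : (P : Subgroup G) ≤ H := le_normalizer.trans le_sup_right
  have hWH : H ≤ normalizer (W : Set G) := sup_le le_normalizer hN
  have hne : H ≠ ⊤ := by
    intro h
    have hn : W.Normal := normalizer_eq_top_iff.1 (top_le_iff.1 (h ▸ hWH))
    have hW := hcore W hn hodd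
    rw [hH, hW, bot_sup_eq] at h
    exact hnn (normalizer_eq_top_iff.1 h)
  have hPb : (P : Subgroup G) ≠ ⊥ := fun h => hnn (h ▸ inferInstance)
  have heven : Even (Nat.card H) := by
    obtain ⟨k, hk⟩ := P.2.exists_card_eq
    rcases k with _ | k
    · exact absurd (Subgroup.card_eq_one.1 (by rw [hk, pow_zero])) hPb
    · rw [even_iff_two_dvd]
      exact ((dvd_pow_self 2 k.succ_ne_zero).trans hk.symm.dvd).trans (card_dvd_of_le hPH)
  have hconj : ∀ t ∈ H, orderOf t = 2 →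
      ∃ h ∈ H, h * t * h⁻¹ ∈ (P : Subgroup G) ∧
        h * t * h⁻¹ * (h * t * h⁻¹) = 1 ∧ h * t * h⁻¹ ≠ 1 := by
    intro t ht h2
    obtain ⟨g, hg⟩ := Invol.exists_conj_invol_mem_sylow (P.subtype hPH) (x := ⟨t, ht⟩)
      (by rw [orderOf_mk]; exact h2)
    exact ⟨g, g.2, hg, Invol.invol_mul_self (by rw [Invol.orderOf_conj_eq, h2]),
      Invol.invol_ne_one (by rw [Invol.orderOf_conj_eq, h2])⟩
  refine (Cfsg.Agent.S0223.result H hne heven).2 ⟨fun t ht h2 g hg => ?_,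
    fun t ht s hs h2 h2' hts => ?_⟩
  · obtain ⟨h, hh, hP, hsq, h1⟩ := hconj t ht h2
    have hg' : h * g * h⁻¹ ∈ cz (h * t * h⁻¹) := by
      rw [mem_centralizer_singleton_iff] at hg ⊢
      calc h * g * h⁻¹ * (h * t * h⁻¹) = h * (g * t) * h⁻¹ := by group
        _ = h * (t * g) * h⁻¹ := by rw [hg]
        _ = h * t * h⁻¹ * (h * g * h⁻¹) := by group
    have := mul_mem (mul_mem (inv_mem hh) (hC _ hP hsq h1 hg')) hh
    simpa [mul_assoc] using this
  · obtain ⟨h, hh, hP, -, -⟩ := hconj t ht h2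
    obtain ⟨k, hk, hP', -, -⟩ := hconj s hs h2'
    obtain ⟨c, hc⟩ := isConj_iff.1 hts
    have he : k * c * h⁻¹ * (h * t * h⁻¹) * (k * c * h⁻¹)⁻¹ = k * s * k⁻¹ := by rw [← hc]; group
    obtain ⟨v, hv, hve⟩ := Transfer.abelian_sylow_controls P _ hP (k * c * h⁻¹) (by rw [he]; exact hP')
    rw [he] at hve
    refine ⟨k⁻¹ * v * h, mul_mem (mul_mem (inv_mem hk) (mem_sup_right hv)) hh, ?_⟩
    calc k⁻¹ * v * h * t * (k⁻¹ * v * h)⁻¹ = k⁻¹ * (v * (h * t * h⁻¹) * v⁻¹) * k := by group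
      _ = s := by rw [hve]; group

/-- An abelian Sylow subgroup of rank at least three with two-nilpotent centralizers of its
elements lies in a strongly embedded subgroup. -/
theorem exists_strongly_embedded (hcore : NoOddNormal G) (P : Sylow 2 G)
    (hab : IsMulCommutative (P : Subgroup G))
    (hΩ : 8 ≤ Nat.card {x : (P : Subgroup G) // x * x = 1}) (hnn : ¬ (P : Subgroup G).Normal)
    (hcn : ∀ t ∈ (P : Subgroup G), t ≠ 1 → HasNormalPComplement 2 (cz t)) :
    ∃ H : Subgroup G, IsStronglyEmbedded H ∧ (P : Subgroup G) ≤ H := by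
  obtain ⟨W, hodd, -, hN, hC⟩ := exists_core_gen P hab hΩ hcn
  exact ⟨_, se_sup_normalizer hcore P hab hnn hodd hN hC, le_normalizer.trans le_sup_right⟩

theorem le_self_centralizer (R : Sylow 2 G) (hab : IsMulCommutative (R : Subgroup G)) :
    (R : Subgroup G) ≤ centralizer ((R : Subgroup G) : Set G) := fun x hx y hy =>
  congrArg Subtype.val (hab.is_comm.comm ⟨y, hy⟩ ⟨x, hx⟩)

/-- The configuration `W R ⟨w⟩` for an elementary Sylow subgroup. -/
theorem exists_setup (hcore : NoOddNormal G) (R : Sylow 2 G) (n : ℕ) (hn : 3 ≤ n)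
    (hcard : Nat.card (R : Subgroup G) = 2 ^ n) (hel : ∀ r ∈ (R : Subgroup G), r * r = 1)
    (hnn : ¬ (R : Subgroup G).Normal)
    (g₀ : G) (hg₀ : g₀ ∈ Subgroup.normalizer ((R : Subgroup G) : Set G))
    (hgen : Subgroup.centralizer ((R : Subgroup G) : Set G) ⊔ Subgroup.zpowers g₀ =
      Subgroup.normalizer ((R : Subgroup G) : Set G))
    (hcn : ∀ t ∈ (R : Subgroup G), t ≠ 1 → HasNormalPComplement 2 (cz t))
    (htrans : ∀ s ∈ (R : Subgroup G), s ≠ 1 → ∀ t ∈ (R : Subgroup G), t ≠ 1 →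
      ∃ g ∈ Subgroup.normalizer ((R : Subgroup G) : Set G), g * s * g⁻¹ = t)
    (hidx : (Subgroup.centralizer ((R : Subgroup G) : Set G)).relIndex
      (Subgroup.normalizer ((R : Subgroup G) : Set G)) = 2 ^ n - 1) :
    ∃ (W H : Subgroup G) (w : G), Setup R W H w n := by
  classical
  have : Fact (Nat.Prime 2) := ⟨Nat.prime_two⟩
  have hab : IsMulCommutative (R : Subgroup G) := ⟨⟨fun a b => Subtype.ext <| by
    have ha := eq_inv_of_mul_eq_one_left (hel a a.2)
    have hb := eq_inv_of_mul_eq_one_left (hel b b.2)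
    have := eq_inv_of_mul_eq_one_left (hel _ (mul_mem a.2 b.2))
    rw [mul_inv_rev, ← ha, ← hb] at this
    exact this⟩⟩
  have hΩ : 8 ≤ Nat.card {x : (R : Subgroup G) // x * x = 1} := by
    rw [Nat.card_congr (Equiv.subtypeUnivEquiv
      (fun x : (R : Subgroup G) => Subtype.ext (hel x x.2))), hcard]
    calc 8 = 2 ^ 3 := rfl
      _ ≤ 2 ^ n := Nat.pow_le_pow_right (by norm_num) hn
  obtain ⟨W, hodd, hW, hN, hC⟩ := exists_core_gen R hab hΩ hcn
  set N := normalizer ((R : Subgroup G) : Set G) with hNdef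
  set C := centralizer ((R : Subgroup G) : Set G) with hCdef
  set H := W ⊔ N with hH
  have hRne : (R : Subgroup G) ≠ ⊥ := fun h => hnn (h ▸ inferInstance)
  obtain ⟨t₀, ht₀, ht₀1⟩ := ((R : Subgroup G).ne_bot_iff_exists_ne_one).1 hRne |>.elim
    fun x hx => (⟨x.1, x.2, fun h => hx (Subtype.ext h)⟩ : ∃ t ∈ (R : Subgroup G), t ≠ 1)
  have hCdec : ∀ g ∈ C, ∃ k ∈ W, ∃ r ∈ (R : Subgroup G), g = k * r := by
    intro g hg
    have hgt : g ∈ cz t₀ := mem_centralizer_singleton_iff.2 (hg t₀ ht₀).symm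
    obtain ⟨k, hk, r, hr, he⟩ := exists_oddPart_mul R hab ht₀ hgt
    rw [← hW t₀ ht₀ (hel t₀ ht₀) ht₀1] at hk
    exact ⟨k, hk.1, r, hr, he⟩
  have hoddC : ∀ g ∈ C, Odd (orderOf g) → g ∈ W := by
    intro g hg ho
    have hgt : g ∈ cz t₀ := mem_centralizer_singleton_iff.2 (hg t₀ ht₀).symm
    have := (mem_oddPart (hcn t₀ ht₀ ht₀1)).2 ⟨hgt, ho⟩
    rw [← hW t₀ ht₀ (hel t₀ ht₀) ht₀1] at this
    exact this.1
  have hWN : ∀ g ∈ W, g ∈ N → g ∈ C := by
    intro g hgW hgN r hr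
    have h1 : g * r * g⁻¹ * r⁻¹ ∈ (R : Subgroup G) :=
      mul_mem ((mem_normalizer_iff.1 hgN r).1 hr) (inv_mem hr)
    have h2 : g * r * g⁻¹ * r⁻¹ ∈ W := by
      have := mul_mem hgW ((mem_normalizer_iff.1 (hN (le_normalizer hr)) g⁻¹).1 (inv_mem hgW))
      simpa [mul_assoc] using this
    have := eq_one_of_odd_mem R.isPGroup' h1 (odd_orderOf_of_mem hodd h2)
    exact (mul_inv_eq_iff_eq_mul.1 (mul_inv_eq_one.1 this)).symm
  -- the odd part `w` of `g₀`
  obtain ⟨a, m, hm, hord⟩ :=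
    Nat.exists_eq_pow_mul_and_not_dvd (orderOf_pos g₀).ne' 2 (by norm_num)
  have hmodd : Odd m := Nat.odd_iff.2 (Nat.two_dvd_ne_zero.1 hm)
  set w := g₀ ^ 2 ^ a with hwdef
  have hwN : w ∈ N := pow_mem hg₀ _
  have hwodd : Odd (orderOf w) := hmodd.of_dvd_nat (orderOf_dvd_of_pow_eq_one (by
    rw [hwdef, ← pow_mul, ← hord, pow_orderOf_eq_one]))
  have h2el : g₀ ^ m ∈ (R : Subgroup G) := by
    have hp : IsPGroup 2 (zpowers (g₀ ^ m)) := by
      obtain ⟨j, -, hj⟩ := (Nat.dvd_prime_pow Nat.prime_two).1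
        (orderOf_dvd_of_pow_eq_one (x := g₀ ^ m) (n := 2 ^ a)
          (by rw [← pow_mul, mul_comm, ← hord, pow_orderOf_eq_one]))
      exact IsPGroup.of_card (n := j) (by rw [Nat.card_zpowers, hj])
    have := R.is_maximal' (hp.to_sup_of_normal_right' R.isPGroup'
      ((zpowers_le).2 (pow_mem hg₀ m))) le_sup_right
    rw [← this]
    exact mem_sup_left (mem_zpowers _)
  have hgen' : N ≤ C ⊔ zpowers w := by
    rw [← hgen]
    refine sup_le le_sup_left (zpowers_le.2 ?_)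
    obtain ⟨x, y, hxy⟩ : ∃ x y : ℤ, (m : ℤ) * x + ((2 ^ a : ℕ) : ℤ) * y = 1 := by
      refine ⟨Nat.gcdA m (2 ^ a), Nat.gcdB m (2 ^ a), ?_⟩
      rw [← Nat.gcd_eq_gcd_ab]
      exact_mod_cast Nat.Coprime.pow_right a (Nat.coprime_two_right.2 hmodd)
    have : g₀ = (g₀ ^ m) ^ x * (g₀ ^ 2 ^ a) ^ y := by
      rw [← zpow_natCast, ← zpow_natCast g₀ (2 ^ a), ← zpow_mul, ← zpow_mul, ← zpow_add, hxy,
        zpow_one]
    rw [this]
    exact mul_mem (mem_sup_left (zpow_mem (le_self_centralizer R hab h2el) x))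
      (mem_sup_right (zpow_mem (mem_zpowers w) y))
  -- the cyclic image in the automorphisms of `R`
  let φ := (R : Subgroup G).normalizerMonoidHom
  have hker : φ.ker = C.subgroupOf N := normalizerMonoidHom_ker _
  set x := φ ⟨w, hwN⟩ with hxdef
  have hpow : ∀ g : N, ∃ i : ℕ, φ g = x ^ i := by
    intro g
    have hle : N ≤ ((zpowers x).comap φ).map N.subtype := by
      refine hgen'.trans (sup_le (fun c hc => ?_) (zpowers_le.2 ?_))
      · refine ⟨⟨c, centralizer_le_normalizer _ hc⟩, ?_, rfl⟩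
        show φ _ ∈ zpowers x
        rw [MonoidHom.mem_ker.1 (show (⟨c, centralizer_le_normalizer _ hc⟩ : N) ∈ φ.ker by
          rw [hker]; exact hc)]
        exact one_mem _
      · exact ⟨⟨w, hwN⟩, mem_zpowers x, rfl⟩
    obtain ⟨g', hg', he⟩ := hle g.2
    obtain rfl : g' = g := Subtype.ext he
    obtain ⟨i, hi⟩ := Submonoid.mem_powers_iff _ _ |>.1 ((mem_powers_iff_mem_zpowers
      (x := x)).2 (mem_comap.1 hg'))
    exact ⟨i, hi.symm⟩
  have hxord : orderOf x = 2 ^ n - 1 := by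
    rw [← hidx, ← Nat.card_zpowers, relIndex, ← hker, index_ker]
    refine Nat.card_congr (Equiv.setCongr (Set.ext fun y => ⟨fun hy => ?_, ?_⟩))
    · obtain ⟨i, rfl⟩ := mem_zpowers_iff.1 hy
      exact zpow_mem (⟨_, rfl⟩ : x ∈ φ.range) i
    · rintro ⟨g, rfl⟩
      obtain ⟨i, hi⟩ := hpow g
      rw [SetLike.mem_coe, hi]
      exact npow_mem_zpowers x i
  have hwi : ∀ i : ℕ, (w ^ i ∈ C ↔ x ^ i = 1) := by
    intro i
    rw [hxdef, ← map_pow, ← MonoidHom.mem_ker, hker, mem_subgroupOf]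
    rfl
  have hwe : w ^ (2 ^ n - 1) ∈ W := by
    refine hoddC _ ((hwi _).2 (by rw [← hxord, pow_orderOf_eq_one])) ?_
    exact hwodd.of_dvd_nat (orderOf_pow_dvd _)
  have hWH : H ≤ normalizer (W : Set G) := sup_le le_normalizer hN
  have hnorm : ∀ h ∈ H, ∀ b ∈ W, h * b * h⁻¹ ∈ W := fun h hh b hb =>
    (mem_normalizer_iff.1 (hWH hh) b).1 hb
  have hwH : w ∈ H := mem_sup_right hwN
  have hRH : (R : Subgroup G) ≤ H := le_normalizer.trans le_sup_right
  have hmem : ∀ g ∈ H, ∃ b ∈ W, ∃ r ∈ (R : Subgroup G), ∃ i : ℕ, g = b * r * w ^ i := by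
    intro g hg
    have : g ∈ (W : Set G) * (N : Set G) := by
      rw [← coe_mul_of_right_le_normalizer_left W N hN]; exact hg
    obtain ⟨b, hb, c, hc, rfl⟩ := this
    obtain ⟨i, hi⟩ := hpow ⟨c, hc⟩
    have hcw : c * (w ^ i)⁻¹ ∈ C := by
      have : (⟨c, hc⟩ : N) * (⟨w, hwN⟩ ^ i)⁻¹ ∈ φ.ker := by
        rw [MonoidHom.mem_ker, map_mul, map_inv, map_pow, hi, hxdef, mul_inv_cancel]
      rw [hker] at this
      exact this
    obtain ⟨k, hk, r, hr, he⟩ := hCdec _ hcw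
    exact ⟨b * k, mul_mem hb hk, r, hr, i, by rw [mul_assoc b k r, ← he]; group⟩
  have hcardH : Nat.card H = Nat.card W * 2 ^ n * (2 ^ n - 1) := by
    have e : Function.Bijective (fun p : (W × (R : Subgroup G)) × Fin (2 ^ n - 1) =>
        (⟨p.1.1 * p.1.2 * w ^ (p.2 : ℕ), mul_mem (mul_mem (mem_sup_left p.1.1.2)
          (hRH p.1.2.2)) (pow_mem hwH _)⟩ : H)) := by
      constructor
      · rintro ⟨⟨b, r⟩, i⟩ ⟨⟨b', r'⟩, j⟩ h
        have h' : (b : G) * r * w ^ (i : ℕ) = b' * r' * w ^ (j : ℕ) := congrArg Subtype.val h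
        have hbb : (b' : G)⁻¹ * b = r' * w ^ (j : ℕ) * (w ^ (i : ℕ))⁻¹ * (r : G)⁻¹ := by
          calc (b' : G)⁻¹ * b = (b' : G)⁻¹ * (b * r * w ^ (i : ℕ)) * (w ^ (i : ℕ))⁻¹ * (r : G)⁻¹ := by
                group
            _ = _ := by rw [h']; group
        have hbN : (b' : G)⁻¹ * b ∈ N := by
          rw [hbb]
          exact mul_mem (mul_mem (mul_mem (le_normalizer r'.2) (pow_mem hwN _))
            (inv_mem (pow_mem hwN _))) (inv_mem (le_normalizer r.2))
        have hbC := hWN _ (mul_mem (inv_mem b'.2) b.2) hbN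
        have hji : w ^ (j : ℕ) * (w ^ (i : ℕ))⁻¹ ∈ C := by
          rw [show w ^ (j : ℕ) * (w ^ (i : ℕ))⁻¹ = (r' : G)⁻¹ * ((b' : G)⁻¹ * b) * r by
            rw [hbb]; group]
          exact mul_mem (mul_mem (inv_mem (le_self_centralizer R hab r'.2)) hbC)
            (le_self_centralizer R hab r.2)
        have hx : x ^ (j : ℕ) = x ^ (i : ℕ) := by
          have : (⟨w, hwN⟩ : N) ^ (j : ℕ) * (⟨w, hwN⟩ ^ (i : ℕ))⁻¹ ∈ φ.ker := by
            rw [hker]; exact hji
          rwa [MonoidHom.mem_ker, map_mul, map_inv, map_pow, map_pow, ← hxdef,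
            mul_inv_eq_one] at this
        obtain rfl : j = i := Fin.ext (pow_injOn_Iio_orderOf (by rw [Set.mem_Iio, hxord]; exact j.2)
          (by rw [Set.mem_Iio, hxord]; exact i.2) hx)
        have h'' : (b : G) * r = b' * r' := mul_right_cancel h'
        have hbR : (b' : G)⁻¹ * b ∈ (R : Subgroup G) := by
          rw [show (b' : G)⁻¹ * b = r' * (r : G)⁻¹ by
            calc (b' : G)⁻¹ * b = (b' : G)⁻¹ * (b * r) * (r : G)⁻¹ := by group
              _ = _ := by rw [h'']; group]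
          exact mul_mem r'.2 (inv_mem r.2)
        have h1 := inv_mul_eq_one.1 (eq_one_of_odd_mem R.isPGroup' hbR
          (odd_orderOf_of_mem hodd (mul_mem (inv_mem b'.2) b.2)))
        rw [h1] at h''
        obtain rfl : r = r' := Subtype.ext (mul_left_cancel h'')
        obtain rfl : b = b' := Subtype.ext h1.symm
        rfl
      · rintro ⟨g, hg⟩
        obtain ⟨b, hb, r, hr, i, rfl⟩ := hmem g hg
        have hc : (r * w ^ (i % (2 ^ n - 1))) * (w ^ (2 ^ n - 1)) ^ (i / (2 ^ n - 1)) *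
            (r * w ^ (i % (2 ^ n - 1)))⁻¹ ∈ W :=
          hnorm _ (mul_mem (hRH hr) (pow_mem hwH _)) _ (pow_mem hwe _)
        refine ⟨((⟨_, mul_mem hb hc⟩, ⟨r, hr⟩), ⟨i % (2 ^ n - 1), Nat.mod_lt _ ?_⟩),
          Subtype.ext ?_⟩
        · have : 2 ^ 3 ≤ 2 ^ n := Nat.pow_le_pow_right (by norm_num) hn
          omega
        · show b * _ * r * w ^ (i % (2 ^ n - 1)) = b * r * w ^ i
          conv_rhs => rw [← Nat.mod_add_div i (2 ^ n - 1), pow_add, pow_mul]
          group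
    rw [← Nat.card_eq_of_bijective _ e, Nat.card_prod, Nat.card_prod, Nat.card_fin, hcard]
  have htr : ∀ s ∈ (R : Subgroup G), s ≠ 1 → ∀ t ∈ (R : Subgroup G), t ≠ 1 →
      ∃ i : ℕ, w ^ i * s * (w ^ i)⁻¹ = t := by
    intro s hs hs1 t ht ht1
    obtain ⟨g, hg, rfl⟩ := htrans s hs hs1 t ht ht1
    obtain ⟨i, hi⟩ := hpow ⟨g, hg⟩
    have : φ (⟨w, hwN⟩ ^ i) = φ ⟨g, hg⟩ := by rw [map_pow, hi]
    have h2 := congrArg Subtype.val (DFunLike.congr_fun this ⟨s, hs⟩)
    exact ⟨i, h2⟩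
  refine ⟨W, H, w, ⟨hn, hcard, hel, hcore, ?_, hodd, le_sup_left, hRH, hnorm, hwH,
    fun r hr => (mem_normalizer_iff.1 hwN r).1 hr, hmem, hcardH, hwe, htr, ?_, ?_⟩⟩
  · exact se_sup_normalizer hcore R hab hnn hodd hN hC
  · intro i t ht ht1 hcomm
    rw [← hxord]
    refine orderOf_dvd_of_pow_eq_one ((hwi i).1 fun s hs => ?_)
    rcases eq_or_ne s 1 with rfl | hs1
    · simp
    obtain ⟨j, rfl⟩ := htr t ht ht1 s hs hs1
    have : Commute (w ^ i) (w ^ j * t * (w ^ j)⁻¹) := by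
      have h1 : Commute (w ^ i) (w ^ j) := Commute.pow_pow_self w i j
      exact (h1.mul_right hcomm).mul_right h1.inv_right
    exact this.eq.symm
  · intro t ht ht1 g
    constructor
    · intro hg
      obtain ⟨k, hk, r, hr, rfl⟩ := exists_oddPart_mul R hab ht hg
      rw [← hW t ht (hel t ht) ht1] at hk
      exact ⟨k, hk, r, hr, rfl⟩
    · rintro ⟨k, hk, r, hr, rfl⟩
      exact mul_mem hk.2 (mem_centralizer_singleton_iff.2
        (congrArg Subtype.val (hab.is_comm.comm ⟨r, hr⟩ ⟨t, ht⟩)))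

end CfsgLib.BlockA.PrimeInertial
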