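import Cfsg.Agent.Lib.BlockA.PrimeInertial.Basic
import Cfsg.Agent.Lib.Invol.CAInvol
import Cfsg.Agent.Lib.Block.PrincipalSection
import Cfsg.Agent.Lib.Block.BRFixed
import Cfsg.Agent.Lib.Block.BRTheorem
import Cfsg.Agent.Lib.KnownB.SL2McKay
import Cfsg.Agent.Lib.BlockB.ClassMul
import Cfsg.Agent.S2331
import Cfsg.Agent.S4765

/-!
With trivial odd cores the group is `PSL(2, q)`, `q` the order of the Sylow two-subgroup, and the
principal two-block consists of the `q` characters of odd degree.
-/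

set_option autoImplicit false
set_option linter.unusedSectionVars false

namespace CfsgLib.BlockA.PrimeInertial

open Cfsg CfsgLib CfsgLib.Block
open scoped ComplexConjugate

universe u

variable {G : Type u} [Group G] [Finite G] {R : Sylow 2 G} {W H : Subgroup G} {w : G} {n : ℕ}

theorem cz_eq_sylow (S : Setup R W H w n) (hW : W = ⊥) {t : G} (ht : t ∈ (R : Subgroup G))
    (ht1 : t ≠ 1) : cz t = (R : Subgroup G) := by
  ext g
  rw [S.cent t ht ht1 g]
  constructor
  · rintro ⟨a, ha, r, hr, rfl⟩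
    rw [hW, bot_inf_eq, Subgroup.mem_bot] at ha
    rw [ha, one_mul]; exact hr
  · exact fun hg => ⟨1, one_mem _, g, hg, (one_mul g).symm⟩

theorem exists_mem_of_orderOf_two {t : G} (R : Sylow 2 G) (ht : orderOf t = 2) :
    ∃ x : G, x * t * x⁻¹ ∈ (R : Subgroup G) := by
  obtain ⟨Q, hQ⟩ := (IsPGroup.of_card (n := 1) (G := Subgroup.zpowers t)
    (by rw [Nat.card_zpowers, ht, pow_one])).exists_le_sylow
  obtain ⟨x, hx⟩ := MulAction.exists_smul_eq G Q R
  refine ⟨x, ?_⟩
  rw [← hx, Sylow.coe_subgroup_smul]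
  exact Subgroup.smul_mem_pointwise_smul _ (MulAut.conj x) (Q : Subgroup G)
    (hQ (Subgroup.mem_zpowers _))

theorem caHyp (S : Setup R W H w n) (hW : W = ⊥) : CfsgLib.Invol.CAHyp R := by
  refine ⟨fun hc => ?_, fun hnorm => ?_, fun t ht => ?_⟩
  · obtain ⟨g, hg⟩ := IsCyclic.exists_ofOrder_eq_natCard (α := (R : Subgroup G))
    have h2 : orderOf g ∣ 2 := orderOf_dvd_of_pow_eq_one (Subtype.ext (by
      rw [Subgroup.coe_pow, pow_two]; exact S.elem g g.2))
    rw [hg, S.card_R] at h2
    have h3 := Nat.le_of_dvd two_pos h2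
    have : 2 ^ 3 ≤ 2 ^ n := Nat.pow_le_pow_right two_pos S.three_le
    omega
  · obtain ⟨g, hg⟩ : ∃ g, g ∉ H := by
      by_contra h
      push Not at h
      exact S.se.1 ((Subgroup.eq_top_iff' H).2 h)
    have hR1 : (R : Subgroup G) ≠ ⊥ := fun h => by
      have h1 := S.card_R
      rw [h, Subgroup.card_bot] at h1
      have : 2 ^ 3 ≤ 2 ^ n := Nat.pow_le_pow_right two_pos S.three_le
      omega
    obtain ⟨r, hr, hr1⟩ := (Subgroup.bot_or_exists_ne_one (R : Subgroup G)).resolve_left hR1
    have hr2 : orderOf r = 2 := orderOf_eq_prime (by rw [pow_two]; exact S.elem r hr) hr1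
    exact hg (CfsgLib.Invol.se_mem_of_conj S.se hr2 (S.R_le hr)
      (S.R_le (hnorm.conj_mem r hr g)))
  · obtain ⟨x, hx⟩ := exists_mem_of_orderOf_two R ht
    have hx1 : x * t * x⁻¹ ≠ 1 := fun h => by
      have : t = 1 := by simpa using h
      rw [this, orderOf_one] at ht; omega
    have hmem : ∀ c ∈ cz t, x * c * x⁻¹ ∈ (R : Subgroup G) := fun c hc => by
      rw [← cz_eq_sylow S hW hx hx1, Subgroup.mem_centralizer_singleton_iff]
      have hc' := Subgroup.mem_centralizer_singleton_iff.1 hc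
      calc x * c * x⁻¹ * (x * t * x⁻¹) = x * (c * t) * x⁻¹ := by group
        _ = x * (t * c) * x⁻¹ := by rw [hc']
        _ = _ := by group
    have hsq : ∀ c ∈ cz t, c ^ 2 = 1 := fun c hc => by
      have h := S.elem _ (hmem c hc)
      rw [← pow_two, conj_pow] at h
      exact conj_eq_one_iff.1 h
    refine ⟨⟨⟨fun c d => Subtype.ext ?_⟩⟩, hsq⟩
    have h1 := hsq _ (c * d).2
    have h2 := hsq _ c.2
    have h3 := hsq _ d.2
    rw [sq] at h1 h2 h3
    rw [Subgroup.coe_mul] at h1 ⊢
    rw [Subgroup.coe_mul]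
    calc (c : G) * d = ((c : G) * d)⁻¹ := (inv_eq_of_mul_eq_one_right h1).symm
      _ = (d : G)⁻¹ * (c : G)⁻¹ := mul_inv_rev _ _
      _ = _ := by rw [inv_eq_of_mul_eq_one_right h2, inv_eq_of_mul_eq_one_right h3]

/-- The class number and the characters of even degree. -/
theorem irr_facts (S : Setup R W H w n) (hW : W = ⊥) :
    Nat.card (IrrCharacter G) = 2 ^ n + 1 ∧
      Nat.card {χ : IrrCharacter G // 2 ∣ charDegree (χ : G → ℂ)} = 1 ∧
      ∀ χ : IrrCharacter G, 2 ∣ charDegree (χ : G → ℂ) → charDegree (χ : G → ℂ) = 2 ^ n := by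
  classical
  have : Fact (Nat.Prime 2) := ⟨Nat.prime_two⟩
  obtain ⟨F, iF, iF', hF, ⟨ψ⟩⟩ := (caHyp S hW).exists_psl
  rw [S.card_R] at hF
  have hn := S.three_le
  have h8 : 2 ^ 3 ≤ 2 ^ n := Nat.pow_le_pow_right two_pos hn
  have hchar : ringChar F = 2 := FiniteField.even_card_iff_char_two.2 (by
    rw [hF]
    obtain ⟨k, rfl⟩ := Nat.exists_eq_add_of_le (show 1 ≤ n by omega)
    rw [pow_add, pow_one, Nat.mul_mod_right])
  have : CharP F 2 := (ringChar.eq_iff.1 hchar)
  obtain ⟨φ⟩ := BrauerReynolds.psl_equiv_sl_char_two F (show 0 < n by omega) hF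
  obtain ⟨h1, h2⟩ := Cfsg.Agent.S4765.result 2 F (by omega)
  refine ⟨?_, ?_, fun χ hχ => ?_⟩
  · rw [CfsgLib.KnownB.natCard_irr_congr (ψ.trans φ).symm, CfsgLib.Char.irr_card_eq,
      Cfsg.Agent.S2331.result, hF]
  · rw [CfsgLib.KnownB.natCard_irr_deg_congr ψ.symm (fun d => 2 ∣ d)]
    exact h1
  · let χ' : IrrCharacter (Matrix.ProjectiveSpecialLinearGroup (Fin 2) F) :=
      ⟨fun a => (χ : G → ℂ) (ψ.symm a),
        CfsgLib.Char.isIrrCharacter_comp_surjective χ.2 ψ.symm.toMonoidHom ψ.symm.surjective⟩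
    have hd : charDegree (χ' : Matrix.ProjectiveSpecialLinearGroup (Fin 2) F → ℂ) =
        charDegree (χ : G → ℂ) := by
      simp [χ', charDegree]
    have := h2 χ' (by rw [hd]; exact hχ)
    rw [hd, hF] at this
    exact this

/-- The principal block has `q` members. -/
theorem card_principal {M : Ideal AlgInt} (S : Setup R W H w n) (hW : W = ⊥)
    (hM : IsPModular 2 M) : Nat.card (principalBlock M G) = 2 ^ n := by
  classical
  have : Fact (Nat.Prime 2) := ⟨Nat.prime_two⟩
  have := isPrime_of_pmodular hM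
  have := Fintype.ofFinite G
  have := Fintype.ofFinite (IrrCharacter G)
  haveI : Fintype (R : Subgroup G) := Fintype.ofFinite _
  obtain ⟨hk, he1, he2⟩ := irr_facts S hW
  have h8 : 2 ^ 3 ≤ 2 ^ n := Nat.pow_le_pow_right two_pos S.three_le
  have hfixR : ∀ χ : IrrCharacter G, ∃ m : ℕ, m ≤ charDegree (χ : G → ℂ) ∧
      ∑ r : (R : Subgroup G), (χ : G → ℂ) r = ((2 ^ n : ℕ) : ℂ) * (m : ℂ) := fun χ => by
    obtain ⟨m', ρ, -, hρ⟩ := χ.2
    refine ⟨Module.finrank ℂ (Representation.invariants (ρ.comp (R : Subgroup G).subtype)), ?_, ?_⟩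
    · refine (Submodule.finrank_le _).trans (le_of_eq ?_)
      rw [charDegree, ← hρ, Representation.char_one, Complex.natCast_re, Nat.floor_natCast]
    · have h := BrauerReynolds.sum_char_eq_finrank ρ (R : Subgroup G)
      rw [finsum_eq_sum_of_fintype, S.card_R] at h
      rw [← hρ]
      exact h
  have hone : ∃ t ∈ (R : Subgroup G), t ≠ 1 := by
    refine (Subgroup.bot_or_exists_ne_one (R : Subgroup G)).resolve_left fun h => ?_
    have h1 := S.card_R
    rw [h, Subgroup.card_bot] at h1
    omega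
  obtain ⟨t, htR, ht1⟩ := hone
  have hcz := cz_eq_sylow S hW htR ht1
  have hconst : ∀ (χ : IrrCharacter G) (r : G), r ∈ (R : Subgroup G) → r ≠ 1 →
      (χ : G → ℂ) r = (χ : G → ℂ) t := fun χ r hr hr1 => by
    obtain ⟨i, hi⟩ := S.w_trans t htR ht1 r hr hr1
    rw [← hi, Char.irr_isClassFunction χ.2]
  have hsum : ∀ χ : IrrCharacter G, ∑ r : (R : Subgroup G), (χ : G → ℂ) r =
      (charDegree (χ : G → ℂ) : ℂ) + ((2 ^ n - 1 : ℕ) : ℂ) * (χ : G → ℂ) t := fun χ => by
    rw [← Finset.add_sum_erase _ _ (Finset.mem_univ 1), OneMemClass.coe_one,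
      BlockB.irr_degree_cast,
      Finset.sum_congr rfl fun (r : (R : Subgroup G)) hr =>
        hconst χ r r.2 fun h => (Finset.mem_erase.1 hr).1 (Subtype.ext h),
      Finset.sum_const, Finset.card_erase_of_mem (Finset.mem_univ _), Finset.card_univ,
      ← Nat.card_eq_fintype_card, S.card_R, nsmul_eq_mul]
  have hord : orderOf t = 2 := orderOf_eq_prime (by rw [pow_two]; exact S.elem t htR) ht1
  have hnc : Cfsg.HasNormalPComplement 2 (cz t) := by
    obtain ⟨T⟩ := (inferInstance : Nonempty (Sylow 2 (cz t)))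
    have hpg : IsPGroup 2 (cz t) := by rw [hcz]; exact R.isPGroup'
    refine ⟨T, ⊥, inferInstance, ?_⟩
    rw [(T.is_maximal' (Q := ⊤) (hpg.to_subgroup ⊤) le_top).symm]
    exact Subgroup.isComplement'_bot_top
  obtain ⟨-, hnorm⟩ := principal_section hM (x := t) ⟨1, by rw [hord, pow_one]⟩ hnc
  rw [show Subgroup.centralizer ({t} : Set G) = (R : Subgroup G) from hcz, S.card_R,
    Nat.factorization_pow_self Nat.prime_two,
    finsum_mem_eq_finite_toFinset_sum _ (principalBlock M G).toFinite] at hnorm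
  have htot := Char.column_orthogonality t t
  rw [if_pos (IsConj.refl t), show Subgroup.centralizer ({t} : Set G) = (R : Subgroup G) from hcz,
    S.card_R, ← Finset.sum_add_sum_compl (principalBlock M G).toFinite.toFinset,
    hnorm, add_eq_left] at htot
  have hout : ∀ χ : IrrCharacter G, χ ∉ principalBlock M G → (χ : G → ℂ) t = 0 := fun χ hχ => by
    have hre : ∑ ψ ∈ ((principalBlock M G).toFinite.toFinset)ᶜ,
        Complex.normSq ((ψ : G → ℂ) t) = 0 := by
      have h := congrArg Complex.re htot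
      simpa [Complex.re_sum, Complex.mul_conj] using h
    have h1 := (Finset.sum_eq_zero_iff_of_nonneg fun ψ _ => Complex.normSq_nonneg _).1 hre χ
      (by simp [hχ])
    exact Complex.normSq_eq_zero.1 h1
  have hbound : ∀ χ ∈ principalBlock M G, Complex.normSq ((χ : G → ℂ) t) ≤ (2 ^ n : ℕ) := by
    intro χ hχ
    have h := congrArg Complex.re hnorm
    simp only [Complex.re_sum, Complex.mul_conj, Complex.ofReal_re, Complex.natCast_re] at h
    rw [← h]
    exact Finset.single_le_sum (f := fun ψ : IrrCharacter G => Complex.normSq ((ψ : G → ℂ) t))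
      (fun ψ _ => Complex.normSq_nonneg _) (by simpa using hχ)
  have hiff : ∀ χ : IrrCharacter G,
      χ ∈ principalBlock M G ↔ ¬ 2 ∣ charDegree (χ : G → ℂ) := by
    intro χ
    obtain ⟨m, hm, hfix⟩ := hfixR χ
    rw [hsum] at hfix
    constructor
    · intro hB h2
      have hx := he2 χ h2
      rw [hx] at hfix hm
      have hct : (χ : G → ℂ) t ≠ 0 := fun h0 => by
        have h3 := hB t
        change MemLocalIdeal M (centralChar (fun _ : G => (1 : ℂ)) t -
          centralChar (χ : G → ℂ) t) at h3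
        simp only [centralChar, h0, mul_zero, zero_div, sub_zero, mul_one, div_one] at h3
        have h4 := (memLocalIdeal_natCast_iff hM _).1 h3
        rw [show Subgroup.centralizer ({t} : Set G) = (R : Subgroup G) from hcz] at h4
        exact R.not_dvd_index h4
      have hq1 : ((2 ^ n - 1 : ℕ) : ℂ) ≠ 0 := Nat.cast_ne_zero.2 (by omega)
      rcases Nat.eq_zero_or_pos m with rfl | hm0
      · have hval : (χ : G → ℂ) t = -(((2 ^ n : ℕ) : ℂ) / ((2 ^ n - 1 : ℕ) : ℂ)) := by
          field_simp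
          rw [Nat.cast_zero, mul_zero] at hfix
          linear_combination hfix
        have hi := Char.dvd_of_isIntegral_div (a := 2 ^ n) (b := 2 ^ n - 1) (by omega) (by
          have h := (BlockB.irr_isIntegral χ t).neg
          rwa [hval, neg_neg] at h)
        have h5 := Nat.dvd_sub hi (dvd_refl (2 ^ n - 1))
        rw [show 2 ^ n - (2 ^ n - 1) = 1 by omega] at h5
        have := Nat.le_of_dvd one_pos h5
        omega
      · have hval : (χ : G → ℂ) t =
            ((2 ^ n * (m - 1) : ℕ) : ℂ) / ((2 ^ n - 1 : ℕ) : ℂ) := by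
          rw [eq_div_iff hq1]
          push_cast [Nat.cast_sub hm0] at hfix ⊢
          linear_combination hfix
        have hi := Char.dvd_of_isIntegral_div (a := 2 ^ n * (m - 1)) (b := 2 ^ n - 1) (by omega)
          (by have h := BlockB.irr_isIntegral χ t; rwa [hval] at h)
        have hcop : Nat.Coprime (2 ^ n - 1) (2 ^ n) := by
          rw [Nat.coprime_self_sub_left (by omega)]
          exact Nat.coprime_one_left _
        obtain ⟨k, hk⟩ := hcop.dvd_of_dvd_mul_left hi
        rcases Nat.eq_zero_or_pos k with rfl | hk0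
        · rw [mul_zero] at hk
          exact hct (by rw [hval, hk, mul_zero]; simp)
        · have hk1 : k = 1 := by
            by_contra hne
            have : (2 ^ n - 1) * 2 ≤ (2 ^ n - 1) * k := Nat.mul_le_mul_left _ (by omega)
            omega
          rw [hk1, mul_one] at hk
          have hb := hbound χ hB
          rw [hval, hk, Nat.cast_mul, mul_div_assoc, div_self hq1, mul_one,
            Complex.normSq_natCast] at hb
          have hb' : 2 ^ n * 2 ^ n ≤ 2 ^ n := by exact_mod_cast hb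
          nlinarith
    · intro h2
      by_contra hB
      rw [hout χ hB, mul_zero, add_zero] at hfix
      have h3 : charDegree (χ : G → ℂ) = 2 ^ n * m := by exact_mod_cast hfix
      exact h2 (h3 ▸ (dvd_pow_self 2 (by have := S.three_le; omega)).mul_right m)
  have hc : Nat.card (principalBlock M G) =
      Nat.card {χ : IrrCharacter G // ¬ 2 ∣ charDegree (χ : G → ℂ)} :=
    Nat.card_congr (Equiv.subtypeEquivRight hiff)
  rw [hc, Nat.card_eq_fintype_card, Fintype.card_subtype_compl, ← Nat.card_eq_fintype_card,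
    ← Nat.card_eq_fintype_card, hk, he1, Nat.add_sub_cancel]

end CfsgLib.BlockA.PrimeInertial
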