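import Cfsg.Agent.Lib.BlockA.PrimeInertial.Basic
import Cfsg.Agent.Lib.BlockA.FewPrincipal
import Cfsg.Agent.Lib.Block.PrincipalSection
import Cfsg.Agent.Lib.BlockB.ClassMul
import Cfsg.Agent.Lib.Comp.OrderFormula

/-!
The column of the principal block on the two-singular elements and the cube equation.
-/

set_option autoImplicit false
set_option linter.unusedSectionVars false

namespace CfsgLib.BlockA.PrimeInertial

open Cfsg
open scoped ComplexConjugate Classical

universe u

variable {G : Type u} [Group G] [Finite G] {R : Sylow 2 G} {W H : Subgroup G} {w : G} {n : ℕ}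

namespace Setup

theorem odd_order_mem_W (S : Setup R W H w n) {a : G} (ha : a ∈ W) : Odd (orderOf a) :=
  S.odd_W.of_dvd_nat (Subgroup.orderOf_dvd_natCard W ha)

theorem eq_one_of_mem_both (S : Setup R W H w n) {a : G} (haW : a ∈ W)
    (haR : a ∈ (R : Subgroup G)) : a = 1 :=
  CfsgLib.Invol.eq_one_of_sq_of_odd (S.elem a haR) (S.odd_order_mem_W haW)

theorem inv_eq_self (S : Setup R W H w n) {r : G} (hr : r ∈ (R : Subgroup G)) : r⁻¹ = r :=
  inv_eq_of_mul_eq_one_right (S.elem r hr)

theorem R_comm (S : Setup R W H w n) {r s : G} (hr : r ∈ (R : Subgroup G))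
    (hs : s ∈ (R : Subgroup G)) : Commute r s := by
  have h := S.inv_eq_self (mul_mem hr hs)
  rw [mul_inv_rev, S.inv_eq_self hr, S.inv_eq_self hs] at h
  exact h.symm

theorem order_two (S : Setup R W H w n) {r : G} (hr : r ∈ (R : Subgroup G)) (hr1 : r ≠ 1) :
    orderOf r = 2 :=
  CfsgLib.Invol.invol_of_mul_self (S.elem r hr) hr1

theorem mem_cz {t g : G} : g ∈ cz t ↔ Commute g t :=
  Subgroup.mem_centralizer_singleton_iff

/-- A member of the core times a member of the Sylow group has odd order only inside the core. -/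
theorem eq_one_of_odd_mul (S : Setup R W H w n) {c u : G} (hc : c ∈ W) (hu : u ∈ (R : Subgroup G))
    (h : Odd (orderOf (c * u))) : u = 1 := by
  have hk : ∀ k : ℕ, (c * u) ^ k * (u ^ k)⁻¹ ∈ W := by
    intro k
    induction k with
    | zero => simp
    | succ k ih =>
      have e : (c * u) ^ (k + 1) * (u ^ (k + 1))⁻¹ =
          c * (u * ((c * u) ^ k * (u ^ k)⁻¹) * u⁻¹) := by rw [pow_succ', pow_succ']; group
      rw [e]
      exact mul_mem hc (S.W_norm u (S.R_le hu) _ ih)
  have h1 := hk (orderOf (c * u))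
  rw [pow_orderOf_eq_one, one_mul, inv_mem_iff] at h1
  have h2 := S.eq_one_of_mem_both h1 (pow_mem hu _)
  by_contra hu1
  have h3 := orderOf_dvd_of_pow_eq_one h2
  rw [S.order_two hu hu1] at h3
  exact (Nat.not_even_iff_odd.2 h) (even_iff_two_dvd.2 h3)

theorem two_element_sq (S : Setup R W H w n) {g : G} (hg : ∃ k : ℕ, orderOf g = 2 ^ k) :
    g * g = 1 := by
  obtain ⟨k, hk⟩ := hg
  obtain ⟨a, ha⟩ := CfsgLib.Invol.exists_conj_mem_sylow R
    (IsPGroup.of_card (n := k) (G := Subgroup.zpowers g) (by rw [Nat.card_zpowers, hk]))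
  have h := S.elem _ (ha g (Subgroup.mem_zpowers g))
  have e : a * g * a⁻¹ * (a * g * a⁻¹) = a * (g * g) * a⁻¹ := by group
  rw [e] at h
  exact conj_eq_one_iff.1 h

theorem isConj_two_element (S : Setup R W H w n) {g t : G} (hg : g ≠ 1)
    (hgk : ∃ k : ℕ, orderOf g = 2 ^ k) (ht : t ∈ (R : Subgroup G)) (ht1 : t ≠ 1) :
    IsConj g t :=
  CfsgLib.Invol.se_isConj S.se (CfsgLib.Invol.invol_of_mul_self (S.two_element_sq hgk) hg)
    (S.order_two ht ht1)

theorem isConj_twoPart_iff (S : Setup R W H w n) {g t : G} (ht : t ∈ (R : Subgroup G))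
    (ht1 : t ≠ 1) : IsConj t (CfsgLib.Invol.twoPart g) ↔ CfsgLib.Invol.twoPart g ≠ 1 := by
  refine ⟨fun h h1 => ht1 (isConj_one_left.1 (h1 ▸ h)), fun h => ?_⟩
  exact (S.isConj_two_element h (CfsgLib.Invol.exists_orderOf_twoPart g) ht ht1).symm

theorem card_cz (S : Setup R W H w n) {t : G} (ht : t ∈ (R : Subgroup G)) (ht1 : t ≠ 1) :
    Nat.card (cz t) = Nat.card (W ⊓ cz t : Subgroup G) * 2 ^ n := by
  have h2 : ∀ a ∈ W ⊓ cz t, ∀ r ∈ (R : Subgroup G), a * r ∈ cz t :=
    fun a ha r hr => (S.cent t ht ht1 _).2 ⟨a, ha, r, hr, rfl⟩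
  rw [← S.card_R, ← Nat.card_prod]
  refine (Nat.card_eq_of_bijective (fun p : (W ⊓ cz t : Subgroup G) × (R : Subgroup G) =>
    (⟨(p.1 : G) * (p.2 : G), h2 _ p.1.2 _ p.2.2⟩ : cz t)) ⟨?_, ?_⟩).symm
  · rintro ⟨⟨a, ha⟩, ⟨r, hr⟩⟩ ⟨⟨b, hb⟩, ⟨s, hs⟩⟩ h
    have h' : a * r = b * s := congrArg Subtype.val h
    have h1 : b⁻¹ * a = s * r⁻¹ := by
      rw [eq_mul_inv_iff_mul_eq, mul_assoc, h', inv_mul_cancel_left]
    have h3 := S.eq_one_of_mem_both (mul_mem (inv_mem hb.1) ha.1)
      (by rw [h1]; exact mul_mem hs (inv_mem hr))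
    have hab : a = b := (inv_mul_eq_one.1 h3).symm
    subst hab
    have hrs : r = s := mul_left_cancel h'
    subst hrs
    rfl
  · rintro ⟨g, hg⟩
    obtain ⟨a, ha, r, hr, rfl⟩ := (S.cent t ht ht1 g).1 hg
    exact ⟨(⟨a, ha⟩, ⟨r, hr⟩), rfl⟩

theorem hasNormalPComplement_cz (S : Setup R W H w n) {t : G} (ht : t ∈ (R : Subgroup G))
    (ht1 : t ≠ 1) : HasNormalPComplement 2 (cz t) := by
  have hRt : (R : Subgroup G) ≤ cz t := fun r hr => mem_cz.2 (S.R_comm hr ht)
  have hNle : W ⊓ cz t ≤ cz t := inf_le_right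
  set N := (W ⊓ cz t).subgroupOf (cz t) with hN
  set P := (R : Subgroup G).subgroupOf (cz t) with hP
  have hNc : Nat.card N = Nat.card (W ⊓ cz t : Subgroup G) :=
    Nat.card_congr (Subgroup.subgroupOfEquivOfLe hNle).toEquiv
  have hPc : Nat.card P = 2 ^ n :=
    (Nat.card_congr (Subgroup.subgroupOfEquivOfLe hRt).toEquiv).trans S.card_R
  have hodd : Odd (Nat.card (W ⊓ cz t : Subgroup G)) :=
    S.odd_W.of_dvd_nat (Subgroup.card_dvd_of_le inf_le_left)
  have hidx : ¬ 2 ∣ P.index := by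
    have h := P.index_mul_card
    rw [hPc, S.card_cz ht ht1] at h
    rw [Nat.eq_of_mul_eq_mul_right (by positivity) h]
    exact fun hd => Nat.not_even_iff_odd.2 hodd (even_iff_two_dvd.2 hd)
  refine ⟨(IsPGroup.of_card hPc).toSylow hidx, N, ⟨fun m hm g => ?_⟩, ?_⟩
  · rw [hN, Subgroup.mem_subgroupOf] at hm ⊢
    have hgH : (g : G) ∈ H :=
      CfsgLib.Invol.se_centralizer_le S.se (S.order_two ht ht1) (S.R_le ht) g.2
    refine ⟨?_, (g * m * g⁻¹).2⟩
    push_cast
    exact S.W_norm _ hgH _ hm.1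
  · refine Subgroup.isComplement'_of_coprime ?_ ?_
    · show Nat.card N * Nat.card P = _
      rw [hNc, hPc, S.card_cz ht ht1]
    · show Nat.Coprime (Nat.card N) (Nat.card P)
      rw [hNc, hPc]
      exact Nat.Coprime.pow_right n (Nat.coprime_two_right.2 hodd)

/-- The centralizers in the core have one order. -/
theorem card_core_eq (S : Setup R W H w n) {s t : G} (hs : s ∈ (R : Subgroup G)) (hs1 : s ≠ 1)
    (ht : t ∈ (R : Subgroup G)) (ht1 : t ≠ 1) :
    Nat.card (W ⊓ cz s : Subgroup G) = Nat.card (W ⊓ cz t : Subgroup G) := by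
  obtain ⟨i, hi⟩ := S.w_trans s hs hs1 t ht ht1
  set c := w ^ i with hc
  have hcH : c ∈ H := pow_mem S.w_mem i
  refine Nat.card_congr ((MulAut.conj c).toEquiv.subtypeEquiv fun g => ?_)
  show g ∈ W ⊓ cz s ↔ c * g * c⁻¹ ∈ W ⊓ cz t
  rw [Subgroup.mem_inf, Subgroup.mem_inf, mem_cz, mem_cz, ← hi]
  refine and_congr ⟨fun h => S.W_norm c hcH g h, fun h => ?_⟩ ?_
  · have h1 := S.W_norm c⁻¹ (inv_mem hcH) _ h
    have e : c⁻¹ * (c * g * c⁻¹) * c⁻¹⁻¹ = g := by group
    rwa [e] at h1
  · exact (commute_conj_iff c).symm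
where
  commute_conj_iff {g s : G} (c : G) :
      Commute (c * g * c⁻¹) (c * s * c⁻¹) ↔ Commute g s := by
    constructor
    · intro h
      have h1 := congrArg (fun z => c⁻¹ * z * c) h.eq
      simpa [mul_assoc, Commute, SemiconjBy] using h1
    · intro h
      exact h.map (MulAut.conj c).toMonoidHom

/-- The order formula for a four group in the Sylow group. -/
theorem four_group_formula (S : Setup R W H w n) {t r : G} (ht : t ∈ (R : Subgroup G))
    (hr : r ∈ (R : Subgroup G)) (ht1 : t ≠ 1) (hr1 : r ≠ 1) (hne : r ≠ t) :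
    Nat.card W * Nat.card (W ⊓ cz t ⊓ cz r : Subgroup G) ^ 2 =
      Nat.card (W ⊓ cz t : Subgroup G) ^ 3 := by
  have hc := S.R_comm ht hr
  have htr : t * r ∈ (R : Subgroup G) := mul_mem ht hr
  have htr1 : t * r ≠ 1 := fun h => hne (by rw [← S.inv_eq_self ht]; exact (eq_inv_of_mul_eq_one_right h))
  have htt := S.elem t ht
  have hrr := S.elem r hr
  have e1 : t * r * t = r := by rw [hc.eq, mul_assoc, htt, mul_one]
  have e2 : r * (t * r) = t := by rw [← mul_assoc, ← hc.eq, mul_assoc, hrr, mul_one]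
  let E : Subgroup G :=
    { carrier := {1, t, r, t * r}
      one_mem' := by simp
      inv_mem' := by
        intro x hx
        simp only [Set.mem_insert_iff, Set.mem_singleton_iff] at hx ⊢
        rcases hx with rfl | rfl | rfl | rfl
        · simp
        · simp [S.inv_eq_self ht]
        · simp [S.inv_eq_self hr]
        · simp [S.inv_eq_self htr]
      mul_mem' := by
        intro x y hx hy
        simp only [Set.mem_insert_iff, Set.mem_singleton_iff] at hx hy ⊢
        rcases hx with rfl | rfl | rfl | rfl <;> rcases hy with rfl | rfl | rfl | rfl <;>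
          simp [htt, hrr, ← mul_assoc, S.elem _ htr, e1] <;>
          simp [mul_assoc, htt, hrr, ← hc.eq, e2] }
  have hmem : ∀ x : G, x ∈ E ↔ x = 1 ∨ x = t ∨ x = r ∨ x = t * r := fun x => Iff.rfl
  have hER : E ≤ (R : Subgroup G) := by
    intro x hx
    rcases (hmem x).1 hx with rfl | rfl | rfl | rfl
    exacts [one_mem _, ht, hr, htr]
  have hexp : ∀ x : E, x ^ 2 = 1 := fun x => Subtype.ext (by
    rw [SubmonoidClass.coe_pow, sq]; exact S.elem _ (hER x.2))
  have hcard : Nat.card E = 2 ^ 2 := by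
    show Nat.card ({1, t, r, t * r} : Set G) = _
    rw [Nat.card_coe_set_eq, Set.ncard_insert_of_notMem, Set.ncard_insert_of_notMem,
      Set.ncard_pair]
    · norm_num
    · exact fun h => ht1 (mul_eq_right.1 h.symm)
    · simp [hne.symm, hr1]
    · simp [ht1.symm, hr1.symm, htr1.symm]
  let : CommGroup E :=
    { (inferInstance : Group E) with
      mul_comm := fun a b => Subtype.ext (S.R_comm (hER a.2) (hER b.2)).eq }
  let := Fintype.ofFinite (CfsgLib.Comp.Lines 2 E)
  let gen : Fin 3 → E := ![⟨t, (hmem t).2 (by simp)⟩, ⟨r, (hmem r).2 (by simp)⟩,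
    ⟨t * r, (hmem _).2 (by simp)⟩]
  have hgen1 : ∀ i, gen i ≠ 1 := by
    intro i h
    have h' := congrArg Subtype.val h
    fin_cases i
    exacts [ht1 h', hr1 h', htr1 h']
  have hgo : ∀ i, orderOf (gen i) = 2 := fun i => orderOf_eq_prime (hexp _) (hgen1 i)
  let L : Fin 3 → CfsgLib.Comp.Lines 2 E := fun i =>
    ⟨Subgroup.zpowers (gen i), by rw [Nat.card_zpowers, hgo]⟩
  have hLinj : Function.Injective L := by
    intro i j h
    have h' : Subgroup.zpowers (gen i) = Subgroup.zpowers (gen j) := congrArg Subtype.val h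
    have hm : gen i ∈ Subgroup.zpowers (gen j) := h' ▸ Subgroup.mem_zpowers _
    obtain ⟨k, hk⟩ := hm
    have hij : gen i = gen j := by
      rw [← hk]
      show gen j ^ k = gen j
      rcases Int.even_or_odd' k with ⟨m, hm | hm⟩
      · exfalso
        apply hgen1 i
        rw [← hk]
        show gen j ^ k = 1
        rw [hm, zpow_mul, zpow_ofNat, hexp, one_zpow]
      · rw [hm, zpow_add, zpow_mul, zpow_ofNat, hexp, one_zpow, one_mul, zpow_one]
    have hv := congrArg Subtype.val hij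
    have n1 : t * r ≠ t := fun h => hr1 (mul_eq_left.1 h)
    have n2 : t * r ≠ r := fun h => ht1 (mul_eq_right.1 h)
    fin_cases i <;> fin_cases j <;> first
      | rfl
      | exact absurd hv hne.symm
      | exact absurd hv hne
      | exact absurd hv n1
      | exact absurd hv n1.symm
      | exact absurd hv n2
      | exact absurd hv n2.symm
  have hLbij : Function.Bijective L := (Fintype.bijective_iff_injective_and_card L).2 ⟨hLinj, by
    rw [Fintype.card_fin, ← Nat.card_eq_fintype_card, CfsgLib.Comp.card_lines hexp hcard]⟩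
  have hn : E.subtype.range ≤ Subgroup.normalizer (W : Set G) := by
    rw [Subgroup.range_subtype]
    intro x hx
    rw [Subgroup.mem_normalizer_iff]
    intro a
    refine ⟨fun h => S.W_norm x (S.R_le (hER hx)) a h, fun h => ?_⟩
    have h1 := S.W_norm x⁻¹ (inv_mem (S.R_le (hER hx))) _ h
    have e : x⁻¹ * (x * a * x⁻¹) * x⁻¹⁻¹ = a := by group
    rwa [e] at h1
  have hK : ¬ 2 ∣ Nat.card W := fun h =>
    Nat.not_even_iff_odd.2 S.odd_W (even_iff_two_dvd.2 h)
  have h := CfsgLib.Comp.card_formula hexp hcard E.subtype hK hn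
  rw [← Fintype.prod_bijective L hLbij (fun o => Nat.card ↥(W ⊓ Subgroup.centralizer
      (((L o).1.map E.subtype : Subgroup G) : Set G))) _ (fun o => rfl)] at h
  have hLc : ∀ o, Subgroup.centralizer (((L o).1.map E.subtype : Subgroup G) : Set G) =
      cz ((gen o : E) : G) := fun o => by
    rw [show (L o).1.map E.subtype = Subgroup.zpowers ((gen o : E) : G) from
      MonoidHom.map_zpowers _ _, Subgroup.zpowers_eq_closure, Subgroup.centralizer_closure]
  simp only [hLc, Fin.prod_univ_three] at h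
  have htop : W ⊓ Subgroup.centralizer (((⊤ : Subgroup E).map E.subtype : Subgroup G) : Set G) =
      W ⊓ cz t ⊓ cz r := by
    rw [← MonoidHom.range_eq_map, Subgroup.range_subtype, inf_assoc]
    congr 1
    ext g
    rw [Subgroup.mem_centralizer_iff, Subgroup.mem_inf, mem_cz, mem_cz]
    constructor
    · intro hg
      exact ⟨(hg t ((hmem t).2 (by simp))).symm, (hg r ((hmem r).2 (by simp))).symm⟩
    · rintro ⟨g1, g2⟩ x hx
      rcases (hmem x).1 hx with rfl | rfl | rfl | rfl
      exacts [(Commute.one_left g).eq, g1.symm.eq, g2.symm.eq, (g1.mul_right g2).symm.eq]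
  rw [htop] at h
  rw [h]
  show Nat.card (W ⊓ cz t : Subgroup G) * Nat.card (W ⊓ cz r : Subgroup G) *
    Nat.card (W ⊓ cz (t * r) : Subgroup G) = _
  rw [S.card_core_eq hr hr1 ht ht1, S.card_core_eq htr htr1 ht ht1]
  ring

/-- The orbit of an element under conjugation by a subgroup. -/
theorem card_orbit_mul [Fintype G] (K : Subgroup G) (u : G) :
    ((Finset.univ.filter fun a : G => a ∈ K).image fun a => a * u * a⁻¹).card *
      Nat.card (K ⊓ cz u : Subgroup G) = Nat.card K := by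
  set A := Finset.univ.filter fun a : G => a ∈ K with hA
  have hAc : A.card = Nat.card K := by
    rw [Nat.card_eq_fintype_card, hA, ← Fintype.card_subtype]
  rw [← hAc, Finset.card_eq_sum_card_image (fun a => a * u * a⁻¹) A, Finset.sum_const_nat]
  intro z hz
  obtain ⟨b, hb, rfl⟩ := Finset.mem_image.1 hz
  have hbK : b ∈ K := (Finset.mem_filter.1 hb).2
  rw [Nat.card_eq_fintype_card, Fintype.card_subtype]
  refine Finset.card_nbij' (fun a => b⁻¹ * a) (fun c => b * c) ?_ ?_ ?_ ?_
  · intro a ha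
    simp only [hA, Finset.mem_coe, Finset.mem_filter, Finset.mem_univ, true_and] at ha ⊢
    refine Subgroup.mem_inf.2 ⟨mul_mem (inv_mem hbK) ha.1, mem_cz.2 ?_⟩
    show b⁻¹ * a * u = u * (b⁻¹ * a)
    calc b⁻¹ * a * u = b⁻¹ * (a * u * a⁻¹) * a := by group
      _ = b⁻¹ * (b * u * b⁻¹) * a := by rw [ha.2]
      _ = u * (b⁻¹ * a) := by group
  · intro c hc
    simp only [hA, Finset.mem_coe, Finset.mem_filter, Finset.mem_univ, true_and,
      Subgroup.mem_inf, mem_cz] at hc ⊢
    refine ⟨mul_mem hbK hc.1, ?_⟩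
    rw [mul_inv_rev, mul_assoc b c u, hc.2.eq]
    group
  · intro a _; simp
  · intro c _; simp

end Setup

open Setup in
/-- An involution centralizing `u` lies in a conjugate of the Sylow part under the core. -/
theorem exists_conj_core (S : Setup R W H w n) {u x : G} (hu : u ∈ (R : Subgroup G)) (hu1 : u ≠ 1)
    (hx : x ∈ cz u) (hx2 : orderOf x = 2) :
    ∃ s ∈ (R : Subgroup G), s ≠ 1 ∧ ∃ b ∈ W ⊓ cz u, x = b * s ∧
      ∃ a ∈ W ⊓ cz u, x = a * s * a⁻¹ := by
  obtain ⟨b, hb, s, hs, rfl⟩ := (S.cent u hu hu1 x).1 hx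
  have hs1 : s ≠ 1 := by
    rintro rfl
    rw [mul_one] at hx2
    have := S.odd_order_mem_W hb.1
    rw [hx2] at this
    exact absurd this (by decide)
  refine ⟨s, hs, hs1, b, hb, rfl, ?_⟩
  have hs2 := S.order_two hs hs1
  have e : b * s * s = b := by rw [mul_assoc, S.elem s hs, mul_one]
  obtain ⟨d, hd, hd'⟩ := CfsgLib.Invol.exists_conj_of_odd hx2 hs2 (by
    rw [e]; exact S.odd_order_mem_W hb.1)
  rw [e] at hd
  refine ⟨d⁻¹, inv_mem (Subgroup.zpowers_le.2 hb hd), ?_⟩
  conv_rhs => enter [1, 2]; rw [← hd']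
  group

open Setup in
/-- The block value at an involution is a rational integer. -/
theorem exists_int_value (S : Setup R W H w n) {t : G} (ht : t ∈ (R : Subgroup G)) (ht1 : t ≠ 1)
    (χ : IrrCharacter G) : ∃ k : ℤ, (χ : G → ℂ) t = (k : ℂ) := by
  have ho2 := S.order_two ht ht1
  obtain ⟨q, hq⟩ := CfsgLib.Char.exists_rat_of_emb_fixed
    (CfsgLib.Char.charVal (CfsgLib.Char.irr_isCharacter χ.2) t) fun ψ => by
      obtain ⟨m, hm, hψ⟩ := CfsgLib.Char.exists_pow_of_emb (Nat.card_pos (α := G)) ψ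
      rw [CfsgLib.Char.emb_charVal (CfsgLib.Char.irr_isCharacter χ.2) ψ hψ t]
      refine CfsgLib.Char.isClassFunction_isConj (CfsgLib.Char.irr_isClassFunction χ.2) ?_
      have ho : orderOf (t ^ m) = orderOf t :=
        Nat.Coprime.orderOf_pow (Nat.Coprime.coprime_dvd_left (orderOf_dvd_natCard t) hm.symm)
      exact CfsgLib.Invol.se_isConj S.se (ho.trans ho2) ho2
  have hq' : (χ : G → ℂ) t = (q : ℂ) := hq
  obtain ⟨k, rfl⟩ := CfsgLib.Char.exists_int_of_isIntegral_rat (q := q) (by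
    rw [← hq']; exact CfsgLib.BlockB.irr_isIntegral χ t)
  exact ⟨k, by rw [hq', Rat.cast_intCast]⟩

open Setup in
/-- The two-part fibre over an involution. -/
theorem filter_twoPart_eq [Fintype G] (S : Setup R W H w n) {t : G} (ht : t ∈ (R : Subgroup G))
    (ht1 : t ≠ 1) : (Finset.univ.filter fun g : G => CfsgLib.Invol.twoPart g = t) =
      (Finset.univ.filter fun a : G => a ∈ W ⊓ cz t).image fun a => t * a := by
  ext g
  simp only [Finset.mem_filter, Finset.mem_univ, true_and, Finset.mem_image]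
  constructor
  · intro hg
    obtain ⟨v, hv, hc, -, hvodd⟩ := CfsgLib.Invol.twoPart_spec g
    rw [hg] at hv hc
    obtain ⟨a, ha, r, hr, rfl⟩ := (S.cent t ht ht1 v).1 (mem_cz.2 hc.symm)
    have hr1 := S.eq_one_of_odd_mul ha.1 hr
      (Nat.not_even_iff_odd.1 fun h => hvodd (even_iff_two_dvd.1 h))
    subst hr1
    exact ⟨a, ha, by rw [← hv, mul_one]⟩
  · rintro ⟨a, ha, rfl⟩
    exact CfsgLib.Invol.twoPart_mul (mem_cz.1 ha.2).symm ⟨1, by rw [S.order_two ht ht1, pow_one]⟩
      (S.odd_order_mem_W ha.1)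

open Setup in
/-- Constancy and norm on the section of an involution. -/
theorem block_section (S : Setup R W H w n) {M : Ideal AlgInt} (hM : IsPModular 2 M) {t : G}
    (ht : t ∈ (R : Subgroup G)) (ht1 : t ≠ 1) :
    (∀ χ ∈ principalBlock M G, ∀ g : G, CfsgLib.Invol.twoPart g ≠ 1 →
      (χ : G → ℂ) g = (χ : G → ℂ) t) ∧
    (∑ᶠ χ ∈ principalBlock M G, (χ : G → ℂ) t * conj ((χ : G → ℂ) t) = ((2 ^ n : ℕ) : ℂ)) := by
  obtain ⟨h1, h2⟩ := CfsgLib.Block.principal_section hM (x := t)
    ⟨1, by rw [S.order_two ht ht1, pow_one]⟩ (S.hasNormalPComplement_cz ht ht1)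
  constructor
  · intro χ hχ g hg
    obtain ⟨c, hc⟩ := isConj_iff.1 ((S.isConj_twoPart_iff ht ht1).2 hg).symm
    have hcl : (χ : G → ℂ) (c * g * c⁻¹) = (χ : G → ℂ) g :=
      CfsgLib.Char.irr_isClassFunction χ.2 g c
    obtain ⟨v, hv, hcm, -, hvodd⟩ := CfsgLib.Invol.twoPart_spec (c * g * c⁻¹)
    rw [CfsgLib.Invol.twoPart_conj, hc] at hv hcm
    rw [← hcl, ← hv]
    exact h1 χ hχ v hcm hvodd
  · rw [h2]
    congr 2
    have hodd : Odd (Nat.card (W ⊓ cz t : Subgroup G)) :=
      S.odd_W.of_dvd_nat (Subgroup.card_dvd_of_le inf_le_left)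
    show (Nat.card (cz t)).factorization 2 = n
    rw [S.card_cz ht ht1, Nat.factorization_mul Nat.card_pos.ne' (by positivity),
      Finsupp.add_apply, Nat.factorization_pow_self Nat.prime_two,
      Nat.factorization_eq_zero_of_not_dvd fun h =>
        Nat.not_even_iff_odd.2 hodd (even_iff_two_dvd.2 h), zero_add]

theorem sum_core_eq_zero (S : Setup R W H w n) {M : Ideal AlgInt} (hM : IsPModular 2 M)
    {χ : IrrCharacter G} (hχ : χ ∉ principalBlock M G) {t : G} (ht : t ∈ (R : Subgroup G))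
    (ht1 : t ≠ 1) :
    ∑ᶠ a ∈ ((W ⊓ cz t : Subgroup G) : Set G), (χ : G → ℂ) (t * a) = 0 := by
  have := CfsgLib.Block.isPrime_of_pmodular hM
  have := Fintype.ofFinite G
  obtain ⟨hconst, hnorm⟩ := block_section S hM ht ht1
  set B := (principalBlock M G).toFinite.toFinset with hBdef
  have hF : ∀ g : G, ∑ χ' ∈ B, (χ' : G → ℂ) t * conj ((χ' : G → ℂ) g) =
      if CfsgLib.Invol.twoPart g ≠ 1 then ((2 ^ n : ℕ) : ℂ) else 0 := by
    intro g
    rw [hBdef, ← finsum_mem_eq_finite_toFinset_sum]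
    split_ifs with hg
    · rw [← hnorm]
      exact finsum_congr fun χ' => finsum_congr fun h => by rw [hconst χ' h g hg]
    · exact CfsgLib.Block.sum_block_eq_zero hM CfsgLib.Block.isPBlock_principalBlock
        (CfsgLib.Block.isPPart_self ⟨1, by rw [S.order_two ht ht1, pow_one]⟩ Nat.prime_two)
        (CfsgLib.Invol.twoPart_spec g) (fun hc => hg fun h1 =>
          ht1 (isConj_one_left.1 (h1 ▸ hc)))
  have h0 : ∑ g : G, (χ : G → ℂ) g *
      (if CfsgLib.Invol.twoPart g ≠ 1 then ((2 ^ n : ℕ) : ℂ) else 0) = 0 := by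
    simp only [← hF, Finset.mul_sum]
    rw [Finset.sum_comm]
    refine Finset.sum_eq_zero fun χ' hχ' => ?_
    have hne : (χ : G → ℂ) ≠ (χ' : G → ℂ) := fun e => hχ (by
      rw [Subtype.ext e]; exact (Set.Finite.mem_toFinset _).1 hχ')
    have h := CfsgLib.Char.irr_classInner_ne χ.2 χ'.2 hne
    rw [CfsgLib.Char.classInner_def, mul_eq_zero, inv_eq_zero] at h
    have h' := h.resolve_left CfsgLib.Char.natCard_ne_zero
    rw [← mul_zero ((χ' : G → ℂ) t), ← h', Finset.mul_sum]
    exact Finset.sum_congr rfl fun g _ => by ring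
  have h1 : ∑ g ∈ Finset.univ.filter (fun g => IsConj t (CfsgLib.Invol.twoPart g)),
      (χ : G → ℂ) g = 0 := by
    rw [Finset.filter_congr (fun g _ => S.isConj_twoPart_iff (g := g) ht ht1)]
    simp only [mul_ite, mul_zero, ← Finset.sum_filter, ← Finset.sum_mul] at h0
    exact (mul_eq_zero.1 h0).resolve_right (by simp)
  rw [CfsgLib.Invol.sum_section t (CfsgLib.Char.irr_isClassFunction χ.2), mul_eq_zero] at h1
  have h2 := h1.resolve_left (Nat.cast_ne_zero.2 Subgroup.index_ne_zero_of_finite)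
  rw [filter_twoPart_eq S ht ht1, Finset.sum_image (fun a _ b _ h => mul_left_cancel h)] at h2
  rw [← h2]
  exact finsum_mem_eq_sum_filter' _ _
where
  finsum_mem_eq_sum_filter' [Fintype G] (K : Subgroup G) (f : G → ℂ) :
      ∑ᶠ a ∈ (K : Set G), f a = ∑ a ∈ Finset.univ.filter (fun a : G => a ∈ K), f a := by
    rw [finsum_mem_eq_finite_toFinset_sum _ (Set.toFinite _)]
    congr 1
    ext a
    simp

open Setup in
/-- The number of solutions of the even product condition. -/
theorem count_even_products [Fintype G] (S : Setup R W H w n) {t : G} (ht : t ∈ (R : Subgroup G))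
    (ht1 : t ≠ 1) :
    (Finset.univ.filter fun s : G => CfsgLib.Invol.twoPart (t * (s * t * s⁻¹)) ≠ 1).card =
      2 ^ n * (2 ^ n - 2) * Nat.card W := by
  set O := Nat.card (W ⊓ cz t : Subgroup G) with hO
  have ht2 := S.order_two ht ht1
  set Xs := Finset.univ.filter fun x : G =>
    orderOf x = 2 ∧ CfsgLib.Invol.twoPart (t * x) ≠ 1 with hXs
  -- fibres over the class
  have hfib : (Finset.univ.filter fun s : G =>
      CfsgLib.Invol.twoPart (t * (s * t * s⁻¹)) ≠ 1).card = Xs.card * Nat.card (cz t) := by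
    rw [Finset.card_eq_sum_card_fiberwise (f := fun s => s * t * s⁻¹) (t := Xs), Finset.sum_const_nat]
    · intro x hx
      obtain ⟨b, rfl⟩ := isConj_iff.1
        (CfsgLib.Invol.se_isConj S.se ht2 (Finset.mem_filter.1 hx).2.1)
      rw [Nat.card_eq_fintype_card, Fintype.card_subtype]
      refine Finset.card_nbij' (fun a => b⁻¹ * a) (fun c => b * c) ?_ ?_ ?_ ?_
      · intro a ha
        simp only [Finset.mem_coe, Finset.mem_filter, Finset.mem_univ, true_and, mem_cz] at ha ⊢
        show b⁻¹ * a * t = t * (b⁻¹ * a)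
        calc b⁻¹ * a * t = b⁻¹ * (a * t * a⁻¹) * a := by group
          _ = b⁻¹ * (b * t * b⁻¹) * a := by rw [ha.2]
          _ = t * (b⁻¹ * a) := by group
      · intro c hc
        simp only [Finset.mem_coe, Finset.mem_filter, Finset.mem_univ, true_and, mem_cz] at hc ⊢
        have e : b * c * t * (b * c)⁻¹ = b * t * b⁻¹ := by
          rw [mul_inv_rev, mul_assoc b c t, hc.eq]; group
        rw [e]
        exact ⟨(Finset.mem_filter.1 hx).2.2, rfl⟩
      · intro a _; simp
      · intro c _; simp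
    · intro s hs
      simp only [hXs, Finset.mem_coe, Finset.mem_filter, Finset.mem_univ, true_and] at hs ⊢
      exact ⟨by rw [CfsgLib.Invol.orderOf_conj_eq, ht2], hs⟩
  set T := Finset.univ.filter fun r : G => r ∈ (R : Subgroup G) ∧ r ≠ 1 ∧ r ≠ t with hT
  set orb : Subgroup G → G → Finset G := fun K u =>
    (Finset.univ.filter fun a : G => a ∈ K).image fun a => a * u * a⁻¹ with horb
  have memorb : ∀ (K : Subgroup G) (u x : G), x ∈ orb K u ↔ ∃ a ∈ K, a * u * a⁻¹ = x := by
    intro K u x; simp [horb]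
  set Z := T.biUnion fun r => orb (W ⊓ cz t) r with hZdef
  -- the middle involution
  have hmid : ∀ x ∈ Xs, CfsgLib.Invol.twoPart (t * x) ∈ Z := by
    intro x hx
    obtain ⟨hx2, hz1⟩ := (Finset.mem_filter.1 hx).2
    set z := CfsgLib.Invol.twoPart (t * x) with hz
    have hz2 : orderOf z = 2 :=
      CfsgLib.Invol.invol_of_mul_self (S.two_element_sq (CfsgLib.Invol.exists_orderOf_twoPart _)) hz1
    have hzc : Commute z (t * x) := CfsgLib.Invol.twoPart_commute_self _
    -- `t` inverts `t * x`, so it fixes its involution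
    have hzt : Commute z t := by
      have h := CfsgLib.Invol.twoPart_conj t (t * x)
      rw [CfsgLib.Invol.conj_left_mul ht2 hx2, ← hz] at h
      have h' : CfsgLib.Invol.twoPart ((t * x)⁻¹) = z⁻¹ := by
        refine CfsgLib.Invol.twoPart_eq ?_
        obtain ⟨v, hv, hc, hk, hv'⟩ := CfsgLib.Invol.twoPart_spec (t * x)
        refine ⟨v⁻¹, ?_, hc.inv_inv, ?_, ?_⟩
        · rw [← hv, mul_inv_rev, hc.inv_inv.eq]
        · rwa [orderOf_inv]
        · rwa [orderOf_inv]
      rw [h', CfsgLib.Invol.invol_inv hz2] at h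
      exact ((eq_mul_inv_iff_mul_eq.1 h) : z * t = t * z)
    obtain ⟨r, hr, hr1, b, hb, hbr, a, ha, hza⟩ :=
      exists_conj_core S ht ht1 (mem_cz.2 hzt) hz2
    refine Finset.mem_biUnion.2 ⟨r, Finset.mem_filter.2 ⟨Finset.mem_univ _, hr, hr1, ?_⟩,
      (memorb _ _ _).2 ⟨a, ha, hza.symm⟩⟩
    rintro rfl
    have hzt' : z = r := by rw [hza, (mem_cz.1 ha.2).eq, mul_inv_cancel_right]
    obtain ⟨v, hv, hcv, -, hvodd⟩ := CfsgLib.Invol.twoPart_spec (r * x)
    rw [← hz, hzt'] at hv
    rw [mul_left_cancel hv] at hvodd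
    exact hvodd (by rw [hx2])
  rw [hfib, Finset.card_eq_sum_card_fiberwise (f := fun x => CfsgLib.Invol.twoPart (t * x)) hmid,
    hZdef, Finset.sum_biUnion]
  swap
  · intro r hr r' hr' hne
    simp only [hT, Finset.coe_filter, Finset.mem_univ, true_and, Set.mem_setOf_eq] at hr hr'
    rw [Function.onFun, Finset.disjoint_left]
    intro z hz hz'
    obtain ⟨a, ha, rfl⟩ := (memorb _ _ _).1 hz
    obtain ⟨b, hb, hab⟩ := (memorb _ _ _).1 hz'
    apply hne
    have hc : b⁻¹ * a ∈ W := mul_mem (inv_mem hb.1) ha.1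
    have e : r' * r⁻¹ = (b⁻¹ * a) * (r * (b⁻¹ * a)⁻¹ * r⁻¹) := by
      rw [show r' = b⁻¹ * (b * r' * b⁻¹) * b by group, hab]; group
    have := S.eq_one_of_mem_both (e ▸ mul_mem hc (S.W_norm r (S.R_le hr.1) _ (inv_mem hc)))
      (mul_mem hr'.1 (inv_mem hr.1))
    exact (mul_inv_eq_one.1 this).symm
  have hterm : ∀ r ∈ T, (∑ z ∈ orb (W ⊓ cz t) r,
      (Xs.filter fun x => CfsgLib.Invol.twoPart (t * x) = z).card) * O = Nat.card W := by
    intro r hr
    obtain ⟨hrR, hr1, hrt⟩ := (Finset.mem_filter.1 hr).2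
    have hrt' : Commute r t := S.R_comm hrR ht
    have hsR : t * r ∈ (R : Subgroup G) := mul_mem ht hrR
    have hs1 : t * r ≠ 1 := fun h =>
      hrt (by rw [← S.inv_eq_self ht]; exact eq_inv_of_mul_eq_one_right h)
    have hr2 := S.order_two hrR hr1
    -- the fibre over `r`
    have hf : (Xs.filter fun x => CfsgLib.Invol.twoPart (t * x) = r) = orb (W ⊓ cz r) (t * r) := by
      ext x
      rw [memorb]
      simp only [hXs, Finset.mem_filter, Finset.mem_univ, true_and]
      constructor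
      · rintro ⟨⟨hx2, -⟩, hxr⟩
        have hc : Commute r (t * x) := hxr ▸ CfsgLib.Invol.twoPart_commute_self (t * x)
        have hcx : Commute r x := by
          have := hrt'.mul_right hc
          rwa [← mul_assoc, S.elem t ht, one_mul] at this
        obtain ⟨s, hs, -, b, hb, hbs, a, ha, hxa⟩ :=
          exists_conj_core S hrR hr1 (mem_cz.2 hcx.symm) hx2
        obtain ⟨v, hv, -, -, hvodd⟩ := CfsgLib.Invol.twoPart_spec (t * x)
        rw [hxr, hbs] at hv
        have hve : v = ((r * t) * b * (r * t)⁻¹) * ((r * t) * s) := by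
          rw [← mul_right_inj r, hv, show r * ((r * t) * b * (r * t)⁻¹ * ((r * t) * s)) =
            (r * r) * t * b * s by group, S.elem r hrR, one_mul]
          group
        have hs' := S.eq_one_of_odd_mul
          (S.W_norm _ (S.R_le (mul_mem hrR ht)) b hb.1) (mul_mem (mul_mem hrR ht) hs)
          (Nat.not_even_iff_odd.1 fun h => hvodd (hve ▸ even_iff_two_dvd.1 h))
        have hs'' : s = t * r := by
          rw [eq_inv_of_mul_eq_one_right hs', mul_inv_rev, S.inv_eq_self ht, S.inv_eq_self hrR]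
        exact ⟨a, ha, by rw [hxa, hs'']⟩
      · rintro ⟨a, ha, rfl⟩
        have hxr : CfsgLib.Invol.twoPart (t * (a * (t * r) * a⁻¹)) = r := by
          have hca : Commute a r := mem_cz.1 ha.2
          have hmem : r * t * a * (r * t)⁻¹ * a⁻¹ ∈ W :=
            mul_mem (S.W_norm _ (S.R_le (mul_mem hrR ht)) a ha.1) (inv_mem ha.1)
          have hcr : Commute r (r * t * a * (r * t)⁻¹ * a⁻¹) := by
            have h1 : Commute r (r * t) := (Commute.refl r).mul_right hrt'
            exact ((h1.mul_right hca.symm).mul_right h1.inv_right).mul_right hca.symm.inv_right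
          have e : t * (a * (t * r) * a⁻¹) = r * (r * t * a * (r * t)⁻¹ * a⁻¹) := by
            rw [show r * (r * t * a * (r * t)⁻¹ * a⁻¹) = (r * r) * t * a * (t⁻¹ * r⁻¹) * a⁻¹ by
              group, S.elem r hrR, one_mul, S.inv_eq_self ht, S.inv_eq_self hrR]
            group
          rw [e]
          exact CfsgLib.Invol.twoPart_mul hcr ⟨1, by rw [hr2, pow_one]⟩ (S.odd_order_mem_W hmem)
        refine ⟨⟨?_, ?_⟩, hxr⟩
        · rw [CfsgLib.Invol.orderOf_conj_eq]; exact S.order_two hsR hs1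
        · rw [hxr]; exact hr1
    have hconst : ∀ z ∈ orb (W ⊓ cz t) r,
        (Xs.filter fun x => CfsgLib.Invol.twoPart (t * x) = z).card =
          (Xs.filter fun x => CfsgLib.Invol.twoPart (t * x) = r).card := by
      intro z hz
      obtain ⟨a, ha, rfl⟩ := (memorb _ _ _).1 hz
      have hat : Commute a t := mem_cz.1 ha.2
      have key : ∀ (c : G), Commute c t → ∀ x : G, t * (c * x * c⁻¹) = c * (t * x) * c⁻¹ := by
        intro c hc x
        rw [← mul_assoc, ← mul_assoc, ← hc.eq]; group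
      refine Finset.card_nbij' (fun x => a⁻¹ * x * a) (fun x => a * x * a⁻¹) ?_ ?_ ?_ ?_
      · intro x hx
        simp only [hXs, Finset.mem_coe, Finset.mem_filter, Finset.mem_univ, true_and] at hx ⊢
        have e := key a⁻¹ hat.inv_left x
        rw [inv_inv] at e
        have e2 : CfsgLib.Invol.twoPart (t * (a⁻¹ * x * a)) = r := by
          have h := CfsgLib.Invol.twoPart_conj a⁻¹ (t * x)
          rw [inv_inv, hx.2, ← e] at h
          rw [h]; group
        refine ⟨⟨?_, e2 ▸ hr1⟩, e2⟩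
        rw [CfsgLib.Invol.orderOf_conj_inv_eq]; exact hx.1.1
      · intro x hx
        simp only [hXs, Finset.mem_coe, Finset.mem_filter, Finset.mem_univ, true_and] at hx ⊢
        have e2 : CfsgLib.Invol.twoPart (t * (a * x * a⁻¹)) = a * r * a⁻¹ := by
          rw [key a hat x, CfsgLib.Invol.twoPart_conj, hx.2]
        refine ⟨⟨?_, ?_⟩, e2⟩
        · rw [CfsgLib.Invol.orderOf_conj_eq]; exact hx.1.1
        · rw [e2]; exact fun h => hr1 (conj_eq_one_iff.1 h)
      · intro x _; group
      · intro x _; group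
    rw [Finset.sum_congr rfl hconst, Finset.sum_const, smul_eq_mul, hf]
    have h1 := card_orbit_mul (W ⊓ cz t) r
    have h2 := card_orbit_mul (W ⊓ cz r) (t * r)
    rw [show W ⊓ cz r ⊓ cz (t * r) = W ⊓ cz t ⊓ cz r from ?_,
      S.card_core_eq hrR hr1 ht ht1] at h2
    swap
    · ext g
      simp only [Subgroup.mem_inf, mem_cz]
      constructor
      · rintro ⟨⟨g0, g1⟩, g2⟩
        have := g2.mul_right g1
        rw [mul_assoc, S.elem r hrR, mul_one] at this
        exact ⟨⟨g0, this⟩, g1⟩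
      · rintro ⟨⟨g0, g1⟩, g2⟩
        exact ⟨⟨g0, g2⟩, g1.mul_right g2⟩
    have h3 := S.four_group_formula ht hrR ht1 hr1 hrt
    rw [← hO] at h1 h2 h3
    set m := Nat.card (W ⊓ cz t ⊓ cz r : Subgroup G)
    set A := (orb (W ⊓ cz t) r).card
    set B := (orb (W ⊓ cz r) (t * r)).card
    have hA : A * m = O := h1
    have hB : B * m = O := h2
    have hm : 0 < m ^ 2 := pow_pos Nat.card_pos 2
    refine Nat.eq_of_mul_eq_mul_right hm ?_
    calc A * B * O * m ^ 2 = (A * m) * (B * m) * O := by ring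
      _ = O ^ 3 := by rw [hA, hB]; ring
      _ = _ := h3.symm
  have hTc : T.card = 2 ^ n - 2 := by
    have e : T = ((Finset.univ.filter fun r : G => r ∈ (R : Subgroup G)).erase 1).erase t := by
      ext r; simp [hT]; tauto
    rw [e, Finset.card_erase_of_mem, Finset.card_erase_of_mem, ← Fintype.card_subtype,
      ← Nat.card_eq_fintype_card, S.card_R, Nat.sub_sub]
    · simp
    · simp [ht, ht1]
  rw [S.card_cz ht ht1, ← hO]
  calc (∑ r ∈ T, ∑ z ∈ orb (W ⊓ cz t) r,
        (Xs.filter fun x => CfsgLib.Invol.twoPart (t * x) = z).card) * (O * 2 ^ n)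
      = (∑ r ∈ T, (∑ z ∈ orb (W ⊓ cz t) r,
        (Xs.filter fun x => CfsgLib.Invol.twoPart (t * x) = z).card) * O) * 2 ^ n := by
        rw [← Finset.sum_mul]; ring
    _ = _ := by rw [Finset.sum_congr rfl hterm, Finset.sum_const, smul_eq_mul, hTc]; ring

open Setup in
theorem exists_column [Fintype G] (S : Setup R W H w n) {M : Ideal AlgInt}
    (hM : IsPModular 2 M) : ∃ d : IrrCharacter G → ℤ, Column M n H.index d := by
  have := Fintype.ofFinite (IrrCharacter G)
  have := CfsgLib.Block.isPrime_of_pmodular hM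
  obtain ⟨t, ht, ht1⟩ : ∃ t ∈ (R : Subgroup G), t ≠ 1 := by
    refine (Subgroup.ne_bot_iff_exists_ne_one.1 fun h => ?_).elim fun t ht =>
      ⟨t, t.2, fun e => ht (Subtype.ext (by simpa using e))⟩
    have hc := S.card_R
    rw [h, Subgroup.card_bot] at hc
    have := Nat.one_lt_two_pow (n := n) (by have := S.three_le; omega)
    omega
  choose d hd using exists_int_value S ht ht1
  obtain ⟨hconst, hnorm⟩ := block_section S hM ht ht1
  set B := (principalBlock M G).toFinite.toFinset with hBdef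
  refine ⟨d, ⟨fun χ hχ g hg => by rw [hconst χ hχ g hg, hd], fun χ hχ => ?_, ?_, ?_, ?_⟩⟩
  · have := hd χ
    rw [hχ] at this
    simp only at this
    exact_mod_cast this.symm
  · rw [← hBdef]
    rw [finsum_mem_eq_finite_toFinset_sum _ (Set.toFinite _)] at hnorm
    simp only [hd, map_intCast] at hnorm
    exact_mod_cast hnorm
  · have h := CfsgLib.Block.sum_block_eq_zero_of_regular_singular hM
      (B := principalBlock M G) CfsgLib.Block.isPBlock_principalBlock (g := (1 : G)) (h := t)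
      (by rw [orderOf_one]; decide) (by rw [S.order_two ht ht1])
    rw [finsum_mem_eq_finite_toFinset_sum _ (Set.toFinite _)] at h
    simp only [hd, map_intCast, ← CfsgLib.BlockB.irr_degree_cast] at h
    rw [← hBdef]
    have h' : ∑ χ ∈ B, (d χ : ℂ) * ((charDegree (χ : G → ℂ) : ℤ) : ℂ) = 0 := by
      rw [← h]; exact Finset.sum_congr rfl fun χ _ => by push_cast; ring
    exact_mod_cast h'
  set θ : G → ℂ := fun g => if CfsgLib.Invol.twoPart g ≠ 1 then 1 else 0 with hθ
  have hθcl : IsClassFunction G θ := fun g h => by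
    simp only [hθ, CfsgLib.Invol.twoPart_conj, ne_eq, conj_eq_one_iff]
  set O := Nat.card (W ⊓ cz t : Subgroup G) with hO
  have hidx : ((cz t).index : ℂ) * (O : ℂ) * (2 : ℂ) ^ n = (Nat.card G : ℂ) := by
    have h := (cz t).index_mul_card
    rw [S.card_cz ht ht1, ← hO, ← mul_assoc] at h
    exact_mod_cast h
  have hinner : ∀ χ : IrrCharacter G, classInner θ (χ : G → ℂ) =
      if χ ∈ B then (d χ : ℂ) / (2 : ℂ) ^ n else 0 := by
    intro χ
    have hs : ∑ g : G, θ g * conj ((χ : G → ℂ) g) = conj (((cz t).index : ℂ) *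
        ∑ a ∈ Finset.univ.filter (fun a : G => a ∈ W ⊓ cz t), (χ : G → ℂ) (t * a)) := by
      have hsec := CfsgLib.Invol.sum_section t (CfsgLib.Char.irr_isClassFunction χ.2)
      rw [Finset.filter_congr (fun g _ => S.isConj_twoPart_iff (g := g) ht ht1),
        filter_twoPart_eq S ht ht1, Finset.sum_image (fun a _ b _ h => mul_left_cancel h)] at hsec
      rw [← hsec, map_sum, Finset.sum_filter]
      exact Finset.sum_congr rfl fun g _ => by simp only [hθ]; split_ifs <;> simp
    rw [CfsgLib.Char.classInner_def, hs]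
    split_ifs with hχ
    · rw [Finset.sum_congr rfl (g := fun _ => (d χ : ℂ)) fun a ha => ?_, Finset.sum_const,
        nsmul_eq_mul, ← Fintype.card_subtype, ← Nat.card_eq_fintype_card, ← hO]
      · simp only [map_mul, map_natCast, map_intCast]
        rw [← hidx]
        have : ((cz t).index : ℂ) ≠ 0 := Nat.cast_ne_zero.2 Subgroup.index_ne_zero_of_finite
        have : (O : ℂ) ≠ 0 := Nat.cast_ne_zero.2 Nat.card_pos.ne'
        field_simp
      · have ha' := (Finset.mem_filter.1 ha).2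
        rw [← hd χ, hconst χ ((Set.Finite.mem_toFinset _).1 hχ)]
        rw [CfsgLib.Invol.twoPart_mul (mem_cz.1 ha'.2).symm
          ⟨1, by rw [S.order_two ht ht1, pow_one]⟩ (S.odd_order_mem_W ha'.1)]
        exact ht1
    · have h := sum_core_eq_zero S hM (χ := χ) (fun h => hχ ((Set.Finite.mem_toFinset _).2 h))
        ht ht1
      rw [sum_core_eq_zero.finsum_mem_eq_sum_filter'] at h
      rw [h, mul_zero, map_zero, mul_zero]
  have hcube := CfsgLib.BlockB.sum_classFun_mul_conj hθcl t t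
  have hlhs : ∑ s : G, θ (t * (s * t * s⁻¹)) = ((2 ^ n * (2 ^ n - 2) * Nat.card W : ℕ) : ℂ) := by
    rw [← count_even_products S ht ht1, hθ]
    simp only [Finset.sum_boole]
  simp only [hlhs, hinner, ite_mul, zero_mul, ite_div, zero_div, Finset.sum_ite_mem,
    Finset.univ_inter, hd, ← CfsgLib.BlockB.irr_degree_cast] at hcube
  have h2n : 2 ≤ 2 ^ n :=
    le_trans (by norm_num) (Nat.pow_le_pow_right (by norm_num : 0 < 2) (le_of_lt S.three_le))
  have hG : (Nat.card G : ℂ) =
      (H.index : ℂ) * ((Nat.card W : ℂ) * (2 : ℂ) ^ n * ((2 : ℂ) ^ n - 1)) := by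
    rw [← H.index_mul_card, S.card_M]
    push_cast [Nat.cast_sub (le_trans one_le_two h2n)]
    ring
  have hsum : (∑ χ ∈ B, (d χ : ℂ) / (2 : ℂ) ^ n * (d χ : ℂ) * (d χ : ℂ) /
      (charDegree (χ : G → ℂ) : ℂ)) =
      (∑ χ ∈ B, (d χ : ℂ) ^ 3 / (charDegree (χ : G → ℂ) : ℂ)) / (2 : ℂ) ^ n := by
    rw [Finset.sum_div]
    exact Finset.sum_congr rfl fun χ _ => by ring
  rw [hsum, hG] at hcube
  push_cast [Nat.cast_sub h2n] at hcube
  have hq : (2 : ℂ) ^ n ≠ 0 := pow_ne_zero _ two_ne_zero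
  have hW : (Nat.card W : ℂ) ≠ 0 := Nat.cast_ne_zero.2 Nat.card_pos.ne'
  have hv : (H.index : ℂ) ≠ 0 := Nat.cast_ne_zero.2 Subgroup.index_ne_zero_of_finite
  have hq1 : (2 : ℂ) ^ n - 1 ≠ 0 := by
    intro h
    have h1 : ((2 ^ n : ℕ) : ℂ) = ((1 : ℕ) : ℂ) := by push_cast; linear_combination h
    have := Nat.cast_injective h1
    omega
  have hC : (∑ χ ∈ B, (d χ : ℂ) ^ 3 / (charDegree (χ : G → ℂ) : ℂ)) =
      (2 : ℂ) ^ n * ((2 : ℂ) ^ n - 2) / (((2 : ℂ) ^ n - 1) * (H.index : ℂ)) := by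
    rw [eq_div_iff (mul_ne_zero hq1 hv)]
    refine mul_right_cancel₀ hW ?_
    field_simp at hcube
    linear_combination -(Nat.card W : ℂ) * hcube
  rw [← hBdef]
  apply Complex.ofReal_injective
  push_cast
  exact hC

end CfsgLib.BlockA.PrimeInertial
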