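import Cfsg.Agent.Lib.BlockA.PrimeInertial.Basic
import Cfsg.Agent.Lib.BlockB.FrobPrincipalThree
import Cfsg.Agent.Lib.Invol.Basic
import Cfsg.Agent.Lib.Invol.FusionBasics
import Cfsg.Agent.Lib.Char.Linear
import Cfsg.Agent.Lib.Solvable.PCore
import Cfsg.Agent.S4593

/-!
An abelian Sylow two-subgroup with a cyclic fixed-point-free inertial quotient that is regular on
the involutions is elementary when the group has one class of involutions and no two-core.
-/

set_option autoImplicit false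
set_option linter.unusedSectionVars false
set_option linter.style.haveILetI false
set_option maxHeartbeats 1000000

namespace CfsgLib.BlockA.PrimeInertial

open Cfsg CfsgLib.Char

open CfsgLib.BlockB.FrobP
open CfsgLib.Block (trivIrr)
open scoped ComplexConjugate

universe u

variable {G : Type u} [Group G] [Finite G]

/-- An involution inverting an element of an abelian Sylow two-subgroup commutes with it. -/
theorem no_inverting {P : Sylow 2 G} (hab : IsMulCommutative (P : Subgroup G)) {y s : G}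
    (hy : y ∈ (P : Subgroup G)) (hy2 : y * y ≠ 1) (hs : s * s = 1) : s * y * s⁻¹ ≠ y⁻¹ := by
  haveI : Fact (Nat.Prime 2) := ⟨Nat.prime_two⟩
  intro h
  have hle : Subgroup.zpowers s ≤ Subgroup.normalizer (Subgroup.zpowers y : Set G) := by
    refine Subgroup.zpowers_le.2 (CfsgLib.Invol.mem_normalizer_iff_of_finite fun w hw => ?_)
    obtain ⟨i, rfl⟩ := Subgroup.mem_zpowers_iff.1 hw
    rw [← conj_zpow, h, inv_zpow]
    exact inv_mem (Subgroup.zpow_mem _ (Subgroup.mem_zpowers y) i)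
  have hyp : IsPGroup 2 (Subgroup.zpowers y) :=
    P.2.to_le (Subgroup.zpowers_le.2 hy)
  have hsp : IsPGroup 2 (Subgroup.zpowers s) := fun w => ⟨1, Subtype.ext (by
    obtain ⟨i, hi⟩ := Subgroup.mem_zpowers_iff.1 w.2
    show (w : G) ^ 2 = 1
    rw [← hi, pow_two, ← (Commute.refl s).mul_zpow, hs, one_zpow])⟩
  obtain ⟨Q, hQ⟩ := (hyp.to_sup_of_normal_left' hsp hle).exists_le_sylow
  obtain ⟨g, hg⟩ := MulAction.exists_smul_eq G Q P
  have hmem : ∀ w ∈ (Q : Subgroup G), g * w * g⁻¹ ∈ (P : Subgroup G) := fun w hw => by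
    rw [← hg, Sylow.coe_subgroup_smul]
    exact Subgroup.smul_mem_pointwise_smul w (MulAut.conj g) (Q : Subgroup G) hw
  have hc := congrArg Subtype.val (CfsgLib.BlockB.FrobP.comm hab
    ⟨_, hmem y (hQ (Subgroup.mem_sup_left (Subgroup.mem_zpowers y)))⟩
    ⟨_, hmem s (hQ (Subgroup.mem_sup_right (Subgroup.mem_zpowers s)))⟩)
  have hcy : s * y = y * s := by
    have hc' : g * y * g⁻¹ * (g * s * g⁻¹) = g * s * g⁻¹ * (g * y * g⁻¹) := hc
    calc s * y = g⁻¹ * (g * s * g⁻¹ * (g * y * g⁻¹)) * g := by group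
      _ = g⁻¹ * (g * y * g⁻¹ * (g * s * g⁻¹)) * g := by rw [hc']
      _ = y * s := by group
  rw [hcy, mul_inv_cancel_right] at h
  exact hy2 (by nth_rw 1 [h]; exact inv_mul_cancel y)

/-- The squaring map of an abelian Sylow subgroup. -/
def sqHom (P : Sylow 2 G) (hab : IsMulCommutative (P : Subgroup G)) :
    (P : Subgroup G) →* (P : Subgroup G) :=
  MonoidHom.mk' (fun x => x * x) fun a b => by
    rw [mul_assoc, ← mul_assoc b a b, CfsgLib.BlockB.FrobP.comm hab b a, mul_assoc, ← mul_assoc, ← mul_assoc, mul_assoc (a * a)]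

/-- A normal subgroup containing the involutions contains an abelian Sylow two-subgroup. -/
theorem sylow_le_of_invol {K : Subgroup G} [K.Normal] (P : Sylow 2 G)
    (hab : IsMulCommutative (P : Subgroup G)) (hcore : NoOddNormal G)
    (hnoTwo : ∀ N : Subgroup G, N.Normal → IsPGroup 2 N → N = ⊥)
    (hinv : ∀ s : G, orderOf s = 2 → s ∈ K) : (P : Subgroup G) ≤ K := by
  classical
  haveI : Fact (Nat.Prime 2) := ⟨Nat.prime_two⟩
  -- the centre
  have hZ : Subgroup.center K = ⊥ := by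
    set Z := (Subgroup.center K).map K.subtype with hZdef
    haveI hZn : Z.Normal := ConjAct.normal_of_characteristic_of_normal
    have hZc : ∀ a ∈ Z, ∀ b ∈ Z, a * b = b * a := by
      rintro _ ⟨a, ha, rfl⟩ _ ⟨b, -, rfl⟩
      exact congrArg Subtype.val (Subgroup.mem_center_iff.1 ha b).symm
    have hodd : Odd (Nat.card Z) := by
      rw [← Nat.not_even_iff_odd, even_iff_two_dvd]
      intro hd
      obtain ⟨z, hz⟩ := exists_prime_orderOf_dvd_card' (G := Z) 2 hd
      let Z2 : Subgroup G :=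
        { carrier := {a | a ∈ Z ∧ a * a = 1}
          one_mem' := ⟨one_mem Z, one_mul 1⟩
          mul_mem' := fun {a b} ha hb => ⟨mul_mem ha.1 hb.1, by
            rw [mul_assoc, ← mul_assoc b a b, ← hZc a ha.1 b hb.1, mul_assoc, ← mul_assoc, hb.2, mul_one,
              ha.2]⟩
          inv_mem' := fun {a} ha => ⟨inv_mem ha.1, by rw [← mul_inv_rev, ha.2, inv_one]⟩ }
      have hn : Z2.Normal := ⟨fun a ha g => ⟨hZn.conj_mem a ha.1 g, by
        rw [show g * a * g⁻¹ * (g * a * g⁻¹) = g * (a * a) * g⁻¹ by group, ha.2, mul_one,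
          mul_inv_cancel]⟩⟩
      have h2 : IsPGroup 2 Z2 := fun a => ⟨1, Subtype.ext (by
        show (a : G) ^ 2 = 1
        rw [pow_two]; exact a.2.2)⟩
      have hz1 : (z : G) ∈ Z2 := ⟨z.2, by
        have h := congrArg Subtype.val (hz ▸ pow_orderOf_eq_one z : z ^ 2 = 1)
        simpa [pow_two] using h⟩
      rw [hnoTwo Z2 hn h2, Subgroup.mem_bot] at hz1
      rw [← Subgroup.orderOf_coe, hz1, orderOf_one] at hz
      omega
    have hb := hcore Z hZn hodd
    rw [hZdef, Subgroup.map_eq_bot_iff_of_injective _ K.subtype_injective] at hb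
    exact hb
  -- the odd core
  have hO : Cfsg.pPrimeCore 2 K = ⊥ := by
    haveI := CfsgLib.Solvable.pPrimeCore_characteristic 2 K
    have hn : ((Cfsg.pPrimeCore 2 K).map K.subtype).Normal := ConjAct.normal_of_characteristic_of_normal
    have hodd : Odd (Nat.card ((Cfsg.pPrimeCore 2 K).map K.subtype : Subgroup G)) := by
      rw [Nat.card_congr ((Cfsg.pPrimeCore 2 K).equivMapOfInjective _ K.subtype_injective).symm.toEquiv]
      exact Nat.coprime_two_right.1 (CfsgLib.Solvable.pPrimeCore_coprime 2)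
    have hb := hcore _ hn hodd
    rwa [Subgroup.map_eq_bot_iff_of_injective _ K.subtype_injective] at hb
  -- a Sylow subgroup of `K` in `P`
  set P0 := (P : Subgroup G).subgroupOf K with hP0
  have hP0p : IsPGroup 2 P0 := P.2.comap_of_injective K.subtype K.subtype_injective
  obtain ⟨Q, hQ⟩ := hP0p.exists_le_sylow
  have hQe : (Q : Subgroup K) = P0 := by
    obtain ⟨R, hR⟩ := (Q.2.map K.subtype).exists_le_sylow
    obtain ⟨g, hg⟩ := MulAction.exists_smul_eq G R P
    have hmem : ∀ w : (Q : Subgroup K), g * ((w : K) : G) * g⁻¹ ∈ (P : Subgroup G) := fun w => by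
      rw [← hg, Sylow.coe_subgroup_smul]
      exact Subgroup.smul_mem_pointwise_smul _ (MulAut.conj g) (R : Subgroup G)
        (hR ⟨(w : K), w.2, rfl⟩)
    refine (Subgroup.eq_of_le_of_card_ge hQ ?_).symm
    refine Nat.card_le_card_of_injective
      (fun w : (Q : Subgroup K) => (⟨⟨g * ((w : K) : G) * g⁻¹,
        (‹K.Normal›).conj_mem _ (w : K).2 g⟩, hmem w⟩ : P0)) fun a b hab' => ?_
    have h := congrArg (fun w : P0 => ((w : K) : G)) hab'
    exact Subtype.ext (Subtype.ext (mul_left_cancel (mul_right_cancel h)))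
  have hQab : IsMulCommutative (Q : Subgroup K) := ⟨⟨fun a b => Subtype.ext (Subtype.ext (by
    have ha : ((a : K) : G) ∈ (P : Subgroup G) := (hQe ▸ a.2 : (a : K) ∈ P0)
    have hb : ((b : K) : G) ∈ (P : Subgroup G) := (hQe ▸ b.2 : (b : K) ∈ P0)
    show ((a : K) : G) * ((b : K) : G) = ((b : K) : G) * ((a : K) : G)
    exact congrArg Subtype.val (CfsgLib.BlockB.FrobP.comm hab ⟨_, ha⟩ ⟨_, hb⟩)))⟩⟩
  intro x hx
  have h2 : ∃ j : ℕ, orderOf (MulAut.conjNormal x : MulAut K) = 2 ^ j := by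
    obtain ⟨j, hj⟩ := IsPGroup.iff_orderOf.1 P.2 ⟨x, hx⟩
    rw [Subgroup.orderOf_mk] at hj
    obtain ⟨i, -, hi⟩ := (Nat.dvd_prime_pow Nat.prime_two).1
      (hj ▸ orderOf_map_dvd (MulAut.conjNormal : G →* MulAut K) x)
    exact ⟨i, hi⟩
  have hfix : ∀ w ∈ (Q : Subgroup K), MulAut.conjNormal x w = w := fun w hw => Subtype.ext (by
    have hwP : (w : G) ∈ (P : Subgroup G) := (hQe ▸ hw : w ∈ P0)
    have hc : x * (w : G) = w * x := congrArg Subtype.val (CfsgLib.BlockB.FrobP.comm hab ⟨x, hx⟩ ⟨_, hwP⟩)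
    rw [MulAut.conjNormal_apply, hc, mul_inv_cancel_right])
  obtain ⟨k, hk⟩ := Cfsg.Agent.S4593.result (G := K) hZ hO Q hQab _ h2 hfix
  set C := Subgroup.centralizer (K : Set G) with hC
  have hkx : (k : G)⁻¹ * x ∈ C := Subgroup.mem_centralizer_iff.2 fun h hh => by
    have h1 := congrArg Subtype.val (hk ⟨h, hh⟩)
    rw [MulAut.conjNormal_apply] at h1
    simp only [Subgroup.coe_mul, InvMemClass.coe_inv] at h1
    calc h * ((k : G)⁻¹ * x) = (k : G)⁻¹ * ((k : G) * h * (k : G)⁻¹) * x := by group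
      _ = (k : G)⁻¹ * (x * h * x⁻¹) * x := by rw [h1]
      _ = (k : G)⁻¹ * x * h := by group
  have hCK : ∀ s ∈ C, s ∈ K → s = 1 := fun s hs hsK => by
    have h1 : (⟨s, hsK⟩ : K) ∈ Subgroup.center K :=
      Subgroup.mem_center_iff.2 fun m => Subtype.ext (Subgroup.mem_centralizer_iff.1 hs m m.2)
    rw [hZ, Subgroup.mem_bot] at h1
    exact congrArg Subtype.val h1
  have hCodd : Odd (Nat.card C) := by
    rw [← Nat.not_even_iff_odd, even_iff_two_dvd]
    intro hd
    obtain ⟨z, hz⟩ := exists_prime_orderOf_dvd_card' (G := C) 2 hd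
    have hz' : orderOf (z : G) = 2 := by rw [Subgroup.orderOf_coe, hz]
    have := hCK z z.2 (hinv z hz')
    rw [this, orderOf_one] at hz'
    omega
  have hb := hcore C inferInstance hCodd
  rw [hb, Subgroup.mem_bot, inv_mul_eq_one] at hkx
  rw [← hkx]
  exact k.2

/-- The squares in the inequality. -/
theorem cube_term_ge {a x N : ℝ} (hN : 0 < N) (hx : 0 < x) (h : 0 ≤ x + a * N) :
    -(a ^ 2 / N) ≤ a ^ 3 / x := by
  rw [← neg_div, div_le_div_iff₀ hN hx]
  rcases le_or_gt 0 a with ha | ha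
  · nlinarith [mul_nonneg (pow_nonneg ha 3) hN.le, mul_nonneg (sq_nonneg a) hx.le]
  · nlinarith [mul_nonneg (sq_nonneg a) h]

/-- The final inequality. -/
theorem numeric_false {e P f : ℝ} (he : 2 ≤ e) (hP : (e + 1) ^ 2 ≤ P) (hf : P + e ≤ f)
    (h : 1 - (e - 1) / (P - 1) ≤ e ^ 2 / f) : False := by
  have hP1 : 0 < P - 1 := by nlinarith
  have hf0 : 0 < f := by nlinarith
  have h1 : e ^ 2 / f ≤ e ^ 2 / (P + e) :=
    div_le_div_of_nonneg_left (sq_nonneg e) (by nlinarith) hf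
  have h2 : 1 - (e - 1) / (P - 1) = (P - e) / (P - 1) := by field_simp; ring
  have h3 := (h2 ▸ h).trans h1
  rw [div_le_div_iff₀ hP1 (by nlinarith)] at h3
  nlinarith

theorem elementary_of_oneClass {M : Ideal AlgInt} (hM : IsPModular 2 M) (P : Sylow 2 G)
    (hab : IsMulCommutative (P : Subgroup G)) (e : ℕ)
    (he : (Subgroup.centralizer ((P : Subgroup G) : Set G)).relIndex
      (Subgroup.normalizer ((P : Subgroup G) : Set G)) = e)
    (hcyc : ∃ g ∈ Subgroup.normalizer ((P : Subgroup G) : Set G),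
      Subgroup.centralizer ((P : Subgroup G) : Set G) ⊔ Subgroup.zpowers g =
        Subgroup.normalizer ((P : Subgroup G) : Set G))
    (hfrob : ∀ y : G, y ∈ (P : Subgroup G) → y ≠ 1 →
      cz y ⊓ Subgroup.normalizer ((P : Subgroup G) : Set G) =
        Subgroup.centralizer ((P : Subgroup G) : Set G))
    (hom : Nat.card {x : (P : Subgroup G) // x * x = 1} = e + 1) (he7 : 7 ≤ e)
    (hone : ∀ a b : G, orderOf a = 2 → orderOf b = 2 → IsConj a b) (hcore : NoOddNormal G)
    (hnoTwo : ∀ N : Subgroup G, N.Normal → IsPGroup 2 N → N = ⊥) :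
    ∀ x ∈ (P : Subgroup G), x * x = 1 := by
  classical
  haveI : Fact (Nat.Prime 2) := ⟨Nat.prime_two⟩
  have := Fintype.ofFinite G
  have := Fintype.ofFinite (P : Subgroup G)
  have := Fintype.ofFinite (nP P)
  have := finite_lam P
  have := Fintype.ofFinite (Lam P)
  by_contra hcon
  push Not at hcon
  obtain ⟨x, hxP, hx⟩ := hcon
  -- an element of order four
  obtain ⟨k, hk⟩ := IsPGroup.iff_orderOf.1 P.2 ⟨x, hxP⟩
  rw [Subgroup.orderOf_mk] at hk
  have hk2 : 2 ≤ k := by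
    by_contra hk2
    have hd : orderOf x ∣ 2 := by
      rw [hk]
      interval_cases k <;> norm_num
    exact hx (by rw [← pow_two]; exact orderOf_dvd_iff_pow_eq_one.1 hd)
  have hy4 : orderOf (x ^ 2 ^ (k - 2)) = 4 := by
    rw [orderOf_pow_of_dvd (by positivity) (by rw [hk]; exact pow_dvd_pow 2 (by omega)), hk,
      Nat.pow_div (by omega) (by norm_num), show k - (k - 2) = 2 by omega]
  set y : (P : Subgroup G) := ⟨x ^ 2 ^ (k - 2), pow_mem hxP _⟩ with hy
  have hyo : orderOf (y : G) = 4 := hy4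
  have hy1 : y ≠ 1 := fun h => by rw [h, OneMemClass.coe_one, orderOf_one] at hyo; omega
  set t : (P : Subgroup G) := y * y with ht
  have hto : orderOf (t : G) = 2 := by
    rw [ht, Subgroup.coe_mul, ← pow_two, orderOf_pow' _ two_ne_zero, hyo]
    norm_num
  have ht1 : t ≠ 1 := fun h => by rw [h, OneMemClass.coe_one, orderOf_one] at hto; omega
  have hty : ¬ IsConj (t : G) (y : G) := fun h => by
    obtain ⟨g, hg⟩ := isConj_iff.1 h
    rw [← hg, CfsgLib.Invol.orderOf_conj_eq, hto] at hyo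
    omega
  have hinvol : ∀ w : (P : Subgroup G), w * w = 1 → w ≠ 1 → orderOf (w : G) = 2 := fun w hw hw1 =>
    orderOf_eq_prime (by rw [pow_two]; exact_mod_cast congrArg Subtype.val hw)
      fun h => hw1 (Subtype.ext h)
  -- the order of the Sylow subgroup
  set T := (sqHom P hab).ker with hT
  have hTcard : Nat.card T = e + 1 := by
    rw [← hom]
    exact Nat.card_congr (Equiv.subtypeEquivRight fun w => Iff.rfl)
  have hsquare : ∀ w ∈ T, w ∈ (sqHom P hab).range := fun w hw => by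
    by_cases hw1 : w = 1
    · rw [hw1]; exact one_mem _
    · obtain ⟨n, hn⟩ := exists_cj_of_isConj hab (hone _ _ hto (hinvol w hw hw1))
      exact ⟨cj P n y, by rw [← hn, ht, map_mul]; rfl⟩
  have hPcard : (e + 1) * (e + 1) ≤ Nat.card (P : Subgroup G) := by
    have h1 := T.card_mul_index
    rw [hT, Subgroup.index_ker] at h1
    rw [← h1, ← hT, hTcard]
    refine Nat.mul_le_mul_left _ ?_
    rw [← hTcard]
    exact Subgroup.card_le_of_le hsquare
  have hP1 : Nat.card P ≠ 1 := fun h => by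
    change Nat.card (P : Subgroup G) = 1 at h
    nlinarith
  obtain ⟨r, ε, d, a, ζ, X, Y, D⟩ :=
    exists_data hM hab hP1 hfrob he (by omega) (by nlinarith)
  have hε : (ε : ℤ) * ε = 1 := by rcases D.sign with h | h <;> subst h <;> norm_num
  have hεC : (ε : ℂ) * ε = 1 := by exact_mod_cast hε
  set Xs := (Set.toFinite X).toFinset with hXs
  set Ys := (Set.toFinite Y).toFinset with hYs
  have hsplit : ∀ F : IrrCharacter G → ℂ,
      ∑ᶠ χ ∈ principalBlock M G, F χ = ∑ χ ∈ Xs, F χ + ∑ χ ∈ Ys, F χ := fun F => by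
    rw [D.union, finsum_mem_union D.disj (Set.toFinite X) (Set.toFinite Y),
      finsum_mem_eq_finite_toFinset_sum _ (Set.toFinite X),
      finsum_mem_eq_finite_toFinset_sum _ (Set.toFinite Y)]
  have hone' : trivIrr ∈ Xs := (Set.toFinite X).mem_toFinset.2 D.one_mem
  -- the constant vanishes
  have hnorm := D.norm
  rw [finsum_mem_eq_finite_toFinset_sum _ (Set.toFinite X), ← hXs] at hnorm
  have hsq1 : (1 : ℤ) ≤ ∑ χ ∈ Xs, a χ ^ 2 := by
    have h := Finset.single_le_sum (f := fun χ => a χ ^ 2) (fun χ _ => sq_nonneg _) hone'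
    simpa [D.one_a] using h
  have hr : e + 2 ≤ r := by
    have h1 := D.card_eq
    by_contra hlt
    have h2 : r * e ≤ (e + 1) * e := Nat.mul_le_mul_right _ (by omega)
    nlinarith
  have hd : d = 0 := by
    by_contra hd
    have h1 : (1 : ℤ) ≤ d ^ 2 := by have := mul_self_pos.2 hd; nlinarith
    have h2 : ((e : ℤ) + 1) * 1 ≤ ((r : ℤ) - 1) * d ^ 2 :=
      mul_le_mul (by omega) h1 zero_le_one (by omega)
    nlinarith [sq_nonneg (d - ε)]
  subst hd
  have hsum : ∑ χ ∈ Xs, (a χ : ℂ) ^ 2 = (e : ℂ) := by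
    have h : ∑ χ ∈ Xs, a χ ^ 2 = (e : ℤ) := by nlinarith [hε]
    exact_mod_cast congrArg (Int.cast (R := ℂ)) h
  -- values
  have hpart : ∀ w : (P : Subgroup G), IsPPart 2 (w : G) (w : G) := fun w =>
    CfsgLib.Block.isPPart_self (isPPow w) Nat.prime_two
  have hXval : ∀ χ ∈ Xs, ∀ w : (P : Subgroup G), w ≠ 1 → (χ : G → ℂ) w = (a χ : ℂ) := fun χ hχ w hw =>
    D.val_X χ ((Set.toFinite X).mem_toFinset.1 hχ) _ w (hpart w) hw
  let Orb : Lam P → Finset (Lam P) := fun ψ => Finset.univ.image fun n : nP P => cl P n ψ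
  have hYval : ∀ ψ : Lam P, ψ ≠ 1 → ∀ w : (P : Subgroup G), w ≠ 1 →
      (ζ ψ : G → ℂ) w = (ε : ℂ) * ∑ φ ∈ Orb ψ, ((φ w : ℂˣ) : ℂ) := fun ψ hψ w hw => by
    rw [D.val_Y ψ hψ _ w (hpart w) hw, Int.cast_zero, zero_add,
      finsum_mem_eq_finite_toFinset_sum _ (Set.toFinite _)]
    congr 1
    refine Finset.sum_congr ?_ fun _ _ => rfl
    ext φ
    simp only [Set.Finite.mem_toFinset, Set.mem_setOf_eq, Orb, Finset.mem_image, Finset.mem_univ,
      true_and]
    exact ⟨fun ⟨n, h⟩ => ⟨n, h.symm⟩, fun ⟨n, h⟩ => ⟨n, h.symm⟩⟩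
  have hOrb : ∀ ψ : Lam P, ψ ≠ 1 → (Orb ψ).card = e := fun ψ hψ => by
    show (Finset.univ.image fun n : nP P => cl P n ψ).card = e
    convert orbit_card hab hfrob he hψ
  -- the two values at the involution
  have htwo : ∀ η ∈ Ys, ((η : G → ℂ) t - (ε : ℂ) * e) * ((η : G → ℂ) t + ε) = 0 := by
    intro η hη
    obtain ⟨ψ, hψ, rfl⟩ := (D.mem_Y η).1 ((Set.toFinite Y).mem_toFinset.1 hη)
    have hcard : (Orb ψ).card = e := hOrb ψ hψ
    by_cases htriv : ∀ w ∈ T, ψ w = 1
    · have h1 : ∀ φ ∈ Orb ψ, ((φ t : ℂˣ) : ℂ) = 1 := fun φ hφ => by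
        obtain ⟨n, -, rfl⟩ := Finset.mem_image.1 hφ
        rw [cl_apply, htriv _ (show cj P n t * cj P n t = 1 by
          rw [← map_mul, show t * t = 1 from Subtype.ext (by
            simpa [pow_two] using (show (t : G) ^ 2 = 1 from orderOf_dvd_iff_pow_eq_one.1 hto.dvd)), map_one]),
          Units.val_one]
      rw [hYval ψ hψ t ht1, Finset.sum_congr rfl h1, Finset.sum_const, hcard, nsmul_eq_mul, mul_one,
        sub_self, zero_mul]
    · have hS : ∀ φ ∈ Orb ψ, ∑ w : T, ((φ (w : (P : Subgroup G)) : ℂˣ) : ℂ) = 0 := fun φ hφ => by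
        obtain ⟨n, -, rfl⟩ := Finset.mem_image.1 hφ
        refine sum_hom_units_eq_zero (((Units.coeHom ℂ).comp (cl P n ψ)).comp T.subtype) fun h => ?_
        refine htriv fun w hw => Units.ext ?_
        have hmem : (cj P n).symm w ∈ T := by
          show (cj P n).symm w * (cj P n).symm w = 1
          rw [← map_mul, show w * w = 1 from hw, map_one]
        have h' := DFunLike.congr_fun h ⟨_, hmem⟩
        simpa [cl_apply] using h'
      have hconst : ∀ w : T, (w : (P : Subgroup G)) ≠ 1 →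
          (ζ ψ : G → ℂ) ((w : (P : Subgroup G)) : G) = (ζ ψ : G → ℂ) t := fun w hw =>
        isClassFunction_isConj (irr_isClassFunction (ζ ψ).2) (hone _ _ (hinvol w w.2 hw) hto)
      have htot : ∑ w : T, ∑ φ ∈ Orb ψ, ((φ (w : (P : Subgroup G)) : ℂˣ) : ℂ) = 0 := by
        rw [Finset.sum_comm]; exact Finset.sum_eq_zero hS
      rw [← Finset.add_sum_erase _ _ (Finset.mem_univ (1 : T))] at htot
      have hε' : ∀ w ∈ (Finset.univ : Finset T).erase 1,
          ∑ φ ∈ Orb ψ, ((φ (w : (P : Subgroup G)) : ℂˣ) : ℂ) = (ε : ℂ) * (ζ ψ : G → ℂ) t := fun w hw => by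
        have hw1 : (w : (P : Subgroup G)) ≠ 1 := fun h => (Finset.mem_erase.1 hw).1 (Subtype.ext h)
        rw [← hconst w hw1, hYval ψ hψ _ hw1, ← mul_assoc, hεC, one_mul]
      rw [Finset.sum_congr rfl hε', Finset.sum_const, Finset.card_erase_of_mem (Finset.mem_univ _),
        Finset.card_univ, ← Nat.card_eq_fintype_card, hTcard, Nat.add_sub_cancel, nsmul_eq_mul] at htot
      simp only [OneMemClass.coe_one, map_one, Units.val_one, Finset.sum_const, hcard, nsmul_eq_mul,
        mul_one] at htot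
      have he0 : (e : ℂ) ≠ 0 := Nat.cast_ne_zero.2 (by omega)
      have h1 : (ε : ℂ) * (ζ ψ : G → ℂ) t = -1 :=
        mul_left_cancel₀ he0 (by linear_combination htot)
      have h2 : (ζ ψ : G → ℂ) t + ε = 0 := by
        linear_combination (ε : ℂ) * h1 - (ζ ψ : G → ℂ) t * hεC
      rw [h2, mul_zero]
  -- the degree of the exceptional characters
  obtain ⟨η₀, hη₀⟩ : Ys.Nonempty := by
    rw [← Finset.card_pos, hYs, ← Nat.card_eq_card_finite_toFinset (Set.toFinite Y), D.card_Y]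
    omega
  obtain ⟨f, hf⟩ := char_apply_one_eq_nat (irr_isCharacter η₀.2)
  have hfY : ∀ η ∈ Ys, (η : G → ℂ) 1 = (f : ℂ) := fun η hη => by
    rw [← hf]
    exact D.regular η ((Set.toFinite Y).mem_toFinset.1 hη) η₀ ((Set.toFinite Y).mem_toFinset.1 hη₀) 1
      (by rw [orderOf_one]; norm_num)
  have hf0 : (f : ℂ) ≠ 0 := hf ▸ irr_apply_one_ne_zero η₀.2
  have hrel : ∑ χ ∈ Xs, (a χ : ℂ) * (χ : G → ℂ) 1 = (ε : ℂ) * f := by
    have h := D.relation η₀ ((Set.toFinite Y).mem_toFinset.1 hη₀) 1 (by rw [orderOf_one]; norm_num)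
    rw [finsum_mem_eq_finite_toFinset_sum _ (Set.toFinite X), ← hXs, hf, Int.cast_zero, mul_zero,
      zero_sub] at h
    linear_combination h
  have hdeg : ∀ χ : IrrCharacter G, conj ((χ : G → ℂ) 1) = (χ : G → ℂ) 1 := fun χ => by
    obtain ⟨n, hn⟩ := char_apply_one_eq_nat (irr_isCharacter χ.2)
    rw [hn, map_natCast]
  -- the three column equations
  have hW : ∑ η ∈ Ys, conj ((η : G → ℂ) y) = -(ε : ℂ) := by
    have h := column hM hab hfrob hy1 1 ⟨0, by rw [orderOf_one, pow_zero]⟩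
    rw [if_neg (fun h => hy1 (Subtype.ext (isConj_one_left.1 h))), hsplit,
      Finset.sum_congr rfl (s₁ := Xs) (g := fun χ : IrrCharacter G => (a χ : ℂ) * (χ : G → ℂ) 1) (fun χ hχ => by
        rw [hXval χ hχ y hy1, hdeg]),
      Finset.sum_congr rfl (s₁ := Ys) (g := fun η : IrrCharacter G => (f : ℂ) * (η : G → ℂ) y) (fun η hη => by
        rw [hdeg, hfY η hη, mul_comm]), hrel, ← Finset.mul_sum] at h
    have h' : ∑ η ∈ Ys, (η : G → ℂ) y = -(ε : ℂ) := mul_left_cancel₀ hf0 (by linear_combination h)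
    rw [← map_sum, h', map_neg, map_intCast]
  have hTY : ∑ η ∈ Ys, (η : G → ℂ) t * conj ((η : G → ℂ) y) = -(e : ℂ) := by
    have h := column hM hab hfrob ht1 (y : G) (isPPow y)
    rw [if_neg hty, hsplit, Finset.sum_congr rfl (s₁ := Xs) (g := fun χ : IrrCharacter G => (a χ : ℂ) ^ 2) (fun χ hχ => by
      rw [hXval χ hχ t ht1, hXval χ hχ y hy1, map_intCast, pow_two]), hsum] at h
    linear_combination h
  have hcube : ∑ χ ∈ Xs, (a χ : ℂ) ^ 3 / (χ : G → ℂ) 1 = (ε : ℂ) * (e : ℂ) ^ 2 / f := by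
    have h := involution_equation hM (t : G) (y : G) (isPPow y) fun u w hw hc => by
      obtain ⟨g, hg⟩ := isConj_iff.1 hc
      have htt : (t : G) * t = 1 := by
        have : (t : G) ^ 2 = 1 := orderOf_dvd_iff_pow_eq_one.1 hto.dvd
        rwa [pow_two] at this
      have hs2 : u * t * u⁻¹ * (u * t * u⁻¹) = 1 := by
        rw [show u * t * u⁻¹ * (u * t * u⁻¹) = u * ((t : G) * t) * u⁻¹ by group, htt, mul_one,
          mul_inv_cancel]
      have h1 := CfsgLib.Block.isPPart_conj hw (t : G)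
      have h2 := isPPart_inv hw
      rw [show (t : G) * (t * (u * t * u⁻¹)) * (t : G)⁻¹ = (t * (u * t * u⁻¹))⁻¹ by
        rw [mul_inv_rev, inv_eq_of_mul_eq_one_right hs2, ← mul_assoc, htt, one_mul]] at h1
      have hinv := CfsgLib.Block.isPPart_unique Nat.prime_two h1 h2
      refine no_inverting hab y.2 (fun h => ?_) (s := g⁻¹ * t * g) ?_ ?_
      · rw [← pow_two] at h
        have := Nat.le_of_dvd two_pos (orderOf_dvd_of_pow_eq_one h)
        omega
      · rw [show g⁻¹ * t * g * (g⁻¹ * t * g) = g⁻¹ * ((t : G) * t) * g by group, htt, mul_one,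
          inv_mul_cancel]
      · rw [← hg] at hinv
        calc g⁻¹ * t * g * y * (g⁻¹ * t * g)⁻¹ = g⁻¹ * ((t : G) * (g * y * g⁻¹) * (t : G)⁻¹) * g := by group
          _ = g⁻¹ * (g * y * g⁻¹)⁻¹ * g := by rw [hinv]
          _ = (y : G)⁻¹ := by group
    rw [hsplit, Finset.sum_congr rfl (s₁ := Xs) (g := fun χ : IrrCharacter G => (a χ : ℂ) ^ 3 / (χ : G → ℂ) 1) (fun χ hχ => by
        rw [hXval χ hχ t ht1, hXval χ hχ y hy1, map_intCast]; ring),
      Finset.sum_congr rfl (s₁ := Ys) (g := fun η : IrrCharacter G => ((ε : ℂ) * ((e : ℂ) - 1) *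
          ((η : G → ℂ) t * conj ((η : G → ℂ) y)) + (e : ℂ) * conj ((η : G → ℂ) y)) / f) (fun η hη => by
        rw [hfY η hη]
        congr 1
        have := htwo η hη
        linear_combination conj ((η : G → ℂ) y) * this + (e : ℂ) * conj ((η : G → ℂ) y) * hεC),
      ← Finset.sum_div, Finset.sum_add_distrib, ← Finset.mul_sum, ← Finset.mul_sum, hTY, hW] at h
    linear_combination h
  -- multiplicities of the trivial character
  set N : ℕ := Nat.card (P : Subgroup G) with hN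
  have hN2 : 2 ≤ N := by nlinarith
  have hXmult : ∀ χ ∈ Xs, ∀ n : ℕ, (χ : G → ℂ) 1 = (n : ℂ) →
      0 ≤ (n : ℝ) + (a χ : ℝ) * ((N : ℝ) - 1) := by
    intro χ hχ n hn
    obtain ⟨c, hc⟩ := exists_nat_coef χ (1 : Lam P)
    rw [coef, inv_mul_eq_iff_eq_mul₀ natCard_ne_zero,
      ← Finset.add_sum_erase _ _ (Finset.mem_univ (1 : (P : Subgroup G))),
      Finset.sum_congr rfl (g := fun _ => (a χ : ℂ)) (fun w hw => by
        rw [hXval χ hχ w (Finset.mem_erase.1 hw).1, MonoidHom.one_apply, Units.val_one, mul_one]),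
      Finset.sum_const, Finset.card_erase_of_mem (Finset.mem_univ _), Finset.card_univ,
      ← Nat.card_eq_fintype_card, ← hN, nsmul_eq_mul, MonoidHom.one_apply, Units.val_one, mul_one,
      OneMemClass.coe_one, hn, Nat.cast_sub (by omega : 1 ≤ N), Nat.cast_one] at hc
    have h' : (n : ℝ) + (a χ : ℝ) * ((N : ℝ) - 1) = (N : ℝ) * c := by
      have : (((n : ℝ) + (a χ : ℝ) * ((N : ℝ) - 1) : ℝ) : ℂ) = (((N : ℝ) * c : ℝ) : ℂ) := by
        push_cast
        linear_combination hc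
      exact_mod_cast this
    rw [h']; positivity
  let xr : IrrCharacter G → ℕ := fun χ => Classical.choose (char_apply_one_eq_nat (irr_isCharacter χ.2))
  have hxr : ∀ χ : IrrCharacter G, (χ : G → ℂ) 1 = (xr χ : ℂ) := fun χ =>
    Classical.choose_spec (char_apply_one_eq_nat (irr_isCharacter χ.2))
  have hxr0 : ∀ χ : IrrCharacter G, 0 < xr χ := fun χ => Nat.pos_of_ne_zero fun h =>
    irr_apply_one_ne_zero χ.2 (by rw [hxr χ, h, Nat.cast_zero])
  have hcubeR : ∑ χ ∈ Xs, (a χ : ℝ) ^ 3 / (xr χ : ℝ) = (ε : ℝ) * (e : ℝ) ^ 2 / f := by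
    have : ((∑ χ ∈ Xs, (a χ : ℝ) ^ 3 / (xr χ : ℝ) : ℝ) : ℂ) = (((ε : ℝ) * (e : ℝ) ^ 2 / f : ℝ) : ℂ) := by
      push_cast
      rw [← hcube]
      refine Finset.sum_congr rfl fun χ _ => ?_
      rw [hxr χ]
    exact_mod_cast this
  have hN1 : (0 : ℝ) < (N : ℝ) - 1 := by
    have : (2 : ℝ) ≤ (N : ℝ) := by exact_mod_cast hN2
    linarith
  have hlow : 1 - ((e : ℝ) - 1) / ((N : ℝ) - 1) ≤ ∑ χ ∈ Xs, (a χ : ℝ) ^ 3 / (xr χ : ℝ) := by
    have htrivdeg : (xr trivIrr : ℝ) = 1 := by
      have h := hxr (trivIrr : IrrCharacter G)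
      simp only [trivIrr] at h
      exact_mod_cast h.symm
    have hsumR : ∑ χ ∈ Xs, (a χ : ℝ) ^ 2 = (e : ℝ) := by
      have : ((∑ χ ∈ Xs, (a χ : ℝ) ^ 2 : ℝ) : ℂ) = ((e : ℝ) : ℂ) := by push_cast; exact hsum
      exact_mod_cast this
    rw [← Finset.add_sum_erase _ _ hone', D.one_a, htrivdeg, Int.cast_one, one_pow, div_one]
    rw [← Finset.add_sum_erase _ _ hone', D.one_a, Int.cast_one, one_pow] at hsumR
    have h1 : ∑ χ ∈ Xs.erase trivIrr, -((a χ : ℝ) ^ 2 / ((N : ℝ) - 1)) ≤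
        ∑ χ ∈ Xs.erase trivIrr, (a χ : ℝ) ^ 3 / (xr χ : ℝ) :=
      Finset.sum_le_sum fun χ hχ => cube_term_ge hN1 (by exact_mod_cast hxr0 χ)
        (hXmult χ (Finset.mem_of_mem_erase hχ) _ (hxr χ))
    rw [Finset.sum_neg_distrib, ← Finset.sum_div,
      show ∑ χ ∈ Xs.erase trivIrr, (a χ : ℝ) ^ 2 = (e : ℝ) - 1 by linarith] at h1
    linarith
  have heR : (7 : ℝ) ≤ (e : ℝ) := by exact_mod_cast he7
  have hNR : ((e : ℝ) + 1) ^ 2 ≤ (N : ℝ) := by
    rw [pow_two]; exact_mod_cast hPcard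
  have hfR : (0 : ℝ) < f := by
    exact_mod_cast Nat.pos_of_ne_zero fun h => hf0 (by rw [h, Nat.cast_zero])
  have hpos : (0 : ℝ) < 1 - ((e : ℝ) - 1) / ((N : ℝ) - 1) := by
    rw [sub_pos, div_lt_one hN1]; nlinarith
  rw [hcubeR] at hlow
  have hε1 : ε = 1 := by
    rcases D.sign with h | h
    · exact h
    · exfalso
      rw [h] at hlow
      have hnn : (0 : ℝ) ≤ (e : ℝ) ^ 2 / f := by positivity
      push_cast at hlow
      rw [neg_one_mul, neg_div] at hlow
      linarith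
  subst hε1
  rw [Int.cast_one, one_mul] at hlow
  -- the restriction of an exceptional character to the Sylow subgroup
  have hYmult : ∀ η ∈ Ys, ∃ c : ℕ, ∑ w : (P : Subgroup G), (η : G → ℂ) w = (N : ℂ) * c ∧
      f = e + N * c := by
    intro η hη
    obtain ⟨c, hc⟩ := exists_nat_coef η (1 : Lam P)
    rw [coef, inv_mul_eq_iff_eq_mul₀ natCard_ne_zero] at hc
    simp only [MonoidHom.one_apply, Units.val_one, mul_one] at hc
    refine ⟨c, hc, ?_⟩
    obtain ⟨ψ, hψ, rfl⟩ := (D.mem_Y η).1 ((Set.toFinite Y).mem_toFinset.1 hη)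
    rw [← Finset.add_sum_erase _ _ (Finset.mem_univ (1 : (P : Subgroup G))), OneMemClass.coe_one,
      hfY _ hη, Finset.sum_congr rfl (g := fun w => ∑ φ ∈ Orb ψ, ((φ w : ℂˣ) : ℂ))
        (fun w hw => by rw [hYval ψ hψ w (Finset.mem_erase.1 hw).1, Int.cast_one, one_mul]),
      Finset.sum_comm] at hc
    have h0 : ∀ φ ∈ Orb ψ, ∑ w ∈ (Finset.univ : Finset (P : Subgroup G)).erase 1, ((φ w : ℂˣ) : ℂ) = -1 := by
      intro φ hφ
      obtain ⟨n, -, rfl⟩ := Finset.mem_image.1 hφ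
      have h := sum_apply hab (cl P n ψ)
      rw [if_neg (fun h => hψ ((cl_eq_one_iff n ψ).1 h)),
        ← Finset.add_sum_erase _ _ (Finset.mem_univ (1 : (P : Subgroup G))), map_one, Units.val_one] at h
      linear_combination h
    rw [Finset.sum_congr rfl h0, Finset.sum_const, hOrb ψ hψ, nsmul_eq_mul] at hc
    have : (f : ℂ) = ((e + N * c : ℕ) : ℂ) := by push_cast; linear_combination hc
    exact_mod_cast this
  by_cases hfe : f = e
  swap
  · obtain ⟨c, -, hc⟩ := hYmult η₀ hη₀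
    have hc1 : 1 ≤ c := Nat.pos_of_ne_zero fun h => hfe (by rw [hc, h, mul_zero, add_zero])
    have hfN : (N : ℝ) + e ≤ f := by
      have : N + e ≤ f := by rw [hc]; nlinarith
      exact_mod_cast this
    exact numeric_false (by linarith) hNR hfN hlow
  subst hfe
  obtain ⟨η, hη, hηt⟩ : ∃ η ∈ Ys, (η : G → ℂ) t = (η : G → ℂ) 1 := by
    by_contra hno
    push Not at hno
    rw [Finset.sum_congr rfl (s₁ := Ys) (g := fun η : IrrCharacter G => -conj ((η : G → ℂ) y)) (fun η hη => by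
      rcases mul_eq_zero.1 (htwo η hη) with h | h
      · exact absurd (by rw [hfY η hη]; linear_combination h) (hno η hη)
      · rw [Int.cast_one] at h
        rw [show (η : G → ℂ) t = -1 by linear_combination h, neg_one_mul]),
      Finset.sum_neg_distrib, hW, Int.cast_one, neg_neg] at hTY
    have : ((1 + f : ℕ) : ℂ) = ((0 : ℕ) : ℂ) := by push_cast; linear_combination hTY
    have := Nat.cast_injective this
    omega
  obtain ⟨η, n, ρ, hρ, rfl⟩ := η
  have htK : (t : G) ∈ MonoidHom.ker ρ := (mem_ker_iff_char ρ (t : G)).2 hηt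
  have hPK : (P : Subgroup G) ≤ MonoidHom.ker ρ := sylow_le_of_invol P hab hcore hnoTwo fun s hs => by
    obtain ⟨g, hg⟩ := isConj_iff.1 (hone _ _ hto hs)
    rw [← hg]
    exact (inferInstance : (MonoidHom.ker ρ).Normal).conj_mem _ htK g
  obtain ⟨c, hc, hfc⟩ := hYmult _ hη
  have hall : ∀ w : (P : Subgroup G), ρ.character (w : G) = (f : ℂ) := fun w => by
    rw [(mem_ker_iff_char ρ (w : G)).1 (hPK w.2)]
    exact hfY _ hη
  rw [Finset.sum_congr rfl (g := fun _ => (f : ℂ)) (fun w _ => hall w), Finset.sum_const, Finset.card_univ,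
    nsmul_eq_mul, ← Nat.card_eq_fintype_card, ← hN] at hc
  have hc' : (f : ℂ) = (c : ℂ) :=
    mul_left_cancel₀ (show (N : ℂ) ≠ 0 from Nat.cast_ne_zero.2 (by omega)) hc
  have hc'' : f = c := Nat.cast_injective hc'
  subst hc''
  nlinarith

end CfsgLib.BlockA.PrimeInertial
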