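import Cfsg.Agent.Lib.BlockA.PrimeInertial.Basic
import Cfsg.Agent.Lib.Transfer.Frobenius
import Mathlib.GroupTheory.Sylow
import Mathlib.GroupTheory.Transfer

/-!
General facts about an abelian Sylow subgroup, its normalizer and quotients by normal subgroups.
-/

set_option autoImplicit false
set_option linter.unusedSectionVars false

namespace CfsgLib.BlockA.PrimeInertial

open Cfsg Subgroup

universe u

variable {G : Type u} [Group G] [Finite G]

local notation "nn" P => Subgroup.normalizer ((P : Subgroup _) : Set _)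

/-- The centralizer of an abelian Sylow subgroup contains it. -/
theorem le_centralizer_self (P : Sylow 2 G) (hab : IsMulCommutative (P : Subgroup G)) :
    (P : Subgroup G) ≤ centralizer ((P : Subgroup G) : Set G) := fun x hx y hy =>
  congrArg Subtype.val (hab.is_comm.comm ⟨y, hy⟩ ⟨x, hx⟩)

/-- Every element of the normalizer is an element of `P` times one of odd order, modulo `C(P)`. -/
theorem exists_odd_mod_centralizer (P : Sylow 2 G) (hab : IsMulCommutative (P : Subgroup G)) {g : G}
    (hg : g ∈ normalizer ((P : Subgroup G) : Set G)) :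
    ∃ m : ℕ, Odd m ∧ g ^ m ∈ centralizer ((P : Subgroup G) : Set G) := by
  set N := normalizer ((P : Subgroup G) : Set G) with hN
  set C := centralizer ((P : Subgroup G) : Set G) with hC
  have hn : (C.subgroupOf N).Normal :=
    ⟨fun c hc n => by
      rw [mem_subgroupOf] at hc ⊢
      intro y hy
      have h1 := (mem_normalizer_iff.1 (inv_mem n.2) y).1 hy
      rw [inv_inv] at h1
      have h2 := hc _ h1
      simp only [coe_mul, InvMemClass.coe_inv]
      calc y * ((n : G) * c * (n : G)⁻¹) = (n : G) * (((n : G)⁻¹ * y * n) * c) * (n : G)⁻¹ := by group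
        _ = (n : G) * ((c : G) * ((n : G)⁻¹ * y * n)) * (n : G)⁻¹ := by rw [h2]
        _ = (n : G) * c * (n : G)⁻¹ * y := by group⟩
  refine ⟨C.relIndex N, ?_, ?_⟩
  · rw [← Nat.not_even_iff_odd, even_iff_two_dvd]
    intro h
    have h1 : C.relIndex N ∣ (P : Subgroup G).relIndex N :=
      relIndex_dvd_of_le_left _ (le_centralizer_self P hab)
    have h2 : (P : Subgroup G).relIndex N ∣ (P : Subgroup G).index :=
      relIndex_dvd_index_of_le le_normalizer
    exact P.not_dvd_index (h.trans (h1.trans h2))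
  · have := pow_index_mem (H := C.subgroupOf N) (⟨g, hg⟩ : N)
    rw [mem_subgroupOf] at this
    exact this

/-- A normalizing element fixing `y` modulo an element of `Z ≤ P` that it centralizes fixes `y`. -/
theorem commute_of_mod (P : Sylow 2 G) (hab : IsMulCommutative (P : Subgroup G)) {g y z : G}
    (hg : g ∈ normalizer ((P : Subgroup G) : Set G)) (hy : y ∈ (P : Subgroup G))
    (hz : z ∈ (P : Subgroup G)) (hgz : Commute g z) (h : g * y * g⁻¹ = y * z) : Commute g y := by
  obtain ⟨m, hm, hgm⟩ := exists_odd_mod_centralizer P hab hg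
  have key : ∀ j : ℕ, g ^ j * y * (g ^ j)⁻¹ = y * z ^ j := by
    intro j
    induction j with
    | zero => simp
    | succ j ih =>
      rw [pow_succ', mul_inv_rev]
      calc g * g ^ j * y * ((g ^ j)⁻¹ * g⁻¹) = g * (g ^ j * y * (g ^ j)⁻¹) * g⁻¹ := by group
        _ = g * (y * z ^ j) * g⁻¹ := by rw [ih]
        _ = (g * y * g⁻¹) * (g * z ^ j * g⁻¹) := by group
        _ = y * z * z ^ j := by rw [h, (hgz.pow_right j).eq, mul_inv_cancel_right]
        _ = y * z ^ (j + 1) := by rw [mul_assoc, pow_succ']
  have h1 := key m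
  rw [← hgm y hy, mul_inv_cancel_right, left_eq_mul] at h1
  have h2 : orderOf z ∣ m := orderOf_dvd_of_pow_eq_one h1
  obtain ⟨k, hk⟩ := IsPGroup.iff_orderOf.1 P.isPGroup' ⟨z, hz⟩
  rw [orderOf_mk] at hk
  have hz1 : z = 1 := by
    rcases k with _ | k
    · exact orderOf_eq_one_iff.1 (by rw [hk, pow_zero])
    · exfalso
      exact Nat.not_even_iff_odd.2 hm
        (even_iff_two_dvd.2 ((hk ▸ Dvd.intro_left _ (pow_succ 2 k).symm : 2 ∣ orderOf z).trans h2))
  rw [hz1, mul_one, mul_inv_eq_iff_eq_mul] at h
  exact h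

/-- The normalizer of the image of a Sylow subgroup is the image of its normalizer. -/
theorem normalizer_map_sylow {H : Type u} [Group H] [Finite H] (π : G →* H)
    (hπ : Function.Surjective π) (P : Sylow 2 G) :
    normalizer (((P : Subgroup G).map π : Subgroup H) : Set H) =
      (normalizer ((P : Subgroup G) : Set G)).map π := by
  refine le_antisymm (fun h hh => ?_) ?_
  · obtain ⟨g, rfl⟩ := hπ h
    set L := ((P : Subgroup G).map π).comap π
    set X := normalizer (L : Set G)
    have hPL : (P : Subgroup G) ≤ L := le_comap_map _ _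
    have hgX : g ∈ X := by
      rw [mem_normalizer_iff]
      intro x
      simp only [L, mem_comap, map_mul, map_inv]
      exact mem_normalizer_iff.1 hh _
    have hLX : L ≤ X := le_normalizer
    have : (L.subgroupOf X).Normal := normal_in_normalizer
    let P' : Sylow 2 X := P.subtype (hPL.trans hLX)
    have hP' : (P' : Subgroup X) ≤ L.subgroupOf X := fun a ha => hPL (by exact ha)
    have htop : (⟨g, hgX⟩ : X) ∈ normalizer ((P' : Subgroup X) : Set X) ⊔ L.subgroupOf X := by
      exact (Sylow.normalizer_sup_eq_top' P' hP').symm ▸ mem_top _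
    obtain ⟨m, hm, l, hl, hml⟩ := mem_sup_of_normal_right.1 htop
    have hmP : (m : G) ∈ normalizer ((P : Subgroup G) : Set G) := by
      refine mem_normalizer_iff.2 fun x => ⟨fun hx => ?_, fun hx => ?_⟩
      · exact (mem_normalizer_iff.1 hm ⟨x, hLX (hPL hx)⟩).1 hx
      · have hxX : x ∈ X := by
          have := X.mul_mem (X.mul_mem (inv_mem m.2) (hLX (hPL hx))) m.2
          simpa [mul_assoc] using this
        exact (mem_normalizer_iff.1 hm ⟨x, hxX⟩).2 hx
    obtain ⟨p, hp, hpl⟩ := (hl : π (l : G) ∈ (P : Subgroup G).map π)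
    refine ⟨(m : G) * p, mul_mem hmP (le_normalizer hp), ?_⟩
    rw [map_mul, hpl, ← map_mul]
    exact congrArg π (congrArg Subtype.val hml)
  · exact le_normalizer_map π

/-- The relative index of centralizer in normalizer survives a quotient on which the action on the
Sylow subgroup is faithful. -/
theorem relIndex_map {H : Type u} [Group H] [Finite H] (π : G →* H) (hπ : Function.Surjective π)
    (P : Sylow 2 G) (hfaith : ∀ g ∈ normalizer ((P : Subgroup G) : Set G),
      (∀ x ∈ (P : Subgroup G), π (g * x) = π (x * g)) → g ∈ centralizer ((P : Subgroup G) : Set G)) :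
    (centralizer (((P : Subgroup G).map π : Subgroup H) : Set H)).relIndex
        (normalizer (((P : Subgroup G).map π : Subgroup H) : Set H)) =
      (centralizer ((P : Subgroup G) : Set G)).relIndex (normalizer ((P : Subgroup G) : Set G)) := by
  rw [normalizer_map_sylow π hπ P, ← relIndex_comap, ← inf_relIndex_right,
    ← inf_relIndex_right (centralizer ((P : Subgroup G) : Set G))]
  congr 1
  ext g
  simp only [mem_inf, mem_comap]
  refine ⟨fun ⟨h, hn⟩ => ⟨hfaith g hn fun x hx => ?_, hn⟩, fun ⟨h, hn⟩ => ⟨?_, hn⟩⟩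
  · rw [map_mul, map_mul]
    exact (h _ (mem_map_of_mem π hx)).symm
  · rintro _ ⟨x, hx, rfl⟩
    rw [← map_mul, ← map_mul, h x hx]

/-- With an abelian Sylow subgroup the normalizer acts trivially on it inside a `2`-nilpotent
centralizer. -/
theorem inf_normalizer_of_nilp (P : Sylow 2 G) (hab : IsMulCommutative (P : Subgroup G)) {y : G}
    (hy : y ∈ (P : Subgroup G)) (h : HasNormalPComplement 2 (cz y)) :
    cz y ⊓ normalizer ((P : Subgroup G) : Set G) = centralizer ((P : Subgroup G) : Set G) := by
  refine le_antisymm ?_ (le_inf (centralizer_le (Set.singleton_subset_iff.2 hy))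
    (centralizer_le_normalizer _))
  rintro g ⟨hgy, hgn⟩ x hx
  obtain ⟨S, K, hK, hc⟩ := h
  have hPy : (P : Subgroup G) ≤ cz y := fun a ha =>
    mem_centralizer_singleton_iff.2 ((le_centralizer_self P hab ha y hy).symm)
  set g' : cz y := ⟨g, hgy⟩
  set x' : cz y := ⟨x, hPy hx⟩
  have h1 : (g' * x' * g'⁻¹ * x'⁻¹ : cz y) ∈ (P : Subgroup G).subgroupOf (cz y) := by
    rw [mem_subgroupOf]
    exact mul_mem ((mem_normalizer_iff.1 hgn x).1 hx) (inv_mem hx)
  have h2 : (g' * x' * g'⁻¹ * x'⁻¹ : cz y) ∈ K := by
    have hcomm : ∀ a b : cz y ⧸ K, a * b = b * a := by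
      have e := hc.symm.QuotientMulEquiv
      have hS : IsMulCommutative (S : Subgroup (cz y)) := by
        let P' : Sylow 2 (cz y) := P.subtype hPy
        refine ⟨⟨fun a b => (S.equiv P').injective ?_⟩⟩
        rw [map_mul, map_mul]
        exact Subtype.ext (Subtype.ext (congrArg Subtype.val (hab.is_comm.comm
          ⟨_, ((S.equiv P') a).2⟩ ⟨_, ((S.equiv P') b).2⟩) :))
      intro a b
      refine e.injective ?_
      rw [map_mul, map_mul]
      exact hS.is_comm.comm _ _
    rw [← QuotientGroup.eq_one_iff]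
    simp [hcomm (QuotientGroup.mk g') (QuotientGroup.mk x')]
  have hcop : (Nat.card K).Coprime 2 := by
    rw [← hc.index_eq_card, Nat.coprime_comm, Nat.prime_two.coprime_iff_not_dvd]
    exact S.not_dvd_index
  have hP2 : IsPGroup 2 ((P : Subgroup G).subgroupOf (cz y)) :=
    P.isPGroup'.comap_of_injective _ (cz y).subtype_injective
  obtain ⟨k, hk⟩ := IsPGroup.iff_orderOf.1 hP2 ⟨_, h1⟩
  rw [orderOf_mk] at hk
  have h3 : orderOf (g' * x' * g'⁻¹ * x'⁻¹ : cz y) ∣ Nat.card K :=
    (orderOf_mk _ h2) ▸ orderOf_dvd_natCard (⟨_, h2⟩ : K)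
  have h4 := Nat.eq_one_of_dvd_coprimes (Nat.Coprime.pow_right k hcop) h3 (hk ▸ dvd_rfl)
  have h5 := congrArg Subtype.val (mul_inv_eq_one.1 (orderOf_eq_one_iff.1 h4))
  simp only [g', x', coe_mul, InvMemClass.coe_inv] at h5
  exact (mul_inv_eq_iff_eq_mul.1 h5).symm

end CfsgLib.BlockA.PrimeInertial
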