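import Cfsg.Agent.Lib.BlockA.PrimeInertial.General
import Cfsg.Agent.Lib.InvolConj.Homocyclic
import Cfsg.Agent.Lib.ClassK.Core
import Cfsg.Agent.Lib.Block.PrincipalSection
import Mathlib.GroupTheory.GroupAction.Quotient
import Mathlib.GroupTheory.Solvable

/-!
Orbits of the normalizer on the elements of an abelian Sylow subgroup.
-/

set_option autoImplicit false
set_option linter.unusedSectionVars false

namespace CfsgLib.BlockA.PrimeInertial

open Cfsg Subgroup

universe u

variable {G : Type u} [Group G] [Finite G]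

local notation "NP" P => Subgroup.normalizer (SetLike.coe (Sylow.toSubgroup P))
local notation "CP" P => Subgroup.centralizer (SetLike.coe (Sylow.toSubgroup P))

/-- The centralizer of a Sylow subgroup has index prime to two in the normalizer. -/
theorem relIndex_odd (P : Sylow 2 G) (hab : IsMulCommutative (P : Subgroup G)) :
    Odd ((CP P).relIndex (NP P)) := by
  rw [← Nat.not_even_iff_odd, even_iff_two_dvd]
  intro h
  have h1 : (CP P).relIndex (NP P) ∣ (P : Subgroup G).relIndex (NP P) :=
    relIndex_dvd_of_le_left _ (le_centralizer_self P hab)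
  exact P.not_dvd_index (h.trans (h1.trans (relIndex_dvd_index_of_le le_normalizer)))

/-- An orbit of the normalizer has the index of the stabilizer as length. -/
theorem card_orbit (P : Sylow 2 G) (y : G) :
    Nat.card {z : G // ∃ g ∈ (NP P), g * y * g⁻¹ = z} = (cz y).relIndex (NP P) := by
  classical
  let f : (NP P) → {z : G // ∃ g ∈ (NP P), g * y * g⁻¹ = z} := fun g => ⟨_, g, g.2, rfl⟩
  have hf : ∀ a b : (NP P), f a = f b ↔ a⁻¹ * b ∈ (cz y).subgroupOf (NP P) := by
    intro a b
    rw [mem_subgroupOf, mem_centralizer_singleton_iff, Subtype.ext_iff]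
    simp only [f, coe_mul, InvMemClass.coe_inv]
    constructor
    · intro h
      calc (a : G)⁻¹ * b * y = (a : G)⁻¹ * ((b : G) * y * (b : G)⁻¹) * b := by group
        _ = (a : G)⁻¹ * ((a : G) * y * (a : G)⁻¹) * b := by rw [h]
        _ = y * ((a : G)⁻¹ * b) := by group
    · intro h
      calc (a : G) * y * (a : G)⁻¹ = (a : G) * (y * ((a : G)⁻¹ * b)) * (b : G)⁻¹ := by group
        _ = (a : G) * ((a : G)⁻¹ * b * y) * (b : G)⁻¹ := by rw [h]
        _ = (b : G) * y * (b : G)⁻¹ := by group
  let q : (NP P) ⧸ (cz y).subgroupOf (NP P) → {z : G // ∃ g ∈ (NP P), g * y * g⁻¹ = z} :=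
    Quotient.lift f fun a b h => (hf a b).2 (QuotientGroup.leftRel_apply.1 h)
  have hq : Function.Bijective q := by
    refine ⟨fun a b => ?_, fun ⟨z, g, hg, hz⟩ => ⟨QuotientGroup.mk ⟨g, hg⟩, Subtype.ext hz⟩⟩
    induction a using QuotientGroup.induction_on with
    | H a =>
      induction b using QuotientGroup.induction_on with
      | H b => exact fun h => QuotientGroup.eq.2 ((hf a b).1 h)
  rw [← Nat.card_congr (Equiv.ofBijective q hq), relIndex, index_eq_card]

/-- A set stable under the normalizer on which it acts freely modulo `C(P)` has order divisible by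
the inertial index. -/
theorem dvd_card_of_free (P : Sylow 2 G) (S : Finset G)
    (hS : ∀ g ∈ (NP P), ∀ y ∈ S, g * y * g⁻¹ ∈ S)
    (hfree : ∀ y ∈ S, (cz y).relIndex (NP P) = (CP P).relIndex (NP P)) :
    (CP P).relIndex (NP P) ∣ S.card := by
  classical
  let o : G → Finset G := fun y => S.filter fun z => ∃ g ∈ (NP P), g * y * g⁻¹ = z
  have hcard : ∀ y ∈ S, (o y).card = (CP P).relIndex (NP P) := by
    intro y hy
    rw [← hfree y hy, ← card_orbit P y, Nat.subtype_card]
    intro z
    simp only [o, Finset.mem_filter]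
    exact ⟨fun h => h.2, fun ⟨g, hg, hz⟩ => ⟨hz ▸ hS g hg y hy, g, hg, hz⟩⟩
  rw [Finset.card_eq_sum_card_image o S]
  refine Finset.dvd_sum fun c hc => ?_
  obtain ⟨y, hy, rfl⟩ := Finset.mem_image.1 hc
  rw [← hcard y hy]
  refine dvd_of_eq (congrArg Finset.card ?_)
  ext z
  simp only [o, Finset.mem_filter]
  constructor
  · rintro ⟨hz, g, hg, rfl⟩
    refine ⟨hz, ?_⟩
    ext v
    simp only [Finset.mem_filter]
    refine and_congr_right fun _ => ⟨?_, ?_⟩
    · rintro ⟨k, hk, rfl⟩
      exact ⟨k * g, mul_mem hk hg, by group⟩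
    · rintro ⟨k, hk, rfl⟩
      exact ⟨k * g⁻¹, mul_mem hk (inv_mem hg), by group⟩
  · rintro ⟨hz, he⟩
    have hzz : z ∈ o z := Finset.mem_filter.2 ⟨hz, 1, one_mem _, by simp⟩
    rw [show o z = o y from he] at hzz
    exact Finset.mem_filter.1 hzz

/-- The solutions of `x * x = 1` in an abelian Sylow subgroup. -/
theorem card_omega (P : Sylow 2 G) (hab : IsMulCommutative (P : Subgroup G)) :
    ∃ n : ℕ, Nat.card {x : (P : Subgroup G) // x * x = 1} = 2 ^ n := by
  have : IsMulCommutative (P : Subgroup G) := hab
  let Ω : Subgroup (P : Subgroup G) :=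
    { carrier := {x | x * x = 1}
      one_mem' := one_mul 1
      mul_mem' := fun {a b} ha hb => by
        show a * b * (a * b) = 1
        rw [mul_assoc, ← mul_assoc b a b, hab.is_comm.comm b a, mul_assoc a b b, hb, mul_one, ha]
      inv_mem' := fun {a} ha => by
        show a⁻¹ * a⁻¹ = 1
        rw [← mul_inv_rev, ha, inv_one] }
  obtain ⟨n, hn⟩ := (P.isPGroup'.to_subgroup Ω).exists_card_eq
  exact ⟨n, hn⟩

/-- In a group without odd normal subgroups a normal abelian Sylow subgroup is self-centralizing. -/
theorem centralizer_eq_of_normal (hcore : NoOddNormal G) (P : Sylow 2 G)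
    (hn : (P : Subgroup G).Normal) (hab : IsMulCommutative (P : Subgroup G)) :
    (CP P) = (P : Subgroup G) := by
  refine le_antisymm ?_ (le_centralizer_self P hab)
  haveI := hn
  set C := (CP P)
  haveI hCn : C.Normal := Subgroup.normal_centralizer
  have hPC := le_centralizer_self P hab
  have hnp : HasNormalPComplement 2 C :=
    CfsgLib.Transfer.hasNormalPComplement_of_normalizer_le_centralizer (P.subtype hPC)
      fun g _ x hx => Subtype.ext (g.2 _ hx)
  obtain ⟨hreg, hcard⟩ := CfsgLib.Block.core_of_hasNormalPComplement hnp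
  set K := pPrimeCore 2 C
  haveI : K.Characteristic := CfsgLib.ClassK.pPrimeCore_characteristic
  have hK : K.map C.subtype = ⊥ := by
    refine hcore _ inferInstance ?_
    rw [Subgroup.card_map_of_injective C.subtype_injective]
    exact Nat.coprime_two_right.1 (CfsgLib.Solvable.pPrimeCore_coprime 2)
  rw [Subgroup.map_eq_bot_iff_of_injective _ C.subtype_injective] at hK
  rw [hK, Subgroup.card_bot, mul_one] at hcard
  obtain ⟨Q, hQ⟩ := (IsPGroup.of_card (p := 2) hcard).exists_le_sylow
  rw [← P.3 (IsPGroup.of_card (p := 2) hcard) hPC]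

/-- A group with a normal abelian subgroup and commutative quotient is solvable. -/
theorem isSolvable_of_abelian_quotient (N : Subgroup G) [N.Normal] [IsMulCommutative N]
    (h : ∀ a b : G ⧸ N, a * b = b * a) : Group.IsSolvable G := by
  haveI : Group.IsSolvable N := Group.isSolvable_of_comm fun a b => IsMulCommutative.is_comm.comm a b
  haveI : Group.IsSolvable (G ⧸ N) := Group.isSolvable_of_comm h
  exact Group.isSolvable_of_ker_le_range N.subtype (QuotientGroup.mk' N) (by simp)

end CfsgLib.BlockA.PrimeInertial
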