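import Cfsg.Agent.Lib.BlockA.PrimeInertial.Basic
import Cfsg.Agent.Lib.Chev.InvertedBy

/-!
Small index forces `W = 1`.

The group `R` permutes the `W`-orbits outside the base point semiregularly and every two-point stabiliser covers
`H / WR`, so each orbit of `H` has length `q · l` with `l` the length of a `W`-orbit; hence `l ≤ 3`. An element of
`H` outside `W` fixes at most one `W`-orbit in each orbit of `H`. This kills the case of two orbits at once; in
the doubly transitive case three double transpositions multiply into the two-point stabiliser `D`, and all three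
invert a nontrivial quotient of `D` of odd order.
-/

set_option autoImplicit false
set_option linter.unusedSectionVars false

namespace CfsgLib.BlockA.PrimeInertial

open Cfsg CfsgLib.Invol

universe u

section

variable {G : Type u} [Group G] [Finite G] {R : Sylow 2 G} {W H : Subgroup G} {w : G} {n : ℕ}

/-- The base point. -/
local notation "α" => ((1 : G) : G ⧸ H)

theorem perm_smul_base (g : G) : g • α = α ↔ g ∈ H := by
  rw [fix_coset_iff]; simp

theorem perm_eq_one_of_sq {g : G} {K : Subgroup G} (hodd : Odd (Nat.card K)) (hg : g ∈ K)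
    (h : g * g = 1) : g = 1 := by
  obtain ⟨k, hk⟩ := hodd
  have h1 : g ^ Nat.card K = 1 := congrArg Subtype.val (pow_card_eq_one' (x := (⟨g, hg⟩ : K)))
  rw [hk, pow_succ, pow_mul, pow_two, h, one_pow, one_mul] at h1
  exact h1

/-- An element of odd order lies in every subgroup containing its square. -/
theorem perm_mem_of_sq {g : G} {K : Subgroup G} (hodd : Odd (orderOf g)) (h : g * g ∈ K) :
    g ∈ K := by
  obtain ⟨k, hk⟩ := hodd
  have h1 : (g * g) ^ (k + 1) = g := by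
    rw [← pow_two, ← pow_mul, show 2 * (k + 1) = orderOf g + 1 by omega, pow_succ, pow_orderOf_eq_one, one_mul]
  rw [← h1]
  exact pow_mem h _

variable (S : Setup R W H w n)
include S

theorem Setup.perm_invol {r : G} (hr : r ∈ (R : Subgroup G)) (h1 : r ≠ 1) : orderOf r = 2 :=
  invol_of_mul_self (S.elem r hr) h1

theorem Setup.perm_inf {r : G} (hr : r ∈ (R : Subgroup G)) (hW : r ∈ W) : r = 1 :=
  perm_eq_one_of_sq S.odd_W hW (S.elem r hr)

theorem Setup.perm_rinv {r : G} (hr : r ∈ (R : Subgroup G)) : r⁻¹ = r :=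
  inv_eq_of_mul_eq_one_right (S.elem r hr)

theorem Setup.perm_rcomm {r s : G} (hr : r ∈ (R : Subgroup G)) (hs : s ∈ (R : Subgroup G)) :
    r * s = s * r := by
  have h := S.perm_rinv (mul_mem hr hs)
  rw [mul_inv_rev, S.perm_rinv hr, S.perm_rinv hs] at h
  exact h.symm

theorem Setup.perm_exists_invol : ∃ t ∈ (R : Subgroup G), t ≠ 1 := by
  by_contra hcon
  push Not at hcon
  have h : (R : Subgroup G) = ⊥ := (Subgroup.eq_bot_iff_forall _).2 hcon
  have := S.card_R
  rw [h, Subgroup.card_bot] at this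
  have h8 : 2 ^ 3 ≤ 2 ^ n := Nat.pow_le_pow_right (by norm_num) S.three_le
  omega

theorem Setup.perm_wpow_mem (i : ℕ) {r : G} (hr : r ∈ (R : Subgroup G)) :
    w ^ i * r * (w ^ i)⁻¹ ∈ (R : Subgroup G) := by
  induction i with
  | zero => simpa using hr
  | succ i ih =>
    have h := S.w_norm _ ih
    rwa [show w ^ (i + 1) * r * (w ^ (i + 1))⁻¹ = w * (w ^ i * r * (w ^ i)⁻¹) * w⁻¹ by
      rw [pow_succ']; group]

/-- Conjugation by an element of `H` maps an element of `R` into `W R`. -/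
theorem Setup.perm_conj {h r : G} (hh : h ∈ H) (hr : r ∈ (R : Subgroup G)) :
    ∃ a ∈ W, ∃ r' ∈ (R : Subgroup G), h * r * h⁻¹ = a * r' := by
  obtain ⟨a, ha, r₀, hr₀, i, rfl⟩ := S.mem_M h hh
  have h1 := S.perm_wpow_mem i hr
  have h2 : r₀ * (w ^ i * r * (w ^ i)⁻¹) * r₀⁻¹ = w ^ i * r * (w ^ i)⁻¹ := by
    rw [S.perm_rcomm hr₀ h1, mul_inv_cancel_right]
  refine ⟨a * ((w ^ i * r * (w ^ i)⁻¹) * a⁻¹ * (w ^ i * r * (w ^ i)⁻¹)⁻¹),
    mul_mem ha (S.W_norm _ (S.R_le h1) _ (inv_mem ha)), _, h1, ?_⟩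
  calc a * r₀ * w ^ i * r * (a * r₀ * w ^ i)⁻¹
      = a * (r₀ * (w ^ i * r * (w ^ i)⁻¹) * r₀⁻¹) * a⁻¹ := by group
    _ = _ := by rw [h2]; group

/-- `R` permutes the orbits of `W` outside the base point semiregularly. -/
theorem Setup.perm_semireg {x : G ⧸ H} (hx : x ≠ α) {r a : G} (hr : r ∈ (R : Subgroup G)) (ha : a ∈ W)
    (h : r • x = a • x) : r = 1 := by
  by_contra h1
  have hux : (a⁻¹ * r) • x = x := by rw [mul_smul, h, inv_smul_smul]
  have hsq : (a⁻¹ * r) * (a⁻¹ * r) ∈ W := by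
    have e : (a⁻¹ * r) * (a⁻¹ * r) = a⁻¹ * (r * a⁻¹ * r⁻¹) * (r * r) := by group
    rw [e, S.elem r hr, mul_one]
    exact mul_mem (inv_mem ha) (S.W_norm r (S.R_le hr) _ (inv_mem ha))
  have huH : a⁻¹ * r ∈ H := mul_mem (inv_mem (S.W_le ha)) (S.R_le hr)
  obtain ⟨j, hj⟩ : Odd (orderOf ((a⁻¹ * r) * (a⁻¹ * r))) :=
    S.odd_W.of_dvd_nat (Subgroup.orderOf_dvd_natCard W hsq)
  have hvne : (a⁻¹ * r) ^ (2 * j + 1) ≠ 1 := by
    intro hv
    rw [pow_succ, pow_mul, pow_two] at hv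
    have hmem : a⁻¹ * r ∈ W := by
      rw [eq_inv_of_mul_eq_one_right hv]
      exact inv_mem (pow_mem hsq _)
    refine h1 (S.perm_inf hr ?_)
    simpa using mul_mem ha hmem
  have hvv : (a⁻¹ * r) ^ (2 * j + 1) * (a⁻¹ * r) ^ (2 * j + 1) = 1 := by
    rw [← (Commute.refl (a⁻¹ * r)).mul_pow, ← hj, pow_orderOf_eq_one]
  have hfix : ∀ k : ℕ, (a⁻¹ * r) ^ k • x = x := by
    intro k
    induction k with
    | zero => simp
    | succ k ih => rw [pow_succ, mul_smul, hux, ih]
  exact hx (se_fix_eq S.se (invol_of_mul_self hvv hvne) (hfix _)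
    ((perm_smul_base _).2 (pow_mem huH _)))

/-- Each stabiliser of two points covers `H / W R`. -/
theorem Setup.perm_cover {x : G ⧸ H} (hx : x ≠ α) {h : G} (hh : h ∈ H) :
    ∃ a ∈ W, ∃ r ∈ (R : Subgroup G), ∃ d ∈ H, d • x = x ∧ h = a * r * d := by
  obtain ⟨t, ht, ht1⟩ := S.perm_exists_invol
  have ht2 := S.perm_invol ht ht1
  obtain ⟨d, hdα, hdx, hdt⟩ := se_stab_transitive S.se (Ne.symm hx) ht2
    (by rw [orderOf_conj_eq, ht2] : orderOf (h * t * h⁻¹) = 2) ((perm_smul_base _).2 (S.R_le ht))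
    ((perm_smul_base _).2 (mul_mem (mul_mem hh (S.R_le ht)) (inv_mem hh)))
  have hdH := (perm_smul_base d).1 hdα
  have hc : d⁻¹ * h ∈ cz t := Subgroup.mem_centralizer_singleton_iff.2 (by
    calc d⁻¹ * h * t = d⁻¹ * (h * t * h⁻¹) * h := by group
      _ = t * (d⁻¹ * h) := by rw [← hdt]; group)
  obtain ⟨a, ha, r, hr, hgr⟩ := (S.cent t ht ht1 _).1 hc
  obtain ⟨a', ha', r', hr', hdr⟩ := S.perm_conj hdH hr
  refine ⟨d * a * d⁻¹ * a', mul_mem (S.W_norm d hdH a ha.1) ha', r', hr', d, hdH, hdx, ?_⟩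
  calc h = d * (d⁻¹ * h) := by group
    _ = d * a * d⁻¹ * (d * r * d⁻¹) * d := by rw [hgr]; group
    _ = d * a * d⁻¹ * a' * r' * d := by rw [hdr]; group

theorem Setup.perm_orbit_eq {x : G ⧸ H} (hx : x ≠ α) {y : G ⧸ H} (hy : y ∈ MulAction.orbit H x) :
    ∃ a ∈ W, ∃ r ∈ (R : Subgroup G), y = (a * r) • x := by
  obtain ⟨h, rfl⟩ := hy
  obtain ⟨a, ha, r, hr, d, -, hdx, he⟩ := S.perm_cover hx h.2
  refine ⟨a, ha, r, hr, ?_⟩
  show (h : G) • x = _
  rw [he, mul_smul, hdx]

/-- The length of an orbit of `H` is `q` times that of an orbit of `W` in it. -/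
theorem Setup.perm_card_orbit {x : G ⧸ H} (hx : x ≠ α) :
    (MulAction.orbit H x).ncard = 2 ^ n * (MulAction.orbit W x).ncard := by
  let f : ↥(R : Subgroup G) × ↥(MulAction.orbit W x) → MulAction.orbit H x := fun p =>
    ⟨(p.1 : G) • (p.2 : G ⧸ H), by
      obtain ⟨b, hb⟩ := p.2.2
      exact ⟨⟨(p.1 : G) * b, mul_mem (S.R_le p.1.2) (S.W_le b.2)⟩, by
        show ((p.1 : G) * b) • x = _
        rw [mul_smul, ← hb]; rfl⟩⟩
  have hf : Function.Bijective f := by
    constructor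
    · rintro ⟨⟨r, hr⟩, ⟨_, b, rfl⟩⟩ ⟨⟨r', hr'⟩, ⟨_, b', rfl⟩⟩ h
      have h1 : r • ((b : G) • x) = r' • ((b' : G) • x) := congrArg Subtype.val h
      have hrr : r = r' := by
        have hbx : (b : G) • x ≠ α := fun hb => hx (by
          rw [← inv_smul_smul (b : G) x, hb, perm_smul_base]; exact inv_mem (S.W_le b.2))
        have h2 := S.perm_semireg hbx (mul_mem hr' hr) (mul_mem b'.2 (inv_mem b.2)) (by
          rw [mul_smul, h1, ← mul_smul r' r', S.elem r' hr', one_smul, mul_smul, inv_smul_smul])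
        rw [eq_inv_of_mul_eq_one_right h2, S.perm_rinv hr']
      subst hrr
      exact Prod.ext rfl (Subtype.ext (smul_left_cancel r h1))
    · rintro ⟨y, hy⟩
      obtain ⟨a, ha, r, hr, rfl⟩ := S.perm_orbit_eq hx hy
      refine ⟨⟨⟨r, hr⟩, ⟨(r⁻¹ * a * r) • x, ⟨r⁻¹ * a * r, ?_⟩, rfl⟩⟩, Subtype.ext ?_⟩
      · simpa using S.W_norm r⁻¹ (inv_mem (S.R_le hr)) a ha
      · show r • ((r⁻¹ * a * r) • x) = (a * r) • x
        rw [← mul_smul]; congr 1; group
  rw [← Nat.card_coe_set_eq, ← Nat.card_coe_set_eq, ← Nat.card_eq_of_bijective f hf, Nat.card_prod, S.card_R]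

omit [Finite G] S in
theorem perm_orbit_ne {x y : G ⧸ H} (hx : x ≠ α) (hy : y ∈ MulAction.orbit H x) : y ≠ α := by
  obtain ⟨h, rfl⟩ := hy
  intro e
  apply hx
  rw [← inv_smul_smul (h : G) x]
  have h' : (h : G) • x = α := e
  rw [h', MulAction.Quotient.smul_coe, QuotientGroup.eq]
  simpa using h.2

theorem Setup.perm_card_W_orbit (hv : H.index < 5 * 2 ^ n) {x : G ⧸ H} (hx : x ≠ α) :
    (MulAction.orbit W x).ncard = 1 ∨ (MulAction.orbit W x).ncard = 3 := by
  have hdvd : (MulAction.orbit W x).ncard ∣ Nat.card W := by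
    rw [← Nat.card_coe_set_eq, Nat.card_congr (MulAction.orbitEquivQuotientStabilizer W x)]
    exact Subgroup.card_quotient_dvd_card _
  obtain ⟨k, hk⟩ := S.odd_W.of_dvd_nat hdvd
  have hle : (MulAction.orbit H x).ncard + 1 ≤ H.index := by
    rw [Subgroup.index, ← Set.ncard_univ, ← Set.ncard_insert_of_notMem
      (fun h => perm_orbit_ne hx h rfl : α ∉ MulAction.orbit H x)]
    exact Set.ncard_le_ncard (Set.subset_univ _)
  rw [S.perm_card_orbit hx] at hle
  by_contra hne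
  have h5 : 5 ≤ (MulAction.orbit W x).ncard := by omega
  have := Nat.mul_le_mul_left (2 ^ n) h5
  omega

/-- An element of `H` fixing two points of one `H`-orbit in different `W`-orbits lies in `W`. -/
theorem Setup.perm_mem_W {x y : G ⧸ H} (hx : x ≠ α) (hy : y ∈ MulAction.orbit H x) {c : G} (hc : c ∈ H)
    (hcx : c • x = x) (hcy : c • y = y) (hne : y ∉ MulAction.orbit W x) : c ∈ W := by
  obtain ⟨a, ha, r, hr, rfl⟩ := S.perm_orbit_eq hx hy
  have hr1 : r ≠ 1 := by
    rintro rfl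
    exact hne ⟨⟨a, ha⟩, by show a • x = (a * 1) • x; rw [mul_one]⟩
  obtain ⟨a₂, ha₂, r₂, hr₂, hconj⟩ := S.perm_conj hc hr
  set b := c * a * c⁻¹ * a₂ with hb
  have hbW : b ∈ W := mul_mem (S.W_norm c hc a ha) ha₂
  have e1 : (b * r₂) • x = (a * r) • x := by
    calc (b * r₂) • x = (b * r₂) • c • x := by rw [hcx]
      _ = c • (a * r) • x := by
          rw [← mul_smul, ← mul_smul]
          congr 1
          rw [hb, mul_assoc _ a₂ r₂, ← hconj]; group
      _ = _ := hcy
  have hrr : r = r₂ := by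
    by_contra hne'
    set u := r₂ * r with hu
    have huR : u ∈ (R : Subgroup G) := mul_mem hr₂ hr
    have e2 : r₂ • x = (b⁻¹ * a) • r • x := by
      rw [← mul_smul, mul_assoc, mul_smul, ← e1, ← mul_smul, inv_mul_cancel_left]
    have e3 : u • x = (r * (b⁻¹ * a) * r⁻¹) • x := by
      rw [hu, S.perm_rcomm hr₂ hr, mul_smul, e2, S.perm_rinv hr, ← mul_smul, ← mul_smul]
    have h4 := S.perm_semireg hx huR (S.W_norm r (S.R_le hr) _ (mul_mem (inv_mem hbW) ha)) e3
    exact hne' (by rw [eq_inv_of_mul_eq_one_right h4, S.perm_rinv hr₂])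
  subst hrr
  have hi : orderOf (c * r * c⁻¹) = 2 := by rw [orderOf_conj_eq, S.perm_invol hr hr1]
  have hprod : c * r * c⁻¹ * r = a₂ := by rw [hconj, mul_assoc, S.elem r hr, mul_one]
  obtain ⟨d, hd, hdr⟩ := exists_conj_of_odd hi (S.perm_invol hr hr1)
    (by rw [hprod]; exact S.odd_W.of_dvd_nat (Subgroup.orderOf_dvd_natCard W ha₂))
  have hdW : d ∈ W := by
    refine (Subgroup.zpowers_le.2 ?_) hd
    rw [hprod]; exact ha₂
  have hdc : d * c ∈ cz r := Subgroup.mem_centralizer_singleton_iff.2 (by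
    calc d * c * r = d * (c * r * c⁻¹) * d⁻¹ * (d * c) := by group
      _ = r * (d * c) := by rw [hdr])
  obtain ⟨o, ho, r', hr', hor⟩ := (S.cent r hr hr1 _).1 hdc
  have hc' : c = d⁻¹ * o * r' := by rw [mul_assoc, ← hor, inv_mul_cancel_left]
  have hr'1 : r' = 1 := by
    refine S.perm_semireg hx hr' (inv_mem (mul_mem (inv_mem hdW) ho.1)) ?_
    rw [hc', mul_smul] at hcx
    exact eq_inv_smul_iff.2 hcx
  rw [hc', hr'1, mul_one]
  exact mul_mem (inv_mem hdW) ho.1

theorem Setup.perm_faithful {a : G} (h : ∀ x : G ⧸ H, a • x = x) : a = 1 := by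
  have hcore : H.normalCore = ⊥ := by
    refine S.core _ inferInstance (Nat.not_even_iff_odd.1 fun heven => ?_)
    obtain ⟨u, hu, hu2⟩ := exists_invol_mem heven
    obtain ⟨s, hs, hs2⟩ := se_exists_invol_notMem S.se
    obtain ⟨g, rfl⟩ := isConj_iff.1 (se_isConj S.se hu2 hs2)
    exact hs (H.normalCore_le (Subgroup.Normal.conj_mem inferInstance u hu g))
  rw [← Subgroup.mem_bot, ← hcore]
  intro g
  have := (fix_coset_iff a g⁻¹).1 (h _)
  rwa [inv_inv] at this

theorem Setup.perm_pow_three (hv : H.index < 5 * 2 ^ n) {a : G} (ha : a ∈ W) : a ^ 3 = 1 := by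
  refine S.perm_faithful fun x => ?_
  by_cases hx : x = α
  · subst hx
    exact (perm_smul_base _).2 (pow_mem (S.W_le ha) _)
  have hper : MulAction.period a x ∣ orderOf a := MulAction.period_dvd_orderOf a x
  obtain ⟨k, hk⟩ := (S.odd_W.of_dvd_nat (Subgroup.orderOf_dvd_natCard W ha)).of_dvd_nat hper
  have hsub : (fun i : Fin (MulAction.period a x) => a ^ (i : ℕ) • x) ''
      Set.univ ⊆ MulAction.orbit W x := by
    rintro _ ⟨i, -, rfl⟩
    exact ⟨⟨a ^ (i : ℕ), pow_mem ha _⟩, rfl⟩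
  have hinj : Function.Injective (fun i : Fin (MulAction.period a x) => a ^ (i : ℕ) • x) := by
    intro i j hij
    exact Fin.ext (Function.iterate_injOn_Iio_minimalPeriod (f := (a • ·)) (x := x) i.2 j.2
      (by simpa [smul_iterate] using hij))
  have hle := Set.ncard_le_ncard hsub
  rw [Set.image_univ, Set.ncard_range_of_injective hinj, Nat.card_fin] at hle
  refine MulAction.pow_smul_eq_iff_period_dvd.2 ?_
  rcases S.perm_card_W_orbit hv hx with h | h <;> rw [h] at hle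
  · rw [show MulAction.period a x = 1 by omega]; exact one_dvd _
  · rcases (show MulAction.period a x = 1 ∨ MulAction.period a x = 3 by omega) with h' | h' <;> rw [h']
    exact one_dvd _

/-- Two orbits of `H` are impossible. -/
theorem Setup.perm_transitive (hv : H.index < 5 * 2 ^ n) {x y : G ⧸ H} (hx : x ≠ α)
    (hl : (MulAction.orbit W x).ncard = 3) (hy : y ≠ α) : y ∈ MulAction.orbit H x := by
  by_contra hyx
  have hq8 : 2 ^ 3 ≤ 2 ^ n := Nat.pow_le_pow_right (by norm_num) S.three_le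
  have hdis : Disjoint (MulAction.orbit H x) (MulAction.orbit H y) := by
    rw [Set.disjoint_left]
    intro u hux huy
    exact hyx ((MulAction.orbit_eq_iff.1 (((MulAction.orbit_eq_iff.2 huy).symm.trans
      (MulAction.orbit_eq_iff.2 hux)))) )
  have hα : α ∉ MulAction.orbit H x ∪ MulAction.orbit H y := by
    rintro (h | h)
    · exact perm_orbit_ne hx h rfl
    · exact perm_orbit_ne hy h rfl
  have hcardA : (insert α (MulAction.orbit H x ∪ MulAction.orbit H y)).ncard =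
      2 ^ n * 3 + 2 ^ n * (MulAction.orbit W y).ncard + 1 := by
    rw [Set.ncard_insert_of_notMem hα, Set.ncard_union_eq hdis, S.perm_card_orbit hx, S.perm_card_orbit hy, hl]
  have hleA := Set.ncard_le_ncard (Set.subset_univ (insert α (MulAction.orbit H x ∪ MulAction.orbit H y)))
  rw [hcardA, Set.ncard_univ] at hleA
  have hl' : (MulAction.orbit W y).ncard = 1 := by
    rcases S.perm_card_W_orbit hv hy with h | h
    · exact h
    · rw [h] at hleA; rw [Subgroup.index] at hv; omega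
  rw [hl'] at hleA
  -- nothing else is left
  have hall : ∀ u : G ⧸ H, u ≠ α → u ∈ MulAction.orbit H x ∨ u ∈ MulAction.orbit H y := by
    intro u hu
    by_contra hc
    have hu' : α ∉ MulAction.orbit H x ∪ MulAction.orbit H y ∪ MulAction.orbit H u := by
      rintro (h | h)
      · exact hα h
      · exact perm_orbit_ne hu h rfl
    have hdis' : Disjoint (MulAction.orbit H x ∪ MulAction.orbit H y) (MulAction.orbit H u) := by
      rw [Set.disjoint_left]
      intro z hz hzu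
      apply hc
      have hu2 : u ∈ MulAction.orbit H z := MulAction.orbit_eq_iff.1 (MulAction.orbit_eq_iff.2 hzu).symm
      rcases hz with hz | hz
      · exact Or.inl ((MulAction.orbit_eq_iff.2 hz) ▸ hu2)
      · exact Or.inr ((MulAction.orbit_eq_iff.2 hz) ▸ hu2)
    have h3 := Set.ncard_le_ncard (Set.subset_univ
      (insert α (MulAction.orbit H x ∪ MulAction.orbit H y ∪ MulAction.orbit H u)))
    rw [Set.ncard_insert_of_notMem hu', Set.ncard_union_eq hdis', Set.ncard_union_eq hdis,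
      S.perm_card_orbit hx, S.perm_card_orbit hy, S.perm_card_orbit hu, hl, hl', Set.ncard_univ] at h3
    rw [Subgroup.index] at hv
    rcases S.perm_card_W_orbit hv hu with h | h <;> rw [h] at h3 <;> omega
  -- the fixed points of `W`
  obtain ⟨z0, hz0⟩ := Set.ncard_eq_one.1 hl'
  have hfixy : ∀ u ∈ MulAction.orbit H y, ∀ a ∈ W, a • u = u := by
    rintro _ ⟨h, rfl⟩ a ha
    have hm : ∀ b ∈ W, b • y = y := by
      intro b hb
      have h1 : b • y ∈ MulAction.orbit W y := ⟨⟨b, hb⟩, rfl⟩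
      have h2 : y ∈ MulAction.orbit W y := MulAction.mem_orbit_self y
      rw [hz0, Set.mem_singleton_iff] at h1 h2
      rw [h1, ← h2]
    show a • (h : G) • y = (h : G) • y
    calc a • (h : G) • y = (h : G) • ((h : G)⁻¹ * a * ((h : G)⁻¹)⁻¹) • y := by
          rw [← mul_smul, ← mul_smul]; congr 1; group
      _ = _ := by rw [hm _ (S.W_norm _ (inv_mem h.2) a ha)]
  have hmovx : ∀ u ∈ MulAction.orbit H x, ¬ ∀ a ∈ W, a • u = u := by
    intro u hu hfix
    obtain ⟨h, hh⟩ := hu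
    have : MulAction.orbit W x ⊆ {x} := by
      rintro _ ⟨b, rfl⟩
      have h1 := hfix ((h : G) * b * (h : G)⁻¹) (S.W_norm _ h.2 _ b.2)
      have hu' : u = (h : G) • x := hh.symm
      rw [hu', ← mul_smul, inv_mul_cancel_right, mul_smul] at h1
      exact smul_left_cancel _ h1
    have := Set.ncard_le_ncard this
    rw [hl, Set.ncard_singleton] at this
    omega
  obtain ⟨z, hz, hzα⟩ := se_swap_exists S.se (Ne.symm hy)
  have hzy : z • y = α := invol_smul_swap hz hzα
  have hzF : ∀ u, (u = α ∨ u ∈ MulAction.orbit H y) → ∀ a ∈ W, a • u = u := by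
    rintro u (rfl | hu) a ha
    · exact (perm_smul_base _).2 (S.W_le ha)
    · exact hfixy u hu a ha
  have hWz : ∀ a ∈ W, z * a * z⁻¹ ∈ W := by
    intro a ha
    have hfixc : ∀ u ∈ (fun t => z • t) '' (insert α (MulAction.orbit H y)), (z * a * z⁻¹) • u = u := by
      rintro _ ⟨t, ht, rfl⟩
      show (z * a * z⁻¹) • (z • t) = z • t
      rw [← mul_smul, inv_mul_cancel_right, mul_smul, hzF t ht a ha]
    have hcH : z * a * z⁻¹ ∈ H := (perm_smul_base _).1
      (hfixc α ⟨y, Or.inr (MulAction.mem_orbit_self y), hzy⟩)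
    have hcy : (z * a * z⁻¹) • y = y := hfixc y ⟨α, Or.inl rfl, hzα⟩
    by_contra hcW
    have hcard : ((fun t => z • t) '' (insert α (MulAction.orbit H y))).ncard = 2 ^ n + 1 := by
      rw [Set.ncard_image_of_injective _ (MulAction.injective z),
        Set.ncard_insert_of_notMem (fun h => hα (Or.inr h)), S.perm_card_orbit hy, hl', mul_one]
    -- a fixed point in the long orbit, if there is one
    obtain ⟨x₀, hx₀⟩ : ∃ x₀ : G ⧸ H, ∀ u ∈ MulAction.orbit H x, (z * a * z⁻¹) • u = u →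
        u ∈ MulAction.orbit W x₀ ∧ (MulAction.orbit W x₀).ncard ≤ 3 := by
      by_cases hex : ∃ u ∈ MulAction.orbit H x, (z * a * z⁻¹) • u = u
      · obtain ⟨x₀, hx₀, hcx₀⟩ := hex
        have hx₀α := perm_orbit_ne hx hx₀
        refine ⟨x₀, fun u hu hcu => ⟨?_, ?_⟩⟩
        · by_contra hn
          exact hcW (S.perm_mem_W hx₀α ((MulAction.orbit_eq_iff.2 hx₀).symm ▸ hu) hcH hcx₀ hcu hn)
        · rcases S.perm_card_W_orbit hv hx₀α with h | h <;> omega
      · exact ⟨x, fun u hu hcu => (hex ⟨u, hu, hcu⟩).elim⟩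
    have hsub : (fun t => z • t) '' (insert α (MulAction.orbit H y)) ⊆
        {α, y} ∪ {u ∈ MulAction.orbit W x₀ | (MulAction.orbit W x₀).ncard ≤ 3} := by
      intro u hu
      by_cases huα : u = α
      · exact Or.inl (Or.inl huα)
      rcases hall u huα with h | h
      · exact Or.inr (hx₀ u h (hfixc u hu))
      · refine Or.inl (Or.inr ?_)
        by_contra huy
        refine hcW (S.perm_mem_W hy h hcH hcy (hfixc u hu) fun hn => huy ?_)
        rw [hz0] at hn
        have := MulAction.mem_orbit_self (M := W) y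
        rw [hz0] at this
        exact hn.trans this.symm
    have h1 := Set.ncard_le_ncard hsub
    have h2 := Set.ncard_union_le ({α, y} : Set (G ⧸ H))
      {u ∈ MulAction.orbit W x₀ | (MulAction.orbit W x₀).ncard ≤ 3}
    have h3 : ({α, y} : Set (G ⧸ H)).ncard ≤ 2 := by rw [Set.ncard_pair (Ne.symm hy)]
    have h4 : {u ∈ MulAction.orbit W x₀ | (MulAction.orbit W x₀).ncard ≤ 3}.ncard ≤ 3 := by
      by_cases h : (MulAction.orbit W x₀).ncard ≤ 3
      · simpa [h] using h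
      · simp [h]
    omega
  -- so `z` normalises `W`
  set K := Subgroup.normalizer (W : Set G) with hK
  have hzK : z ∈ K := by
    rw [hK, Subgroup.mem_normalizer_iff]
    refine fun a => ⟨hWz a, fun h => ?_⟩
    have := hWz _ h
    rwa [show z * (z * a * z⁻¹) * z⁻¹ = (z * z) * a * (z * z)⁻¹ by group, invol_mul_self hz, one_mul,
      inv_one, mul_one] at this
  have hHK : H ≤ K := fun h hh => Subgroup.mem_normalizer_iff.2 fun a =>
    ⟨S.W_norm h hh a, fun ha => by simpa [mul_assoc] using S.W_norm h⁻¹ (inv_mem hh) _ ha⟩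
  have horb : MulAction.orbit K α = insert α (MulAction.orbit H y) := by
    refine Set.Subset.antisymm ?_ ?_
    · rintro _ ⟨k, rfl⟩
      have hfix : ∀ a ∈ W, a • (k : G) • α = (k : G) • α := by
        intro a ha
        have hm : (k : G)⁻¹ * a * ((k : G)⁻¹)⁻¹ ∈ W :=
          (Subgroup.mem_normalizer_iff.1 (inv_mem k.2) a).1 ha
        rw [inv_inv] at hm
        rw [← mul_smul, show a * (k : G) = (k : G) * ((k : G)⁻¹ * a * k) by group, mul_smul,
          (perm_smul_base _).2 (S.W_le hm)]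
      by_cases hu : (k : G) • α = α
      · exact Or.inl hu
      · exact Or.inr ((hall _ hu).resolve_left fun h => hmovx _ h hfix)
    · rintro u (rfl | hu)
      · exact MulAction.mem_orbit_self _
      · obtain ⟨h, rfl⟩ := hu
        exact ⟨⟨(h : G) * z, mul_mem (hHK h.2) hzK⟩, by
          show ((h : G) * z) • α = (h : G) • y
          rw [mul_smul, hzα]⟩
  have hcount := Nat.card_congr (MulAction.orbitProdStabilizerEquivGroup K α)
  rw [Nat.card_prod, Nat.card_coe_set_eq, horb, Set.ncard_insert_of_notMem (fun h => hα (Or.inr h)),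
    S.perm_card_orbit hy, hl', mul_one] at hcount
  have hstab : Nat.card (MulAction.stabilizer K α) = Nat.card H := by
    refine Nat.card_congr ⟨fun k => ⟨(k : K), (perm_smul_base _).1 k.2⟩,
      fun h => ⟨⟨h, hHK h.2⟩, (perm_smul_base _).2 h.2⟩, fun k => rfl, fun h => rfl⟩
  have hdvd : 2 ^ n + 1 ∣ H.index := by
    refine Nat.dvd_of_mul_dvd_mul_right (Nat.card_pos : 0 < Nat.card H) ?_
    rw [← hstab, hcount, hstab, Subgroup.index_mul_card]
    exact Subgroup.card_subgroup_dvd_card K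
  have hv1 : Nat.card (G ⧸ H) = 2 ^ n * 3 + 2 ^ n + 1 := by
    have he : insert α (MulAction.orbit H x ∪ MulAction.orbit H y) = Set.univ := by
      refine Set.eq_univ_of_forall fun u => ?_
      by_cases hu : u = α
      · exact Or.inl hu
      · exact Or.inr (hall u hu)
    rw [← Set.ncard_univ, ← he, hcardA, hl', mul_one]
  rw [Subgroup.index] at hv hdvd
  obtain ⟨c, hc⟩ := hdvd
  have hc4 : c ≤ 4 := by
    by_contra h
    have := Nat.mul_le_mul_left (2 ^ n + 1) (show 5 ≤ c by omega)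
    omega
  interval_cases c <;> omega

/-- The doubly transitive case. -/
theorem Setup.perm_two_transitive (hv : H.index < 5 * 2 ^ n) {x : G ⧸ H} (hx : x ≠ α)
    (hl : (MulAction.orbit W x).ncard = 3) : False := by
  have hq8 : 2 ^ 3 ≤ 2 ^ n := Nat.pow_le_pow_right (by norm_num) S.three_le
  have htrans : ∀ u : G ⧸ H, u ≠ α → u ∈ MulAction.orbit H x := fun u hu => S.perm_transitive hv hx hl hu
  obtain ⟨p, hp, hpe, hp3⟩ : ∃ p : ℕ, p.Prime ∧ p ∣ 2 ^ n - 1 ∧ p ≠ 3 := by
    by_contra hcon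
    push Not at hcon
    have he := Nat.eq_prime_pow_of_unique_prime_dvd (p := 3) (show 2 ^ n - 1 ≠ 0 by omega)
      (fun hd hde => hcon _ hd hde)
    have h8 : 2 ^ n % 8 = 0 := Nat.dvd_iff_mod_eq_zero.1 (Nat.pow_dvd_pow 2 S.three_le)
    have h38 : ∀ k, 3 ^ k % 8 = 1 ∨ 3 ^ k % 8 = 3 := by
      intro k
      induction k with
      | zero => simp
      | succ k ih => rw [pow_succ, Nat.mul_mod]; rcases ih with h | h <;> rw [h] <;> norm_num
    have := h38 (2 ^ n - 1).primeFactorsList.length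
    omega
  obtain ⟨a₀, b₀, c₀, hab, hac, hbc, hset⟩ := Set.ncard_eq_three.1 hl
  -- the stabiliser of two points
  set D := MulAction.stabilizer G α ⊓ MulAction.stabilizer G x with hD
  have hmemD : ∀ g, g ∈ D ↔ g ∈ H ∧ g • x = x := fun g => by
    rw [hD, Subgroup.mem_inf, MulAction.mem_stabilizer_iff, MulAction.mem_stabilizer_iff, perm_smul_base]
  have hDodd : ∀ g ∈ D, Odd (orderOf g) := by
    intro g hg
    refine Nat.not_even_iff_odd.1 fun heven => ?_
    have hev : Even (Nat.card D) :=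
      even_iff_two_dvd.2 ((even_iff_two_dvd.1 heven).trans (Subgroup.orderOf_dvd_natCard D hg))
    obtain ⟨i, hi, hi2⟩ := exists_invol_mem hev
    exact hx (se_fix_eq S.se hi2 ((hmemD i).1 hi).2 ((perm_smul_base _).2 ((hmemD i).1 hi).1))
  have hoddD : Odd (Nat.card D) := by
    refine Nat.not_even_iff_odd.1 fun hev => ?_
    obtain ⟨i, hi, hi2⟩ := exists_invol_mem hev
    have := hDodd i hi
    rw [hi2] at this
    exact Nat.not_odd_iff_even.2 (by norm_num) this
  -- it fixes the orbit of `x` under `W`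
  have hfixW : ∀ u ∈ MulAction.orbit W x, ∀ g, g ∈ H → g • u = u →
      ∀ u' ∈ MulAction.orbit W x, g • u' = u' := by
    intro u hu g hgH hgu u' hu'
    have hpres : ∀ s ∈ MulAction.orbit W x, g • s ∈ MulAction.orbit W x := by
      intro s hs
      rw [← MulAction.orbit_eq_iff.2 hu] at hs ⊢
      obtain ⟨b, rfl⟩ := hs
      exact ⟨⟨g * b * g⁻¹, S.W_norm g hgH _ b.2⟩, by
        show (g * b * g⁻¹) • u = g • (b : G) • u
        rw [← mul_smul, mul_smul _ g⁻¹, inv_smul_eq_iff.2 hgu.symm]⟩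
    have huα : u ≠ α := by
      obtain ⟨b, rfl⟩ := hu
      exact perm_orbit_ne hx ⟨⟨(b : G), S.W_le b.2⟩, rfl⟩
    have hsq : g • g • u' = u' := by
      by_cases h : u' = u
      · rw [h, hgu, hgu]
      have h1 : g • u' ≠ u := fun e => h (smul_left_cancel g (e.trans hgu.symm))
      have h2 : g • g • u' ≠ u := fun e => h1 (smul_left_cancel g (e.trans hgu.symm))
      by_cases h' : g • u' = u'
      · rw [h', h']
      have h3 : g • g • u' ≠ g • u' := fun e => h' (smul_left_cancel g e)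
      have m1 := hpres _ hu'
      have m2 := hpres _ m1
      have h2 : (MulAction.orbit W x \ {u}).ncard = 2 := by
        rw [Set.ncard_sdiff_singleton_of_mem hu, hl]
      obtain ⟨s₁, s₂, hs12, hs⟩ := Set.ncard_eq_two.1 h2
      have mem : ∀ s ∈ MulAction.orbit W x, s ≠ u → s = s₁ ∨ s = s₂ := by
        intro s hs' hsu
        have : s ∈ MulAction.orbit W x \ {u} := ⟨hs', hsu⟩
        rwa [hs] at this
      have e0 := mem u' hu' h
      have e1 := mem _ m1 h1
      have e2' := mem _ m2 (fun e => h1 (smul_left_cancel g (e.trans hgu.symm)))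
      generalize g • g • u' = t at e2' h3 ⊢
      generalize g • u' = t' at e1 h' h3 ⊢
      rcases e0 with rfl | rfl <;> rcases e1 with rfl | rfl <;> rcases e2' with rfl | rfl <;>
        first | rfl | exact absurd rfl h' | exact absurd rfl h3
    have hgodd : Odd (orderOf g) := by
      refine Nat.not_even_iff_odd.1 fun heven => huα ?_
      obtain ⟨i, hi, hi2⟩ := exists_invol_mem (H := Subgroup.zpowers g) (by rwa [Nat.card_zpowers])
      have hiu : i • u = u :=
        (Subgroup.zpowers_le (H := MulAction.stabilizer G u)).2 hgu hi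
      exact se_fix_eq S.se hi2 hiu ((perm_smul_base _).2 ((Subgroup.zpowers_le.2 hgH) hi))
    exact perm_mem_of_sq (K := MulAction.stabilizer G u') hgodd
      (by rw [MulAction.mem_stabilizer_iff, mul_smul]; exact hsq)
  have hxx : x ∈ MulAction.orbit W x := MulAction.mem_orbit_self x
  have hDfix : ∀ g ∈ D, ∀ u ∈ MulAction.orbit W x, g • u = u := fun g hg u hu =>
    hfixW x hxx g ((hmemD g).1 hg).1 ((hmemD g).1 hg).2 u hu
  have hDmem : ∀ g ∈ H, ∀ u ∈ MulAction.orbit W x, g • u = u → g ∈ D := fun g hg u hu hgu =>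
    (hmemD g).2 ⟨hg, hfixW u hu g hg hgu x hxx⟩
  -- exponents modulo `W R`
  let P : G → Prop := fun g => ∃ a ∈ W, ∃ r ∈ (R : Subgroup G), ∃ i : ℕ, p ∣ i ∧ g = a * r * w ^ i
  have hcongr : ∀ {a a' r r' : G} {i j : ℕ}, a ∈ W → a' ∈ W → r ∈ (R : Subgroup G) → r' ∈ (R : Subgroup G) →
      a * r * w ^ i = a' * r' * w ^ j → j ≤ i → 2 ^ n - 1 ∣ i - j := by
    intro a a' r r' i j ha ha' hr hr' he hji
    obtain ⟨t, ht, ht1⟩ := S.perm_exists_invol
    have key : ∀ {a r : G} {i : ℕ}, a ∈ W → r ∈ (R : Subgroup G) → ∃ b ∈ W,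
        a * r * w ^ i * t * (a * r * w ^ i)⁻¹ = b * (w ^ i * t * (w ^ i)⁻¹) := by
      intro a r i ha hr
      have h1 := S.perm_wpow_mem i ht
      refine ⟨a * ((w ^ i * t * (w ^ i)⁻¹) * a⁻¹ * (w ^ i * t * (w ^ i)⁻¹)⁻¹),
        mul_mem ha (S.W_norm _ (S.R_le h1) _ (inv_mem ha)), ?_⟩
      calc _ = a * (r * (w ^ i * t * (w ^ i)⁻¹) * r⁻¹) * a⁻¹ := by group
        _ = a * (w ^ i * t * (w ^ i)⁻¹) * a⁻¹ := by rw [S.perm_rcomm hr h1, mul_inv_cancel_right]
        _ = _ := by group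
    obtain ⟨b, hb, e1⟩ := key (i := i) ha hr
    obtain ⟨b', hb', e2⟩ := key (i := j) ha' hr'
    rw [he, e2] at e1
    have h1 : (w ^ j * t * (w ^ j)⁻¹) * (w ^ i * t * (w ^ i)⁻¹)⁻¹ = 1 := by
      refine S.perm_inf (mul_mem (S.perm_wpow_mem j ht) (inv_mem (S.perm_wpow_mem i ht))) ?_
      rw [show (w ^ j * t * (w ^ j)⁻¹) = b'⁻¹ * (b * (w ^ i * t * (w ^ i)⁻¹)) by rw [← e1, inv_mul_cancel_left],
        mul_assoc, mul_assoc, mul_inv_cancel, mul_one]
      exact mul_mem (inv_mem hb') hb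
    refine S.w_free _ t ht ht1 ?_
    have h2 := mul_inv_eq_one.1 h1
    rw [show i = j + (i - j) by omega, pow_add] at h2
    show w ^ (i - j) * t = t * w ^ (i - j)
    have h3 : w ^ (i - j) * t * (w ^ (i - j))⁻¹ = t := by
      have := congrArg (fun g => (w ^ j)⁻¹ * g * w ^ j) h2
      simpa [mul_assoc] using this.symm
    exact mul_inv_eq_iff_eq_mul.1 h3
  have hPH : ∀ g, P g → g ∈ H := by
    rintro g ⟨a, ha, r, hr, i, -, rfl⟩
    exact mul_mem (mul_mem (S.W_le ha) (S.R_le hr)) (pow_mem S.w_mem _)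
  have hPmul : ∀ g g', P g → P g' → P (g * g') := by
    rintro g g' ⟨a, ha, r, hr, i, hpi, rfl⟩ ⟨a', ha', r', hr', j, hpj, rfl⟩
    refine ⟨a * (r * (w ^ i * a' * (w ^ i)⁻¹) * r⁻¹),
      mul_mem ha (S.W_norm r (S.R_le hr) _ (S.W_norm _ (pow_mem S.w_mem i) _ ha')),
      r * (w ^ i * r' * (w ^ i)⁻¹), mul_mem hr (S.perm_wpow_mem i hr'), i + j, dvd_add hpi hpj, ?_⟩
    rw [pow_add]; group
  have hPone : P 1 := ⟨1, one_mem _, 1, one_mem _, 0, dvd_zero _, by simp⟩
  have hPinv : ∀ g, P g → P g⁻¹ := by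
    intro g hg
    have hpow : ∀ k : ℕ, P (g ^ k) := by
      intro k
      induction k with
      | zero => simpa using hPone
      | succ k ih => rw [pow_succ]; exact hPmul _ _ ih hg
    have he : g ^ (orderOf g - 1) = g⁻¹ := eq_inv_of_mul_eq_one_left (by
      rw [← pow_succ, Nat.sub_add_cancel (orderOf_pos g), pow_orderOf_eq_one])
    rw [← he]
    exact hpow _
  have hPgen : ∀ g ∈ H, ¬ p ∣ orderOf g → P g := by
    intro g hg hpg
    obtain ⟨a, ha, r, hr, i, rfl⟩ := S.mem_M g hg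
    have hpow : ∀ k : ℕ, ∃ a' ∈ W, ∃ r' ∈ (R : Subgroup G), (a * r * w ^ i) ^ k = a' * r' * w ^ (i * k) := by
      intro k
      induction k with
      | zero => exact ⟨1, one_mem _, 1, one_mem _, by simp⟩
      | succ k ih =>
        obtain ⟨a', ha', r', hr', he⟩ := ih
        refine ⟨a' * (r' * (w ^ (i * k) * a * (w ^ (i * k))⁻¹) * r'⁻¹),
          mul_mem ha' (S.W_norm r' (S.R_le hr') _ (S.W_norm _ (pow_mem S.w_mem _) _ ha)),
          r' * (w ^ (i * k) * r * (w ^ (i * k))⁻¹), mul_mem hr' (S.perm_wpow_mem _ hr), ?_⟩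
        rw [pow_succ, he, Nat.mul_succ, pow_add]; group
    obtain ⟨a', ha', r', hr', he⟩ := hpow (orderOf (a * r * w ^ i))
    rw [pow_orderOf_eq_one] at he
    have h1 := hcongr (i := i * orderOf (a * r * w ^ i)) (j := 0) ha' (one_mem W) hr' (one_mem _)
      (by rw [← he]; simp) (Nat.zero_le _)
    rw [Nat.sub_zero] at h1
    refine ⟨a, ha, r, hr, i, (hp.dvd_mul.1 (hpe.trans h1)).resolve_right hpg, rfl⟩
  set K := Subgroup.closure {g : G | g ∈ D ∧ ¬ p ∣ orderOf g} with hKdef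
  have hKD : K ≤ D := (Subgroup.closure_le _).2 fun g hg => hg.1
  have hKP : ∀ g ∈ K, P g := fun g hg => by
    induction hg using Subgroup.closure_induction with
    | mem g hg => exact hPgen g ((hmemD g).1 hg.1).1 hg.2
    | one => exact hPone
    | mul a b _ _ iha ihb => exact hPmul _ _ iha ihb
    | inv a _ iha => exact hPinv _ iha
  -- an element of `D` outside `K`
  obtain ⟨a₁, ha₁, r₁, hr₁, dw, hdwH, hdwx, hdw⟩ := S.perm_cover hx S.w_mem
  have hdwD : dw ∈ D := (hmemD dw).2 ⟨hdwH, hdwx⟩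
  have hdwK : dw ∉ K := by
    intro hk
    obtain ⟨a, ha, r, hr, i, hpi, he⟩ := hKP _ hk
    have h1 : a₁ * r₁ * dw = a₁ * (r₁ * a * r₁⁻¹) * (r₁ * r) * w ^ i := by rw [he]; group
    rw [← hdw] at h1
    have hA := mul_mem ha₁ (S.W_norm r₁ (S.R_le hr₁) a ha)
    have hw1 : w = (1 : G) * 1 * w ^ 1 := by simp
    rcases Nat.eq_zero_or_pos i with rfl | hi
    · have := hcongr (i := 1) (j := 0) (one_mem W) hA (one_mem _) (mul_mem hr₁ hr)
        (hw1.symm.trans h1) (Nat.zero_le _)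
      have := Nat.le_of_dvd (by norm_num) this
      omega
    · have h2 := hcongr (i := i) (j := 1) hA (one_mem W) (mul_mem hr₁ hr) (one_mem _)
        (h1.symm.trans hw1) hi
      have h3 : p ∣ i - 1 := hpe.trans h2
      have h4 : p ∣ 1 := by
        have := Nat.dvd_sub hpi h3
        rwa [Nat.sub_sub_self hi] at this
      exact hp.ne_one (Nat.dvd_one.1 h4)
  have hKconj : ∀ g : G, (∀ d ∈ D, g * d * g⁻¹ ∈ D) → ∀ k ∈ K, g * k * g⁻¹ ∈ K := by
    intro g hg k hk
    induction hk using Subgroup.closure_induction with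
    | mem k hk => exact Subgroup.subset_closure ⟨hg k hk.1, by rw [orderOf_conj_eq]; exact hk.2⟩
    | one => simp
    | mul a b _ _ iha ihb =>
      rw [show g * (a * b) * g⁻¹ = (g * a * g⁻¹) * (g * b * g⁻¹) by group]; exact mul_mem iha ihb
    | inv a _ iha => rw [show g * a⁻¹ * g⁻¹ = (g * a * g⁻¹)⁻¹ by group]; exact inv_mem iha
  have hKnorm : ∀ g ∈ D, ∀ k ∈ K, g * k * g⁻¹ ∈ K := fun g hg =>
    hKconj g fun d hd => mul_mem (mul_mem hg hd) (inv_mem hg)
  -- the involutions interchanging `α` with a point of the orbit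
  have hswap : ∀ u ∈ MulAction.orbit W x, ∀ u' ∈ MulAction.orbit W x, ∀ u'' ∈ MulAction.orbit W x,
      u ≠ u' → u ≠ u'' → u' ≠ u'' → ∀ z : G, orderOf z = 2 → z • α = u →
      z • u' = u'' ∧ (∀ d ∈ D, z * d * z⁻¹ ∈ D) ∧ (∀ d ∈ D, z * d * z⁻¹ * d ∈ K) := by
    intro u hu u' hu' u'' hu'' h1 h2 h3 z hz hzα
    have hzu : z • u = α := invol_smul_swap hz hzα
    have huα : ∀ s ∈ MulAction.orbit W x, s ≠ α := by
      rintro _ ⟨b, rfl⟩
      exact perm_orbit_ne hx ⟨⟨(b : G), S.W_le b.2⟩, rfl⟩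
    have hzD : ∀ d ∈ D, z * d * z⁻¹ ∈ D := by
      intro d hd
      have hd' := (hmemD d).1 hd
      refine hDmem _ ((perm_smul_base _).1 ?_) u hu ?_
      · rw [invol_inv hz, mul_smul, mul_smul, hzα, hDfix d hd u hu, hzu]
      · rw [invol_inv hz, mul_smul, mul_smul, hzu, (perm_smul_base _).2 hd'.1, hzα]
    -- the fixed points of `D`
    have hfour : ∀ s, (∀ d ∈ D, d • s = s) → s = α ∨ s ∈ MulAction.orbit W x := by
      intro s hs
      by_contra hc
      push Not at hc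
      refine hdwK (Subgroup.subset_closure ⟨hdwD, ?_⟩)
      have hW := S.perm_mem_W hx (htrans s hc.1) hdwH hdwx (hs dw hdwD) hc.2
      intro hdiv
      have h5 : p ∣ 3 := hdiv.trans (orderOf_dvd_of_pow_eq_one (S.perm_pow_three hv hW))
      exact hp3 ((Nat.prime_dvd_prime_iff_eq hp Nat.prime_three).1 h5)
    have hmaps : ∀ s ∈ MulAction.orbit W x, z • s = α ∨ z • s ∈ MulAction.orbit W x := by
      intro s hs
      refine hfour _ fun d hd => ?_
      have := hDfix _ (hzD d hd) s hs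
      rw [invol_inv hz, mul_smul, mul_smul] at this
      calc d • z • s = z • z • d • z • s := by rw [← mul_smul z z, invol_mul_self hz, one_smul]
        _ = z • s := by rw [this]
    have hcases : ∀ s ∈ MulAction.orbit W x, s = u ∨ s = u' ∨ s = u'' := by
      intro s hs
      have he : ({u, u', u''} : Set (G ⧸ H)) = MulAction.orbit W x := by
        refine Set.eq_of_subset_of_ncard_le ?_ ?_
        · rintro t (rfl | rfl | rfl)
          exacts [hu, hu', hu'']
        · rw [hl, Set.ncard_eq_three.2 ⟨u, u', u'', h1, h2, h3, rfl⟩]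
      rw [← he] at hs
      exact hs
    have himg : ∀ s ∈ MulAction.orbit W x, s ≠ u → z • s = u' ∨ z • s = u'' := by
      intro s hs hsu
      rcases hmaps s hs with h | h
      · exact absurd (smul_left_cancel z (h.trans hzu.symm)) hsu
      · refine (hcases _ h).resolve_left fun e => ?_
        exact huα s hs (smul_left_cancel z (e.trans hzα.symm))
    have hzu' : z • u' = u'' := by
      rcases himg u' hu' (Ne.symm h1) with h | h
      · rcases himg u'' hu'' (Ne.symm h2) with h' | h'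
        · exact invol_smul_swap hz h'
        · exact absurd (se_fix_eq S.se hz h h') h3
      · exact h
    refine ⟨hzu', hzD, fun d hd => ?_⟩
    obtain ⟨c, hc, i, hi, rfl⟩ := CfsgLib.Chev.InvBy.exists_decomp (invol_mul_self hz) hoddD hzD hd
    have hcD := (Subgroup.mem_inf.1 hc).1
    have hcz : Commute c z := Subgroup.mem_centralizer_singleton_iff.1 (Subgroup.mem_inf.1 hc).2
    obtain ⟨δ, hδ, -⟩ := se_existsUnique_fix S.se hz
    have hδW : δ ∉ MulAction.orbit W x := by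
      intro h
      rcases hcases δ h with e | e | e <;> subst e
      · exact huα _ h (hδ.symm.trans hzu)
      · exact h3 (hδ.symm.trans hzu')
      · exact h3 ((invol_smul_swap hz hzu').symm.trans hδ)
    have hδα : δ ≠ α := fun e => huα u hu (by rw [← hzα, ← e]; exact hδ)
    have hcK : c ∈ K := by
      refine Subgroup.subset_closure ⟨hcD, fun hdiv => ?_⟩
      have hW := S.perm_mem_W hx (htrans δ hδα) ((hmemD c).1 hcD).1 ((hmemD c).1 hcD).2
        (se_fix_of_commute S.se hz hcz hδ) hδW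
      exact hp3 ((Nat.prime_dvd_prime_iff_eq hp Nat.prime_three).1
        (hdiv.trans (orderOf_dvd_of_pow_eq_one (S.perm_pow_three hv hW))))
    have e : z * (c * i) * z⁻¹ * (c * i) = c * (i⁻¹ * c * i⁻¹⁻¹) := by
      have hzc : z * c * z⁻¹ = c := by rw [← hcz.eq, mul_inv_cancel_right]
      calc z * (c * i) * z⁻¹ * (c * i) = (z * c * z⁻¹) * (z * i * z⁻¹) * (c * i) := by group
        _ = c * i⁻¹ * (c * i) := by rw [hzc, hi.2]
        _ = _ := by group
    rw [e]
    exact mul_mem hcK (hKnorm _ (inv_mem hi.1) c hcK)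
  have hu : a₀ ∈ MulAction.orbit W x ∧ b₀ ∈ MulAction.orbit W x ∧ c₀ ∈ MulAction.orbit W x := by
    rw [hset]; simp
  have hα₀ : ∀ u ∈ MulAction.orbit W x, α ≠ u := by
    rintro _ ⟨b, rfl⟩ e
    exact perm_orbit_ne hx ⟨⟨(b : G), S.W_le b.2⟩, rfl⟩ e.symm
  obtain ⟨z₁, hz₁, hz₁α⟩ := se_swap_exists S.se (hα₀ a₀ hu.1)
  obtain ⟨z₂, hz₂, hz₂α⟩ := se_swap_exists S.se (hα₀ b₀ hu.2.1)
  obtain ⟨z₃, hz₃, hz₃α⟩ := se_swap_exists S.se (hα₀ c₀ hu.2.2)
  obtain ⟨s₁, n₁, i₁⟩ := hswap a₀ hu.1 b₀ hu.2.1 c₀ hu.2.2 hab hac hbc z₁ hz₁ hz₁α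
  obtain ⟨s₂, n₂, i₂⟩ := hswap b₀ hu.2.1 a₀ hu.1 c₀ hu.2.2 (Ne.symm hab) hbc hac z₂ hz₂ hz₂α
  obtain ⟨s₃, n₃, i₃⟩ := hswap c₀ hu.2.2 a₀ hu.1 b₀ hu.2.1 (Ne.symm hac) (Ne.symm hbc) hab z₃ hz₃ hz₃α
  set d₀ := z₁ * z₂ * z₃ with hd₀
  have hd₀D : d₀ ∈ D := by
    refine hDmem _ ((perm_smul_base _).1 ?_) a₀ hu.1 ?_
    · rw [hd₀, mul_smul, mul_smul, hz₃α, invol_smul_swap hz₂ s₂, invol_smul_swap hz₁ hz₁α]
    · rw [hd₀, mul_smul, mul_smul, s₃, invol_smul_swap hz₂ hz₂α, hz₁α]
  have hinv : ∀ d ∈ D, d₀ * d * d₀⁻¹ * d ∈ K := by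
    intro d hd
    set u₃ := z₃ * d * z₃⁻¹ with hu₃
    set u₂ := z₂ * u₃ * z₂⁻¹ with hu₂
    have hu₃D : u₃ ∈ D := n₃ d hd
    have hu₂D : u₂ ∈ D := n₂ _ hu₃D
    have e : d₀ * d * d₀⁻¹ = z₁ * u₂ * z₁⁻¹ := by rw [hd₀, hu₂, hu₃]; group
    rw [e]
    have k1 := i₁ u₂ hu₂D
    have k2 : u₃ * u₂ ∈ K := by
      have := hKnorm _ hu₃D _ (i₂ u₃ hu₃D)
      rwa [← hu₂, show u₃ * (u₂ * u₃) * u₃⁻¹ = u₃ * u₂ by group] at this
    have k3 := i₃ d hd
    rw [← hu₃] at k3
    have : z₁ * u₂ * z₁⁻¹ * d = (z₁ * u₂ * z₁⁻¹ * u₂) * (u₃ * u₂)⁻¹ * (u₃ * d) := by group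
    rw [this]
    exact mul_mem (mul_mem k1 (inv_mem k2)) k3
  have hd₀K : d₀ ∈ K := by
    refine perm_mem_of_sq (hDodd _ hd₀D) ?_
    simpa using hinv d₀ hd₀D
  refine hdwK (perm_mem_of_sq (hDodd _ hdwD) ?_)
  have h := hinv dw hdwD
  have e : dw * dw = (dw * d₀⁻¹ * dw⁻¹)⁻¹ * (d₀⁻¹ * (d₀ * dw * d₀⁻¹ * dw)) := by group
  rw [e]
  exact mul_mem (inv_mem (hKnorm dw hdwD _ (inv_mem hd₀K))) (mul_mem (inv_mem hd₀K) h)

/-- Small index forces `W = 1`. -/
theorem W_eq_bot (h : W ≠ ⊥ → H.index < 5 * 2 ^ n) : W = ⊥ := by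
  by_contra hW
  have hv := h hW
  obtain ⟨⟨a, ha⟩, ha1⟩ := Subgroup.ne_bot_iff_exists_ne_one.1 hW
  obtain ⟨x, hax⟩ : ∃ x : G ⧸ H, a • x ≠ x := by
    by_contra hc
    push Not at hc
    exact ha1 (Subtype.ext (S.perm_faithful hc))
  have hx : x ≠ α := fun e => hax (e ▸ (perm_smul_base _).2 (S.W_le ha))
  rcases S.perm_card_W_orbit hv hx with h1 | h3
  · obtain ⟨z, hz⟩ := Set.ncard_eq_one.1 h1
    have m1 : a • x ∈ MulAction.orbit W x := ⟨⟨a, ha⟩, rfl⟩
    have m2 := MulAction.mem_orbit_self (M := W) x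
    rw [hz] at m1 m2
    exact hax (m1.trans m2.symm)
  · exact S.perm_two_transitive hv hx h3

end

end CfsgLib.BlockA.PrimeInertial
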