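import Cfsg.Agent.Lib.BlockA.PrimeInertial.Basic
import Cfsg.Agent.Lib.BlockA.FewPrincipal
import Cfsg.Agent.Lib.BlockB.PrincipalLambda
import Cfsg.Agent.Lib.BlockB.RegRank
import Cfsg.Agent.Lib.Perm.AbelianZStar
import Cfsg.Agent.Lib.Solvable.PCore
import Cfsg.Agent.Lib.Char.Linear
import Cfsg.Agent.S0001
import Cfsg.Agent.S4487
import Cfsg.Agent.S4571

/-!
Block reductions for principal two-blocks with abelian Sylow subgroups: odd normal subgroups, a
normal Sylow subgroup, elements fixed by the normaliser, the count over classes.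
-/

set_option autoImplicit false
set_option linter.unusedSectionVars false

namespace CfsgLib.BlockA.PrimeInertial

open Cfsg CfsgLib.Block CfsgLib.BlockA CfsgLib.BlockB Subgroup
open scoped ComplexConjugate Pointwise

universe u

variable {G : Type u} [Group G] [Finite G] {M : Ideal AlgInt}

/-- The principal block does not see an odd normal subgroup. -/
theorem principal_quot_core (hM : IsPModular 2 M) (K : Subgroup G) [K.Normal] (hK : Odd (Nat.card K)) :
    blockRank 2 (principalBlock M (G ⧸ K)) = blockRank 2 (principalBlock M G) ∧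
      Nat.card (principalBlock M (G ⧸ K)) = Nat.card (principalBlock M G) := by
  classical
  have := hM.2.1.isPrime
  have := Fintype.ofFinite G
  have := Fintype.ofFinite (G ⧸ K)
  have := Fintype.ofFinite K
  have : Fact (Nat.Prime 2) := ⟨Nat.prime_two⟩
  have hKp : ¬ 2 ∣ Nat.card K := hK.not_two_dvd_nat
  have hker : ∀ χ : IrrCharacter G, χ ∈ principalBlock M G →
      ∀ n ∈ K, (χ : G → ℂ) n = (χ : G → ℂ) 1 :=
    fun χ hχ n hn => le_kerIrr_of_mem_principalBlock hM hKp hχ hn
  let f : principalBlock M (G ⧸ K) → principalBlock M G := fun ψ =>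
    ⟨(quotIrrEquiv K ψ.1).1, (quotIrrEquiv_mem_iff hM K hKp ψ.1).2 ψ.2⟩
  have hf : Function.Bijective f := by
    refine ⟨fun a b h => Subtype.ext ((quotIrrEquiv K).injective (Subtype.ext ?_)), fun χ => ?_⟩
    · exact congrArg (fun z : principalBlock M G => (z : IrrCharacter G)) h
    · obtain ⟨ψ, hψ⟩ := (quotIrrEquiv K).surjective ⟨χ.1, hker χ.1 χ.2⟩
      have e : ((quotIrrEquiv K ψ).1 : IrrCharacter G) = χ.1 := congrArg Subtype.val hψ
      exact ⟨⟨ψ, (quotIrrEquiv_mem_iff hM K hKp ψ).1 (e ▸ χ.2)⟩, Subtype.ext e⟩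
  refine ⟨?_, Nat.card_congr (Equiv.ofBijective f hf)⟩
  let L : (G ⧸ K → ℂ) →ₗ[ℂ] (G → ℂ) :=
    LinearMap.funLeft ℂ ℂ (QuotientGroup.mk : G → G ⧸ K)
  have hLinj : Function.Injective L :=
    LinearMap.funLeft_injective_of_surjective _ _ _ QuotientGroup.mk_surjective
  have hreg : ∀ g : G, 2 ∣ orderOf g ↔ 2 ∣ orderOf (g : G ⧸ K) := by
    intro g
    refine ⟨fun h => ?_, fun h => h.trans (orderOf_map_dvd (QuotientGroup.mk' K) g)⟩
    have h2 : orderOf g ∣ orderOf (g : G ⧸ K) * Nat.card K := by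
      rw [orderOf_dvd_iff_pow_eq_one, pow_mul]
      have hmem : g ^ orderOf (g : G ⧸ K) ∈ K := by
        rw [← QuotientGroup.eq_one_iff, QuotientGroup.mk_pow, pow_orderOf_eq_one]
      exact congrArg Subtype.val (pow_card_eq_one' (x := (⟨_, hmem⟩ : K)))
    exact ((Nat.prime_two.dvd_mul).1 (h.trans h2)).resolve_right hKp
  have hLpart : ∀ ψ : IrrCharacter (G ⧸ K), L (pRegularPart 2 (ψ : G ⧸ K → ℂ)) =
      pRegularPart 2 ((quotIrrEquiv K ψ).1 : G → ℂ) := by
    intro ψ
    funext g
    simp only [L, LinearMap.funLeft_apply, pRegularPart, quotIrrEquiv_apply]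
    by_cases h : 2 ∣ orderOf g
    · rw [if_neg (show ¬ IsPRegular 2 g from not_not_intro h),
        if_neg (show ¬ IsPRegular 2 (g : G ⧸ K) from not_not_intro ((hreg g).1 h))]
    · rw [if_pos (show IsPRegular 2 g from h),
        if_pos (show IsPRegular 2 (g : G ⧸ K) from mt (hreg g).2 h)]
  have himg : L '' ((fun ψ : IrrCharacter (G ⧸ K) => pRegularPart 2 (ψ : G ⧸ K → ℂ)) ''
      principalBlock M (G ⧸ K)) =
      (fun χ : IrrCharacter G => pRegularPart 2 (χ : G → ℂ)) '' principalBlock M G := by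
    rw [Set.image_image]
    ext v
    constructor
    · rintro ⟨ψ, hψ, rfl⟩
      exact ⟨_, (f ⟨ψ, hψ⟩).2, (hLpart ψ).symm⟩
    · rintro ⟨χ, hχ, rfl⟩
      obtain ⟨ψ, hψ⟩ := hf.2 ⟨χ, hχ⟩
      refine ⟨ψ.1, ψ.2, (hLpart ψ.1).trans ?_⟩
      rw [show ((quotIrrEquiv K ψ.1).1 : IrrCharacter G) = χ from congrArg Subtype.val hψ]
  unfold blockRank
  rw [← himg, ← Submodule.map_span]
  exact (Submodule.equivMapOfInjective L hLinj _).finrank_eq

/-- With a normal abelian self-centralising Sylow subgroup and cyclic quotient. -/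
theorem blockRank_of_normal_sylow (hM : IsPModular 2 M) (hcore : NoOddNormal G) (P : Sylow 2 G)
    (hn : (P : Subgroup G).Normal) (hab : IsMulCommutative (P : Subgroup G))
    (hcyc : IsCyclic (G ⧸ (P : Subgroup G))) :
    blockRank 2 (principalBlock M G) = (P : Subgroup G).index := by
  classical
  have := hM.2.1.isPrime
  have := Fintype.ofFinite G
  have : Fact (Nat.Prime 2) := ⟨Nat.prime_two⟩
  have := Fintype.ofFinite (G ⧸ (P : Subgroup G))
  set Q := (P : Subgroup G)
  have hQcomm : ∀ x y : G ⧸ Q, x * y = y * x := fun x y => by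
    have : IsMulCommutative (G ⧸ Q) := IsCyclic.isMulCommutative
    exact IsMulCommutative.is_comm.comm x y
  have hidx : ¬ 2 ∣ Q.index := P.not_dvd_index
  have hcopQ : (Nat.card Q).Coprime Q.index := P.card_coprime_index
  have hreg : ∀ x : G ⧸ Q, ¬ 2 ∣ orderOf x := fun x h =>
    hidx (by rw [Subgroup.index_eq_card]; exact h.trans (orderOf_dvd_natCard x))
  choose r hr hrmk using fun x : G ⧸ Q => Cfsg.Agent.S4571.exists_reg_lift x (hreg x)
  -- regular elements of one coset are conjugate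
  have hconj : ∀ g g' : G, ¬ 2 ∣ orderOf g → ¬ 2 ∣ orderOf g' → (g : G ⧸ Q) = g' →
      ∃ u : G, u * g * u⁻¹ = g' := by
    intro g g' hg hg' he
    set Y : Subgroup G := Q ⊔ zpowers g with hY
    have hgY : g ∈ Y := mem_sup_right (mem_zpowers g)
    have hg'Y : g' ∈ Y := by
      have h1 : g⁻¹ * g' ∈ Q := QuotientGroup.eq.1 he
      have := mul_mem hgY (mem_sup_left (T := zpowers g) h1)
      rwa [mul_inv_cancel_left] at this
    obtain ⟨j, hj⟩ := P.2.exists_card_eq
    have hQY : Nat.card (Q.subgroupOf Y) = Nat.card Q :=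
      Nat.card_congr (subgroupOfEquivOfLe (le_sup_left : Q ≤ Y)).toEquiv
    have hc : ∀ a : G, a ∈ Y → ¬ 2 ∣ orderOf a → (a : G ⧸ Q) = g →
        (Q.subgroupOf Y).IsComplement' ((zpowers a).subgroupOf Y) := by
      intro a ha hao hag
      refine isComplement'_of_disjoint_and_mul_eq_univ ?_ ?_
      · refine Subgroup.disjoint_def.2 fun {x} hx hx' => Subtype.ext (orderOf_eq_one_iff.1 ?_)
        rw [mem_subgroupOf] at hx hx'
        refine Nat.eq_one_of_dvd_coprimes ?_ (Subgroup.orderOf_dvd_natCard Q hx)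
          ((Subgroup.orderOf_dvd_natCard _ hx').trans (Nat.card_zpowers a).dvd)
        rw [hj]
        exact ((Nat.prime_two.coprime_iff_not_dvd.2 hao)).pow_left j
      · rw [← Subgroup.normal_mul, Subgroup.coe_eq_univ, eq_top_iff]
        rintro ⟨y, hy⟩ -
        obtain ⟨q, hq, z, ⟨i, rfl⟩, rfl⟩ := Subgroup.mem_sup_of_normal_left.1 hy
        have h2 : g ^ i * (a ^ i)⁻¹ ∈ Q := by
          rw [← QuotientGroup.eq_one_iff, QuotientGroup.mk_mul, QuotientGroup.mk_inv,
            QuotientGroup.mk_zpow, QuotientGroup.mk_zpow, hag, mul_inv_cancel]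
        have hqY : q * (g ^ i * (a ^ i)⁻¹) ∈ Y :=
          mem_sup_left (mul_mem hq h2)
        have : (⟨q * g ^ i, hy⟩ : Y) =
            ⟨q * (g ^ i * (a ^ i)⁻¹), hqY⟩ * ⟨a ^ i, zpow_mem ha i⟩ :=
          Subtype.ext (by simp [mul_assoc])
        rw [this]
        exact mul_mem (mem_sup_left (mem_subgroupOf.2 (mul_mem hq h2)))
          (mem_sup_right (mem_subgroupOf.2 ⟨i, rfl⟩))
    have hcop : (Nat.card (Q.subgroupOf Y)).Coprime (Q.subgroupOf Y).index := by
      rw [hQY]
      exact hcopQ.coprime_dvd_right (Subgroup.relIndex_dvd_index_of_normal Q Y)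
    have hsolv : Group.IsSolvable (Q.subgroupOf Y) := by
      have : Group.IsNilpotent (Q.subgroupOf Y) :=
        (P.2.comap_of_injective Y.subtype Y.subtype_injective).isNilpotent
      infer_instance
    obtain ⟨u, hu⟩ := Cfsg.Agent.S0001.result (Q.subgroupOf Y) hcop (Or.inl hsolv) _ _
      (hc g hgY hg rfl) (hc g' hg'Y hg' he.symm)
    have hmem : (⟨g', hg'Y⟩ : Y) ∈ MulAut.conj u • (zpowers g).subgroupOf Y := by
      rw [hu, mem_subgroupOf]
      exact mem_zpowers g'
    obtain ⟨b, hb, hbe⟩ := (Subgroup.mem_smul_pointwise_iff_exists _ _ _).1 hmem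
    obtain ⟨i, hi⟩ := mem_subgroupOf.1 hb
    have hbe' : (u : G) * g ^ i * (u : G)⁻¹ = g' := by
      have := congrArg Subtype.val hbe
      simp only [MulAut.smul_def, MulAut.conj_apply, Subgroup.coe_mul, Subgroup.coe_inv] at this
      rw [show g ^ i = (b : G) from hi]
      exact this
    have hpow : g ^ i = g := by
      have h1 : ((g ^ i : G) : G ⧸ Q) = g := by
        have := congrArg (fun t : G => (t : G ⧸ Q)) hbe'
        simp only [QuotientGroup.mk_mul, QuotientGroup.mk_inv] at this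
        rw [hQcomm ((u : G) : G ⧸ Q), mul_inv_cancel_right] at this
        rw [this, ← he]
      refine mul_inv_eq_one.1 (orderOf_eq_one_iff.1 (Nat.eq_one_of_dvd_coprimes ?_
        (orderOf_dvd_of_mem_zpowers (mul_mem (zpow_mem (mem_zpowers g) i) (inv_mem (mem_zpowers g))))
        (Subgroup.orderOf_dvd_natCard Q ?_)))
      · rw [hj]
        exact (Nat.prime_two.coprime_iff_not_dvd.2 hg).symm.pow_right j
      · rw [← QuotientGroup.eq_one_iff, QuotientGroup.mk_mul, QuotientGroup.mk_inv, h1,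
          mul_inv_cancel]
    exact ⟨u, hpow ▸ hbe'⟩
  -- a single block
  have hO : pPrimeCore 2 G = ⊥ := hcore _ (CfsgLib.Solvable.pPrimeCore_normal 2 G)
    (Nat.coprime_two_right.1 (CfsgLib.Solvable.pPrimeCore_coprime 2))
  have hpc : pCore 2 G = Q :=
    le_antisymm (CfsgLib.Solvable.pCore_le_sylow P) (CfsgLib.Solvable.le_pCore hn P.2)
  have hcons : centralizer (pCore 2 G : Set G) ≤ pCore 2 G := by
    rw [hpc]
    set C := centralizer (Q : Set G)
    have hCn : C.Normal := inferInstance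
    have hQC : Q ≤ C := fun x hx => mem_centralizer_iff.2 fun y hy =>
      congrArg Subtype.val (hab.is_comm.comm (⟨y, hy⟩ : Q) ⟨x, hx⟩)
    have hQn : (Q.subgroupOf C).Normal := inferInstance
    obtain ⟨K, hK⟩ := Subgroup.exists_right_complement'_of_coprime (N := Q.subgroupOf C)
      (by
        rw [Nat.card_congr (subgroupOfEquivOfLe hQC).toEquiv]
        exact hcopQ.coprime_dvd_right (Subgroup.relIndex_dvd_index_of_normal Q C))
    have hKodd : ¬ 2 ∣ Nat.card K := by
      rw [← hK.symm.index_eq_card]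
      exact fun h => hidx (h.trans (Subgroup.relIndex_dvd_index_of_normal Q C))
    -- the odd elements of C form a normal subgroup of G
    have hKset : ∀ x : C, ¬ 2 ∣ orderOf x ↔ x ∈ K := by
      intro x
      refine ⟨fun h => ?_, fun h hd => hKodd (hd.trans (Subgroup.orderOf_dvd_natCard K h))⟩
      obtain ⟨⟨a, b⟩, hab'⟩ := hK.2 x
      have hab2 : (a : C) * (b : C) = x := hab'
      have hcomm : Commute (a : C) (b : C) :=
        Subtype.ext (mem_centralizer_iff.1 (b : C).2 _ (mem_subgroupOf.1 a.2))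
      have h1 : (a : C) ^ (orderOf x * Nat.card K) = 1 := by
        have h0 : ((a : C) * (b : C)) ^ (orderOf x * Nat.card K) = 1 := by
          rw [hab2, pow_mul, pow_orderOf_eq_one, one_pow]
        rw [hcomm.mul_pow, mul_comm (orderOf x) (Nat.card K), pow_mul (b : C),
          show (b : C) ^ Nat.card K = 1 from congrArg Subtype.val (pow_card_eq_one' (x := b)),
          one_pow, mul_one, mul_comm] at h0
        exact h0
      have ha1 : (a : C) = 1 := by
        refine orderOf_eq_one_iff.1 (Nat.eq_one_of_dvd_coprimes ?_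
          (Subgroup.orderOf_dvd_natCard _ a.2) (orderOf_dvd_of_pow_eq_one h1))
        obtain ⟨j, hj⟩ := P.2.exists_card_eq
        rw [Nat.card_congr (subgroupOfEquivOfLe hQC).toEquiv, hj]
        exact ((Nat.prime_two.coprime_iff_not_dvd.2 h).mul_right
          (Nat.prime_two.coprime_iff_not_dvd.2 hKodd)).pow_left j
      rw [← hab2, ha1, one_mul]
      exact b.2
    have hKn : (K.map C.subtype).Normal := by
      refine ⟨?_⟩
      rintro _ ⟨x, hx, rfl⟩ g
      have hgx : g * (x : G) * g⁻¹ ∈ C := hCn.conj_mem _ x.2 g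
      refine ⟨⟨_, hgx⟩, (hKset _).1 ?_, rfl⟩
      rw [← Subgroup.orderOf_coe]
      have : orderOf (g * (x : G) * g⁻¹) = orderOf (x : G) := (MulAut.conj g).orderOf_eq _
      rw [Subgroup.coe_mk, this, Subgroup.orderOf_coe]
      exact (hKset x).2 hx
    have hKbot : K = ⊥ := by
      rw [← Subgroup.map_eq_bot_iff_of_injective _ C.subtype_injective]
      refine hcore _ hKn ?_
      rw [CfsgLib.Solvable.card_map_subtype, Nat.odd_iff]
      omega
    intro x hx
    obtain ⟨⟨a, b⟩, hab'⟩ := hK.2 ⟨x, hx⟩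
    have hb1 : (b : C) = 1 := by
      exact mem_bot.1 (hKbot.le b.2)
    have hax : ((a : C) : G) = x := by
      have h' : (a : C) * (b : C) = ⟨x, hx⟩ := hab'
      rw [hb1, mul_one] at h'
      exact congrArg Subtype.val h'
    exact hax ▸ mem_subgroupOf.1 a.2
  have hB : ∀ χ : IrrCharacter G, χ ∈ principalBlock M G := fun χ =>
    Cfsg.Agent.S4487.result 2 M hM hO hcons trivIrr χ
  -- comparison with functions on the quotient
  set W := Submodule.span ℂ
    ((fun χ : IrrCharacter G => pRegularPart 2 (χ : G → ℂ)) '' principalBlock M G) with hW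
  let E : (G → ℂ) →ₗ[ℂ] (G ⧸ Q → ℂ) := LinearMap.funLeft ℂ ℂ r
  let X : Submodule ℂ (G → ℂ) :=
    { carrier := {f | (∀ g, 2 ∣ orderOf g → f g = 0) ∧
        ∀ g, ¬ 2 ∣ orderOf g → f g = f (r (g : G ⧸ Q))}
      add_mem' := fun {a b} ha hb => ⟨fun g hg => by simp [ha.1 g hg, hb.1 g hg],
        fun g hg => by simp [← ha.2 g hg, ← hb.2 g hg]⟩
      zero_mem' := ⟨fun g _ => rfl, fun g _ => rfl⟩
      smul_mem' := fun c a ha => ⟨fun g hg => by simp [ha.1 g hg],
        fun g hg => by simp [← ha.2 g hg]⟩ }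
  have hWX : W ≤ X := by
    refine Submodule.span_le.2 ?_
    rintro _ ⟨χ, -, rfl⟩
    refine ⟨fun g hg => if_neg (not_not_intro hg), fun g hg => ?_⟩
    obtain ⟨u, hu⟩ := hconj g (r g) hg (hr g) (hrmk g).symm
    simp only [pRegularPart, IsPRegular, hg, hr (g : G ⧸ Q), not_false_iff, if_true]
    rw [← hu]
    exact (CfsgLib.Char.irr_isClassFunction χ.2 g u).symm
  have hinj : Function.Injective (E.domRestrict W) := by
    rw [injective_iff_map_eq_zero]
    rintro ⟨f, hf⟩ h0
    refine Subtype.ext (funext fun g => ?_)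
    by_cases hg : 2 ∣ orderOf g
    · exact (hWX hf).1 g hg
    · show f g = 0
      rw [(hWX hf).2 g hg]
      exact congrFun h0 (g : G ⧸ Q)
  have hsur : Submodule.span ℂ (Set.range fun ψ : IrrCharacter (G ⧸ Q) => (ψ : G ⧸ Q → ℂ)) ≤
      W.map E := by
    refine Submodule.span_le.2 ?_
    rintro _ ⟨ψ, rfl⟩
    refine ⟨_, Submodule.subset_span ⟨(quotIrrEquiv Q ψ).1, hB _, rfl⟩, ?_⟩
    funext x
    simp only [E, LinearMap.funLeft_apply, pRegularPart, IsPRegular, quotIrrEquiv_apply, hr x,
      not_false_iff, if_true, hrmk x]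
  have hfr : Module.finrank ℂ (Submodule.span ℂ
      (Set.range fun ψ : IrrCharacter (G ⧸ Q) => (ψ : G ⧸ Q → ℂ))) = Q.index := by
    have := Fintype.ofFinite (IrrCharacter (G ⧸ Q))
    rw [finrank_span_eq_card CfsgLib.Char.irr_linearIndependent, ← Nat.card_eq_fintype_card,
      ← Nat.card_congr (Equiv.subtypeUnivEquiv fun χ : IrrCharacter (G ⧸ Q) =>
        CfsgLib.Char.irr_degree_one_of_comm hQcomm χ.2), CfsgLib.Char.natCard_linearIrr]
    have hbot : commutator (G ⧸ Q) = ⊥ := by
      rw [commutator_eq_bot_iff_center_eq_top, eq_top_iff]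
      exact fun x _ => mem_center_iff.2 fun y => hQcomm y x
    rw [hbot, Subgroup.index_bot, Subgroup.index_eq_card]
  refine le_antisymm ?_ ?_
  · refine (LinearMap.finrank_le_finrank_of_injective hinj).trans_eq ?_
    rw [Module.finrank_fintype_fun_eq_card, ← Nat.card_eq_fintype_card, Subgroup.index_eq_card]
  · rw [← hfr]
    exact (Submodule.finrank_mono hsur).trans (Submodule.finrank_map_le E W)

/-- An element of the abelian Sylow subgroup fixed by its normaliser is central. -/
theorem central_of_fixed (hcore : NoOddNormal G) (P : Sylow 2 G)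
    (hab : IsMulCommutative (P : Subgroup G)) {z : G} (hz : z ∈ (P : Subgroup G))
    (hfix : ∀ g ∈ Subgroup.normalizer ((P : Subgroup G) : Set G), Commute z g) :
    z ∈ Subgroup.center G := by
  have : Fact (Nat.Prime 2) := ⟨Nat.prime_two⟩
  have : IsMulCommutative P := hab
  exact CfsgLib.Perm.AbelianZStar.mem_center
    (hcore _ (CfsgLib.Solvable.pPrimeCore_normal 2 G)
      (Nat.coprime_two_right.1 (CfsgLib.Solvable.pPrimeCore_coprime 2))) P hz
    fun g hg => by rw [← (hfix g hg).eq, mul_inv_cancel_right]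

/-- The characters of the principal block counted over the classes of two-elements. -/
theorem card_principal_formula (hM : IsPModular 2 M) (P : Sylow 2 G)
    (hab : IsMulCommutative (P : Subgroup G)) (Z : Subgroup G)
    (hZP : Z ≤ (P : Subgroup G)) (hZ : Z ≤ Subgroup.center G) (e : ℕ)
    (he : (Subgroup.centralizer ((P : Subgroup G) : Set G)).relIndex
      (Subgroup.normalizer ((P : Subgroup G) : Set G)) = e)
    (hfree : ∀ y ∈ (P : Subgroup G), y ∉ Z → cz y ⊓ Subgroup.normalizer ((P : Subgroup G) : Set G) =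
      Subgroup.centralizer ((P : Subgroup G) : Set G)) :
    e * Nat.card (principalBlock M G) + Nat.card Z =
      e * (Nat.card Z * blockRank 2 (principalBlock M G)) + Nat.card (P : Subgroup G) := by
  classical
  have := hM.2.1.isPrime
  have := Fintype.ofFinite G
  have : Fact (Nat.Prime 2) := ⟨Nat.prime_two⟩
  have : IsMulCommutative P := hab
  obtain ⟨X, hX, hcov, hrep, hk⟩ := FewPrincipal.exists_count (G := G) hM
  have hzc : ∀ z ∈ Z, ∀ g : G, g * z * g⁻¹ = z := fun z hz g => by
    rw [mem_center_iff.1 (hZ hz) g, mul_inv_cancel_right]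
  have hPp : ∀ y ∈ (P : Subgroup G), ∃ k : ℕ, orderOf y = 2 ^ k := fun y hy => by
    obtain ⟨k, hk⟩ := IsPGroup.iff_orderOf.1 P.2 ⟨y, hy⟩
    exact ⟨k, by rw [← hk, Subgroup.orderOf_mk]⟩
  have hinP : ∀ g : G, (∃ k : ℕ, orderOf g = 2 ^ k) → ∃ c : G, c * g * c⁻¹ ∈ (P : Subgroup G) := by
    rintro g ⟨k, hk⟩
    obtain ⟨T, hT⟩ := (IsPGroup.of_card (n := k) (by rw [Nat.card_zpowers, hk]) :
      IsPGroup 2 (zpowers g)).exists_le_sylow
    obtain ⟨c, hc⟩ := MulAction.exists_smul_eq G T P
    refine ⟨c, ?_⟩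
    rw [← hc]
    show c * g * c⁻¹ ∈ MulAut.conj c • (T : Subgroup G)
    exact Subgroup.smul_mem_pointwise_smul g _ _ (hT (mem_zpowers g))
  set l := blockRank 2 (principalBlock M G) with hl
  -- ranks at the two kinds of representatives
  have hrin : ∀ u ∈ X, u ∈ Z →
      blockRank 2 (principalBlock M (centralizer ({u} : Set G))) = l := by
    intro u hu huZ
    have htop : centralizer ({u} : Set G) = ⊤ := eq_top_iff.2 fun g _ =>
      mem_centralizer_singleton_iff.2 (mem_center_iff.1 (hZ huZ) g)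
    have := Fintype.ofFinite (centralizer ({u} : Set G))
    obtain ⟨b, hb, hr⟩ := exists_top_induced hM (isPBlock_principalBlock (M := M) (G := G)) htop
    rw [hl, ← hr, ← (Cfsg.Agent.S0936.result 2 M hM _ b ⟨_, hb⟩).1 hb]
  have hrout : ∀ y : G, (∃ k : ℕ, orderOf y = 2 ^ k) → y ∉ Z →
      blockRank 2 (principalBlock M (centralizer ({y} : Set G))) = 1 := by
    intro y hy hyZ
    obtain ⟨c, hc⟩ := hinP y hy
    have hcyZ : c * y * c⁻¹ ∉ Z := fun h => hyZ (by
      have := hzc _ h c⁻¹
      rw [inv_inv, show c⁻¹ * (c * y * c⁻¹) * c = y by group] at this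
      exact this ▸ h)
    let Q : Sylow 2 G := c⁻¹ • P
    have hQmem : ∀ v, v ∈ (Q : Subgroup G) ↔ c * v * c⁻¹ ∈ (P : Subgroup G) := fun v => by
      show v ∈ MulAut.conj c⁻¹ • (P : Subgroup G) ↔ _
      rw [Subgroup.mem_pointwise_smul_iff_inv_smul_mem]
      simp [mul_assoc]
    have hQle : (Q : Subgroup G) ≤ centralizer ({y} : Set G) := fun v hv => by
      have h1 : (c * v * c⁻¹) * (c * y * c⁻¹) = (c * y * c⁻¹) * (c * v * c⁻¹) :=
        congrArg Subtype.val (hab.is_comm.comm (⟨_, (hQmem v).1 hv⟩ : (P : Subgroup G)) ⟨_, hc⟩)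
      rw [mem_centralizer_singleton_iff]
      calc v * y = c⁻¹ * ((c * v * c⁻¹) * (c * y * c⁻¹)) * c := by group
        _ = y * v := by rw [h1]; group
    have := Fintype.ofFinite (centralizer ({y} : Set G))
    refine blockRank_principal_of_complement hM ⟨Q.subtype hQle, ?_⟩
    have hNC : normalizer ((Q.subtype hQle : Subgroup (centralizer ({y} : Set G))) :
        Set (centralizer ({y} : Set G))) ≤
        centralizer ((Q.subtype hQle : Subgroup (centralizer ({y} : Set G))) :
        Set (centralizer ({y} : Set G))) := by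
      intro x hx
      have hxN : (c * (x : G) * c⁻¹) ∈ normalizer ((P : Subgroup G) : Set G) := by
        rw [mem_normalizer_iff]
        intro v
        have key : ∀ w : G, w ∈ centralizer ({y} : Set G) →
            (c * w * c⁻¹ ∈ (P : Subgroup G) ↔ c * ((x : G) * w * (x : G)⁻¹) * c⁻¹ ∈ (P : Subgroup G)) := by
          intro w hw
          have := (mem_normalizer_iff.1 hx) ⟨w, hw⟩
          rw [Sylow.coe_subtype, mem_subgroupOf, mem_subgroupOf] at this
          simpa [hQmem] using this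
        constructor
        · intro hv
          have hw : c⁻¹ * v * c ∈ centralizer ({y} : Set G) := hQle ((hQmem _).2 (by
            rwa [show c * (c⁻¹ * v * c) * c⁻¹ = v by group]))
          have := (key _ hw).1 (by rwa [show c * (c⁻¹ * v * c) * c⁻¹ = v by group])
          rw [show c * (x : G) * c⁻¹ * v * (c * (x : G) * c⁻¹)⁻¹ =
            c * ((x : G) * (c⁻¹ * v * c) * (x : G)⁻¹) * c⁻¹ by group]
          exact this
        · intro hv
          rw [show c * (x : G) * c⁻¹ * v * (c * (x : G) * c⁻¹)⁻¹ =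
            c * ((x : G) * (c⁻¹ * v * c) * (x : G)⁻¹) * c⁻¹ by group] at hv
          have hw : c⁻¹ * v * c ∈ centralizer ({y} : Set G) := by
            have h1 := mul_mem (mul_mem (inv_mem x.2) (hQle ((hQmem _).2 hv))) x.2
            rwa [show (x : G)⁻¹ * ((x : G) * (c⁻¹ * v * c) * (x : G)⁻¹) * (x : G) = c⁻¹ * v * c
              by group] at h1
          have := (key _ hw).2 hv
          rwa [show c * (c⁻¹ * v * c) * c⁻¹ = v by group] at this
      have hxy : (x : G) * y = y * (x : G) := mem_centralizer_singleton_iff.1 x.2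
      have hxC : c * (x : G) * c⁻¹ ∈ cz (c * y * c⁻¹) := by
        rw [mem_centralizer_singleton_iff]
        calc c * (x : G) * c⁻¹ * (c * y * c⁻¹) = c * ((x : G) * y) * c⁻¹ := by group
          _ = c * y * c⁻¹ * (c * (x : G) * c⁻¹) := by rw [hxy]; group
      have hxP : c * (x : G) * c⁻¹ ∈ centralizer ((P : Subgroup G) : Set G) :=
        hfree _ hc hcyZ ▸ ⟨hxC, hxN⟩
      refine mem_centralizer_iff.2 fun w hw => Subtype.ext ?_
      have hw' : c * (w : G) * c⁻¹ ∈ (P : Subgroup G) := (hQmem _).1 (by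
        rw [SetLike.mem_coe, Sylow.coe_subtype, mem_subgroupOf] at hw
        exact hw)
      have h1 := mem_centralizer_iff.1 hxP _ hw'
      show (w : G) * (x : G) = (x : G) * (w : G)
      calc (w : G) * (x : G) = c⁻¹ * ((c * (w : G) * c⁻¹) * (c * (x : G) * c⁻¹)) * c := by group
        _ = (x : G) * (w : G) := by rw [h1]; group
    exact ⟨_, MonoidHom.normal_ker _, MonoidHom.ker_transferSylow_isComplement' _ hNC⟩
  -- counting the representatives
  let Pf : Finset G := Finset.univ.filter fun y => y ∈ (P : Subgroup G)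
  have hPf : Pf.card = Nat.card (P : Subgroup G) := by
    rw [← Fintype.card_subtype, Nat.card_eq_fintype_card]
  let Zf : Finset G := Finset.univ.filter fun y => y ∈ Z
  have hZf : Zf.card = Nat.card Z := by
    rw [← Fintype.card_subtype, Nat.card_eq_fintype_card]
  have hin : X.filter (· ∈ Z) = Zf.erase 1 := by
    ext z
    simp only [Finset.mem_filter, Finset.mem_erase, Zf, Finset.mem_univ, true_and]
    refine ⟨fun h => ⟨(hX z h.1).1, h.2⟩, fun ⟨h1, h2⟩ => ⟨?_, h2⟩⟩
    obtain ⟨u, hu, huz⟩ := hcov z h1 (hPp z (hZP h2))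
    obtain ⟨c, hc⟩ := isConj_iff.1 huz
    rw [hzc z h2 c] at hc
    exact hc ▸ hu
  let Xo := X.filter (· ∉ Z)
  have hcovo : ∀ y ∈ Pf.filter (· ∉ Z), ∃ u ∈ Xo, IsConj y u := by
    intro y hy
    simp only [Finset.mem_filter, Pf, Finset.mem_univ, true_and] at hy
    obtain ⟨u, hu, huy⟩ := hcov y (fun e => hy.2 (e ▸ one_mem Z)) (hPp y hy.1)
    refine ⟨u, Finset.mem_filter.2 ⟨hu, fun h => hy.2 ?_⟩, huy⟩
    obtain ⟨c, hc⟩ := isConj_iff.1 huy.symm
    rw [hzc u h c] at hc
    exact hc ▸ h
  have hfib : ∀ u ∈ Xo, ((Pf.filter (· ∉ Z)).filter fun y => IsConj y u).card = e := by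
    intro u hu
    obtain ⟨huX, huZ⟩ := Finset.mem_filter.1 hu
    obtain ⟨c, hc⟩ := hinP u (hX u huX).2
    set y := c * u * c⁻¹ with hy
    have hyu : IsConj u y := isConj_iff.2 ⟨c, rfl⟩
    have hyZ : y ∉ Z := fun h => huZ (by
      have h' := hzc _ h c⁻¹
      rw [hy, inv_inv, show c⁻¹ * (c * u * c⁻¹) * c = u by group] at h'
      exact h' ▸ h)
    set N := normalizer ((P : Subgroup G) : Set G)
    have horb : ((Pf.filter (· ∉ Z)).filter fun v => IsConj v u : Set G) =
        (fun n : N => (n : G) * y * (n : G)⁻¹) '' Set.univ := by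
      ext v
      simp only [Finset.coe_filter, Finset.mem_filter, Pf, Finset.mem_univ, true_and,
        Set.mem_image, Set.mem_univ, Set.mem_ofPred_eq]
      constructor
      · rintro ⟨⟨hvP, -⟩, hvu⟩
        obtain ⟨g, hg⟩ := isConj_iff.1 (hyu.symm.trans hvu.symm)
        obtain ⟨n, hn, hne⟩ := P.conj_eq_normalizer_conj_of_mem y g⁻¹ hc (by rwa [inv_inv, hg])
        refine ⟨⟨n⁻¹, inv_mem hn⟩, ?_⟩
        rw [inv_inv, hg] at hne
        simpa using hne.symm
      · rintro ⟨⟨n, hn⟩, rfl⟩
        refine ⟨⟨(mem_normalizer_iff.1 hn y).1 hc, fun h => hyZ ?_⟩,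
          ((isConj_iff.2 ⟨n, rfl⟩ : IsConj y (n * y * n⁻¹)).symm).trans hyu.symm⟩
        have h' := hzc _ h n⁻¹
        rw [inv_inv, show n⁻¹ * (n * y * n⁻¹) * n = y by group] at h'
        exact h' ▸ h
    rw [← Set.ncard_coe_finset]
    simp only [Finset.coe_filter] at horb ⊢
    rw [horb, Set.image_univ]
    have e1 : ∀ a b : N, (a : G) * y * (a : G)⁻¹ = (b : G) * y * (b : G)⁻¹ ↔
        (QuotientGroup.mk a : N ⧸ (centralizer ((P : Subgroup G) : Set G)).subgroupOf N) =
          QuotientGroup.mk b := by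
      intro a b
      rw [QuotientGroup.eq, mem_subgroupOf, Subgroup.coe_mul, Subgroup.coe_inv]
      constructor
      · intro h
        rw [← hfree y hc hyZ]
        refine Subgroup.mem_inf.2 ⟨mem_centralizer_singleton_iff.2 ?_,
          Subgroup.mul_mem _ (Subgroup.inv_mem _ a.2) b.2⟩
        calc (a : G)⁻¹ * b * y = (a : G)⁻¹ * ((b : G) * y * (b : G)⁻¹) * b := by group
          _ = y * ((a : G)⁻¹ * b) := by rw [← h]; group
      · intro h
        have h1 : ((a : G)⁻¹ * b) * y = y * ((a : G)⁻¹ * b) :=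
          (mem_centralizer_iff.1 h y hc).symm
        calc (a : G) * y * (a : G)⁻¹ = (a : G) * (y * ((a : G)⁻¹ * b)) * (b : G)⁻¹ := by group
          _ = (b : G) * y * (b : G)⁻¹ := by rw [← h1]; group
    have he' : Nat.card (N ⧸ (centralizer ((P : Subgroup G) : Set G)).subgroupOf N) = e := by
      rw [← he]; rfl
    rw [← he', ← Nat.card_coe_set_eq]
    symm
    refine Nat.card_eq_of_bijective (Quotient.lift
      (fun a : N => (⟨_, ⟨a, rfl⟩⟩ : Set.range fun n : N => (n : G) * y * (n : G)⁻¹))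
      fun a b h => Subtype.ext ((e1 a b).2 (Quotient.sound h))) ⟨?_, ?_⟩
    · intro a b
      induction a using Quotient.inductionOn
      induction b using Quotient.inductionOn
      intro h
      exact (e1 _ _).1 (congrArg Subtype.val h)
    · rintro ⟨_, a, rfl⟩
      exact ⟨QuotientGroup.mk a, rfl⟩
  have hdis : ∀ y ∈ Pf.filter (· ∉ Z), (Xo.filter fun u => IsConj y u).card = 1 := by
    intro y hy
    obtain ⟨u, hu, hyu⟩ := hcovo y hy
    rw [Finset.card_eq_one]
    refine ⟨u, Finset.eq_singleton_iff_unique_mem.2 ⟨Finset.mem_filter.2 ⟨hu, hyu⟩, fun v hv => ?_⟩⟩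
    exact hrep v (Finset.mem_filter.1 (Finset.mem_filter.1 hv).1).1 u (Finset.mem_filter.1 hu).1
      ((Finset.mem_filter.1 hv).2.symm.trans hyu)
  have hdouble : (Pf.filter (· ∉ Z)).card = e * Xo.card := by
    have h := Finset.sum_card_bipartiteAbove_eq_sum_card_bipartiteBelow
      (fun y u => IsConj y u) (s := Pf.filter (· ∉ Z)) (t := Xo)
    simp only [Finset.bipartiteAbove, Finset.bipartiteBelow] at h
    rw [Finset.sum_congr rfl hdis, Finset.sum_congr rfl hfib] at h
    simpa [mul_comm] using h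
  have hsplit : Nat.card Z + e * Xo.card = Nat.card (P : Subgroup G) := by
    rw [← hdouble, ← hPf, ← hZf, ← Finset.card_filter_add_card_filter_not (s := Pf) (· ∈ Z)]
    congr 1
    refine congrArg Finset.card ?_
    ext v
    simp only [Finset.mem_filter, Pf, Zf, Finset.mem_univ, true_and]
    exact ⟨fun h => ⟨hZP h, h⟩, fun h => h.2⟩
  rw [hk, ← Finset.sum_filter_add_sum_filter_not X (· ∈ Z),
    Finset.sum_congr rfl (g := fun _ => l) (fun u hu => hrin u (Finset.mem_filter.1 hu).1 (Finset.mem_filter.1 hu).2),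
    Finset.sum_congr rfl (g := fun _ => 1) (fun u hu => hrout u (hX u (Finset.mem_filter.1 hu).1).2 (Finset.mem_filter.1 hu).2),
    Finset.sum_const, Finset.sum_const, hin, Finset.card_erase_of_mem (by simp [Zf]), hZf]
  simp only [smul_eq_mul, mul_one]
  change e * (l + ((Nat.card Z - 1) * l + Xo.card)) + Nat.card Z = _
  obtain ⟨z', hz'⟩ : ∃ z', Nat.card Z = z' + 1 :=
    ⟨_, (Nat.sub_add_cancel (Nat.card_pos (α := Z))).symm⟩
  rw [hz', Nat.add_sub_cancel, ← hsplit, hz']
  ring

end CfsgLib.BlockA.PrimeInertial
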