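import Cfsg.Agent.Lib.BlockA.PrimeInertial.Basic
import Cfsg.Agent.Lib.Block.BRFixed
import Cfsg.Agent.Lib.Block.DegreeAux
import Cfsg.Agent.Lib.Block.Blocks

/-!
The fixed space of `W` bounds the degree of a character with negative value on the two-singular
elements, and so the index of the strongly embedded subgroup.
-/

set_option autoImplicit false

namespace CfsgLib.BlockA.PrimeInertial

open Cfsg Module

universe u

variable {G : Type u} [Group G] [Finite G] {R : Sylow 2 G} {W H : Subgroup G} {w : G} {n : ℕ}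

theorem Setup.commute_R (S : Setup R W H w n) {a b : G} (ha : a ∈ (R : Subgroup G))
    (hb : b ∈ (R : Subgroup G)) : a * b = b * a := by
  have hinv : ∀ z ∈ (R : Subgroup G), z⁻¹ = z := fun z hz =>
    inv_eq_of_mul_eq_one_right (S.elem z hz)
  calc a * b = (a * b)⁻¹ := (hinv _ (mul_mem ha hb)).symm
    _ = b * a := by rw [mul_inv_rev, hinv a ha, hinv b hb]

theorem Setup.wpow_norm (S : Setup R W H w n) {r : G} (hr : r ∈ (R : Subgroup G)) :
    ∀ i : ℕ, w ^ i * r * (w ^ i)⁻¹ ∈ (R : Subgroup G) := by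
  intro i
  induction i with
  | zero => simpa using hr
  | succ i ih =>
    have h := S.w_norm _ ih
    rwa [show w ^ (i + 1) * r * (w ^ (i + 1))⁻¹ = w * (w ^ i * r * (w ^ i)⁻¹) * w⁻¹ by
      rw [pow_succ']; group]

theorem Setup.eq_one_of_mem_W_R (S : Setup R W H w n) {r : G} (hrW : r ∈ W)
    (hr : r ∈ (R : Subgroup G)) : r = 1 := by
  by_contra h
  have h2 : orderOf r = 2 := CfsgLib.Invol.invol_of_mul_self (S.elem r hr) h
  exact (Nat.not_even_iff_odd.2 S.odd_W) (CfsgLib.Invol.even_card_of_invol_mem h2 hrW)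

/-- The product of `W` and a subgroup of `R`. -/
def Setup.wMul (S : Setup R W H w n) (X : Subgroup G) (hX : X ≤ (R : Subgroup G)) : Subgroup G where
  carrier := {g | ∃ a ∈ W, ∃ x ∈ X, g = a * x}
  one_mem' := ⟨1, one_mem W, 1, one_mem X, (one_mul 1).symm⟩
  mul_mem' := by
    rintro _ _ ⟨a, ha, x, hx, rfl⟩ ⟨b, hb, y, hy, rfl⟩
    exact ⟨a * (x * b * x⁻¹), mul_mem ha (S.W_norm x (S.R_le (hX hx)) b hb), x * y, mul_mem hx hy,
      by group⟩
  inv_mem' := by
    rintro _ ⟨a, ha, x, hx, rfl⟩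
    exact ⟨x⁻¹ * a⁻¹ * x⁻¹⁻¹, S.W_norm _ (S.R_le (hX (inv_mem hx))) _ (inv_mem ha), x⁻¹, inv_mem hx,
      by group⟩

theorem Setup.twoPart_ne_one (S : Setup R W H w n) {a x : G} (ha : a ∈ W)
    (hx : x ∈ (R : Subgroup G)) (hx1 : x ≠ 1) : CfsgLib.Invol.twoPart (a * x) ≠ 1 := by
  intro h
  rw [CfsgLib.Invol.twoPart_eq_one_iff] at h
  have hpow : ∀ m : ℕ, ∃ b ∈ W, (a * x) ^ m = b * x ^ m := by
    intro m
    induction m with
    | zero => exact ⟨1, one_mem W, by simp⟩
    | succ m ih =>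
      obtain ⟨b, hb, e⟩ := ih
      exact ⟨b * (x ^ m * a * (x ^ m)⁻¹),
        mul_mem hb (S.W_norm _ (S.R_le (pow_mem hx m)) a ha), by rw [pow_succ, e, pow_succ]; group⟩
  obtain ⟨b, hb, e⟩ := hpow (orderOf (a * x))
  rw [pow_orderOf_eq_one] at e
  obtain ⟨j, hj⟩ := h
  rw [hj, pow_succ, pow_mul, pow_two, S.elem x hx, one_pow, one_mul] at e
  refine hx1 (S.eq_one_of_mem_W_R ?_ hx)
  rw [eq_inv_of_mul_eq_one_right e.symm]
  exact inv_mem hb

/-- Sums over `W X` of a function constant on the two-singular elements. -/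
theorem Setup.sum_wMul (S : Setup R W H w n) (X : Subgroup G) (hX : X ≤ (R : Subgroup G))
    (f : G → ℂ) {c : ℂ} (hf : ∀ g : G, CfsgLib.Invol.twoPart g ≠ 1 → f g = c) :
    Nat.card (S.wMul X hX) = Nat.card W * Nat.card X ∧
      ∑ᶠ g : S.wMul X hX, f g =
        (∑ᶠ a : W, f a) + (Nat.card W : ℂ) * ((Nat.card X : ℂ) - 1) * c := by
  classical
  let F : W × X → S.wMul X hX := fun p => ⟨(p.1 : G) * p.2, p.1, p.1.2, p.2, p.2.2, rfl⟩
  have hF : Function.Bijective F := by
    constructor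
    · rintro ⟨a, x⟩ ⟨b, y⟩ h
      have h' : (a : G) * x = b * y := congrArg Subtype.val h
      have hmem : (b : G)⁻¹ * a = y * (x : G)⁻¹ := by
        rw [eq_mul_inv_iff_mul_eq, mul_assoc, h', inv_mul_cancel_left]
      have h1 : (b : G)⁻¹ * a = 1 := S.eq_one_of_mem_W_R (mul_mem (inv_mem b.2) a.2)
        (hX (by rw [hmem]; exact mul_mem y.2 (inv_mem x.2)))
      have hab : (a : G) = b := (inv_mul_eq_one.1 h1).symm
      refine Prod.ext (Subtype.ext hab) (Subtype.ext ?_)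
      rw [hab] at h'
      exact mul_left_cancel h'
    · rintro ⟨g, a, ha, x, hx, rfl⟩
      exact ⟨(⟨a, ha⟩, ⟨x, hx⟩), rfl⟩
  have : Fintype W := Fintype.ofFinite _
  have : Fintype X := Fintype.ofFinite _
  have : Fintype (S.wMul X hX) := Fintype.ofFinite _
  refine ⟨by rw [← Nat.card_prod, Nat.card_eq_of_bijective F hF], ?_⟩
  rw [finsum_eq_sum_of_fintype, finsum_eq_sum_of_fintype, ← hF.sum_comp (fun g => f g),
    Fintype.sum_prod_type]
  have key : ∀ a : W, ∑ x : X, f ((F (a, x) : S.wMul X hX) : G) =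
      f a + ((Nat.card X : ℂ) - 1) * c := by
    intro a
    rw [← Finset.add_sum_erase _ _ (Finset.mem_univ (1 : X))]
    congr 1
    · simp [F]
    · rw [Finset.sum_congr rfl (g := fun _ => c) fun x hx => hf _ (S.twoPart_ne_one a.2 (hX x.2)
        fun e => (Finset.mem_erase.1 hx).1 (Subtype.ext e)),
        Finset.sum_const, Finset.card_erase_of_mem (Finset.mem_univ _), Finset.card_univ,
        nsmul_eq_mul, Nat.cast_sub Fintype.card_pos, Nat.card_eq_fintype_card, Nat.cast_one]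
  rw [Finset.sum_congr rfl fun a _ => key a, Finset.sum_add_distrib, Finset.sum_const,
    Finset.card_univ, nsmul_eq_mul, Nat.card_eq_fintype_card (α := W), mul_assoc]

/-- Some conjugate of `W` leaves the strongly embedded subgroup. -/
theorem Setup.exists_conj_notMem (S : Setup R W H w n) (hW : W ≠ ⊥) :
    ∃ g : G, ∃ a ∈ W, g * a * g⁻¹ ∉ H := by
  by_contra hall
  push Not at hall
  have hle : Subgroup.normalClosure (W : Set G) ≤ H := by
    refine (Subgroup.closure_le _).2 fun y hy => ?_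
    obtain ⟨a, ha, hay⟩ := Group.mem_conjugatesOfSet_iff.1 hy
    obtain ⟨g, rfl⟩ := isConj_iff.1 hay
    exact hall g a ha
  rcases Nat.even_or_odd (Nat.card (Subgroup.normalClosure (W : Set G))) with he | ho
  · obtain ⟨t, htN, ht⟩ := CfsgLib.Invol.exists_invol_mem he
    obtain ⟨v, hvH, hv⟩ := CfsgLib.Invol.se_exists_invol_notMem S.se
    obtain ⟨g, rfl⟩ := isConj_iff.1 (CfsgLib.Invol.se_isConj S.se ht hv)
    exact hvH (hle (Subgroup.normalClosure_normal.conj_mem t htN g))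
  · refine hW (le_bot_iff.1 ?_)
    rw [← S.core _ Subgroup.normalClosure_normal ho]
    exact Subgroup.le_normalClosure

/-- A subgroup containing `W`, two involutions `t`, `w t w⁻¹` and leaving `H` contains `R`. -/
theorem Setup.R_le_of_mem (S : Setup R W H w n) (T : Subgroup G) (hWT : W ≤ T)
    (hTH : ¬ T ≤ H) {t : G} (htR : t ∈ (R : Subgroup G)) (ht1 : t ≠ 1) (htT : t ∈ T)
    (hsT : w * t * w⁻¹ ∈ T) : (R : Subgroup G) ≤ T := by
  set s : G := w * t * w⁻¹ with hs
  have hsR : s ∈ (R : Subgroup G) := S.w_norm t htR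
  have hot : orderOf t = 2 := CfsgLib.Invol.invol_of_mul_self (S.elem t htR) ht1
  have hos : orderOf s = 2 := by rw [hs, CfsgLib.Invol.orderOf_conj_eq, hot]
  obtain ⟨g, hgT, hgH⟩ := SetLike.not_le_iff_exists.1 hTH
  set v : G := g * t * g⁻¹
  have hvH : v ∉ H := fun h => hgH (CfsgLib.Invol.se_mem_of_conj S.se hot (S.R_le htR) h)
  have hvT : v ∈ T := mul_mem (mul_mem hgT htT) (inv_mem hgT)
  have hov : orderOf v = 2 := by rw [CfsgLib.Invol.orderOf_conj_eq, hot]
  have hodd : ∀ {z : G}, z ∈ H → orderOf z = 2 → Odd (orderOf (z * v)) := fun {z} hzH hz =>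
    Nat.not_even_iff_odd.1 fun heven => by
      obtain ⟨y, hy, hyz, hyv⟩ := CfsgLib.Invol.exists_commute_both hz hov heven
      exact hvH (CfsgLib.Invol.se_mem_of_commute S.se hy
        (CfsgLib.Invol.se_mem_of_commute S.se hz hzH hyz) hyv.symm)
  have hconj : ∀ {z : G}, z ∈ T → z ∈ H → orderOf z = 2 → ∃ d ∈ T, d * z * d⁻¹ = v := by
    intro z hzT hzH hz
    obtain ⟨d, hd⟩ := isConj_iff.1 (CfsgLib.Invol.isConj_of_odd (x := (⟨z, hzT⟩ : T))
      (y := ⟨v, hvT⟩) (by rw [Subgroup.orderOf_mk, hz]) (by rw [Subgroup.orderOf_mk, hov])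
      (by rw [← Subgroup.orderOf_coe]; exact hodd hzH hz))
    exact ⟨d, d.2, congrArg Subtype.val hd⟩
  obtain ⟨d₁, hd₁, e₁⟩ := hconj htT (S.R_le htR) hot
  obtain ⟨d₂, hd₂, e₂⟩ := hconj hsT (S.R_le hsR) hos
  have hm : d₂⁻¹ * d₁ * t * (d₂⁻¹ * d₁)⁻¹ = s := by
    rw [show d₂⁻¹ * d₁ * t * (d₂⁻¹ * d₁)⁻¹ = d₂⁻¹ * (d₁ * t * d₁⁻¹) * d₂ by group, e₁, ← e₂]
    group
  have hmT : d₂⁻¹ * d₁ ∈ T := mul_mem (inv_mem hd₂) hd₁
  have hmH : d₂⁻¹ * d₁ ∈ H :=
    CfsgLib.Invol.se_mem_of_conj S.se hot (S.R_le htR) (by rw [hm]; exact S.R_le hsR)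
  obtain ⟨a, ha, r, hr, i, hmi⟩ := S.mem_M _ hmH
  rw [hmi] at hm hmT
  set u : G := w ^ i * t * (w ^ i)⁻¹ with hu
  have huR : u ∈ (R : Subgroup G) := S.wpow_norm htR i
  have hau : a * u * a⁻¹ = s := by
    rw [← hm, show a * r * w ^ i * t * (a * r * w ^ i)⁻¹ = a * (r * u * r⁻¹) * a⁻¹ by rw [hu]; group,
      S.commute_R hr huR, mul_inv_cancel_right]
  have hsu : s * u⁻¹ = 1 := by
    refine S.eq_one_of_mem_W_R ?_ (mul_mem hsR (inv_mem huR))
    rw [← hau, show a * u * a⁻¹ * u⁻¹ = a * (u * a⁻¹ * u⁻¹) by group]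
    exact mul_mem ha (S.W_norm u (S.R_le huR) _ (inv_mem ha))
  have heq : s = u := mul_inv_eq_one.1 hsu
  have he2 : 2 ≤ 2 ^ n - 1 := by
    have : 2 ^ 3 ≤ 2 ^ n := Nat.pow_le_pow_right (by omega) S.three_le
    omega
  obtain ⟨j, rfl⟩ : ∃ j, i = j + 1 := Nat.exists_eq_succ_of_ne_zero fun hi0 => by
    subst hi0
    rw [hu, pow_zero, one_mul, inv_one, mul_one, hs] at heq
    have h1 : Commute (w ^ 1) t := by rw [pow_one]; exact mul_inv_eq_iff_eq_mul.1 heq
    exact absurd (Nat.le_of_dvd one_pos (S.w_free 1 t htR ht1 h1)) (by omega)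
  have hjW : w ^ j ∈ W := by
    have h1 : Commute (w ^ j) t := by
      rw [hu, hs, pow_succ',
        show w * w ^ j * t * (w * w ^ j)⁻¹ = w * (w ^ j * t * (w ^ j)⁻¹) * w⁻¹ by group] at heq
      exact mul_inv_eq_iff_eq_mul.1 (mul_left_cancel (mul_right_cancel heq)).symm
    obtain ⟨l, hl⟩ := S.w_free j t htR ht1 h1
    rw [hl, pow_mul]
    exact pow_mem S.w_pow l
  have hz : r * w ∈ T := by
    have h1 : r * w = (r * w ^ j * r⁻¹)⁻¹ * (r * w ^ (j + 1)) := by rw [pow_succ]; group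
    rw [h1]
    refine mul_mem (inv_mem (hWT (S.W_norm r (S.R_le hr) _ hjW))) ?_
    have h2 : r * w ^ (j + 1) = a⁻¹ * (a * r * w ^ (j + 1)) := by group
    rw [h2]
    exact mul_mem (inv_mem (hWT ha)) hmT
  have hall : ∀ l : ℕ, w ^ l * t * (w ^ l)⁻¹ ∈ T := by
    intro l
    induction l with
    | zero => simpa using htT
    | succ l ih =>
      set x : G := w ^ l * t * (w ^ l)⁻¹ with hx
      have hxR : w * x * w⁻¹ ∈ (R : Subgroup G) := S.w_norm _ (S.wpow_norm htR l)
      have h1 : r * w * x * (r * w)⁻¹ ∈ T := mul_mem (mul_mem hz ih) (inv_mem hz)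
      rw [show r * w * x * (r * w)⁻¹ = r * (w * x * w⁻¹) * r⁻¹ by group, S.commute_R hr hxR,
        mul_inv_cancel_right] at h1
      rwa [show w ^ (l + 1) * t * (w ^ (l + 1))⁻¹ = w * x * w⁻¹ by rw [hx, pow_succ']; group]
  intro y hy
  by_cases hy1 : y = 1
  · rw [hy1]; exact one_mem T
  obtain ⟨l, rfl⟩ := S.w_trans t htR ht1 y hy hy1
  exact hall l

/-- A character equal to `-k` on the two-singular elements has degree at least `k (5 q - 8) / 4`. -/
theorem degree_ge (S : Setup R W H w n) (hW : W ≠ ⊥) (χ : IrrCharacter G) (k : ℕ) (hk : 1 ≤ k)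
    (hval : ∀ g : G, CfsgLib.Invol.twoPart g ≠ 1 → (χ : G → ℂ) g = -(k : ℂ)) :
    k * (5 * 2 ^ n - 8) ≤ 4 * charDegree (χ : G → ℂ) := by
  classical
  have : Fintype G := Fintype.ofFinite G
  have hdeg := CfsgLib.Block.charDegree_spec (CfsgLib.Char.irr_isCharacter χ.2)
  obtain ⟨m, ρ, -, hρ⟩ := χ.2
  rw [← hρ] at hdeg hval ⊢
  set q := 2 ^ n with hq
  have hq8 : 8 ≤ q := le_trans (by norm_num) (Nat.pow_le_pow_right Nat.two_pos S.three_le)
  set x := charDegree ρ.character with hx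
  have hxm : x = m := by
    rw [Representation.char_one, Module.finrank_fin_fun] at hdeg
    exact_mod_cast hdeg.symm
  -- a four group in `R`
  obtain ⟨t, htR, ht1⟩ := (R : Subgroup G).bot_or_exists_ne_one.resolve_left fun h => by
    have := S.card_R; rw [h, Subgroup.card_bot] at this; omega
  set s : G := w * t * w⁻¹ with hs
  have hsR : s ∈ (R : Subgroup G) := S.w_norm t htR
  have hs1 : s ≠ 1 := fun h => ht1 (by rwa [hs, conj_eq_one_iff] at h)
  have hst : s ≠ t := fun h => by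
    have h1 : Commute (w ^ 1) t := by rw [pow_one]; exact mul_inv_eq_iff_eq_mul.1 h
    have := Nat.le_of_dvd one_pos (S.w_free 1 t htR ht1 h1)
    omega
  have hts := S.commute_R htR hsR
  have htt := S.elem t htR
  have hss := S.elem s hsR
  let E : Subgroup G :=
    { carrier := {g | g = 1 ∨ g = t ∨ g = s ∨ g = t * s}
      one_mem' := Or.inl rfl
      mul_mem' := by
        have e1 : t * (t * s) = s := by rw [← mul_assoc, htt, one_mul]
        have e2 : s * (t * s) = t := by rw [hts, ← mul_assoc, hss, one_mul]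
        have e3 : t * s * t = s := by rw [mul_assoc, ← hts, e1]
        have e4 : t * s * s = t := by rw [mul_assoc, hss, mul_one]
        have e5 : t * s * (t * s) = 1 := by rw [mul_assoc, e2, htt]
        rintro x y (rfl | rfl | rfl | rfl) (rfl | rfl | rfl | rfl) <;>
          simp [htt, hss, e1, e2, e3, e4, e5, hts.symm]
      inv_mem' := by
        rintro x (rfl | rfl | rfl | rfl)
        · simp
        · simp [inv_eq_of_mul_eq_one_right htt]
        · simp [inv_eq_of_mul_eq_one_right hss]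
        · simp [inv_eq_of_mul_eq_one_right htt, inv_eq_of_mul_eq_one_right hss, hts] }
  have hER : E ≤ (R : Subgroup G) := by
    rintro g (rfl | rfl | rfl | rfl)
    · exact one_mem _
    · exact htR
    · exact hsR
    · exact mul_mem htR hsR
  have hE : Nat.card E = 4 := by
    have h1 : (E : Set G) = ({1, t, s, t * s} : Finset G) := by
      ext g; simp [E]
    have h2 : t * s ≠ 1 := fun h => hst (by rw [← inv_eq_of_mul_eq_one_right h,
      inv_eq_of_mul_eq_one_right htt])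
    rw [← SetLike.coe_sort_coe, h1, Nat.card_coe_set_eq, Set.ncard_coe_finset]
    rw [Finset.card_insert_of_notMem (by simp [Ne.symm ht1, Ne.symm hs1, Ne.symm h2]),
      Finset.card_insert_of_notMem (by simp [Ne.symm hst, hs1]),
      Finset.card_insert_of_notMem (by simp [ht1]), Finset.card_singleton]
  let B := S.wMul (R : Subgroup G) le_rfl
  let C := S.wMul E hER
  let Fix : Subgroup G → Submodule ℂ (Fin m → ℂ) := fun A =>
    Representation.invariants (ρ.comp A.subtype)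
  have hmem : ∀ (A : Subgroup G) (v : Fin m → ℂ), v ∈ Fix A ↔ ∀ a ∈ A, ρ a v = v := fun A v =>
    ⟨fun h a ha => h ⟨a, ha⟩, fun h a => h a a.2⟩
  set fA := finrank ℂ (Fix W) with hfA
  set fB := finrank ℂ (Fix B) with hfB
  set fC := finrank ℂ (Fix C) with hfC
  have eA := CfsgLib.Block.BrauerReynolds.sum_char_eq_finrank ρ W
  have eB := CfsgLib.Block.BrauerReynolds.sum_char_eq_finrank ρ B
  have eC := CfsgLib.Block.BrauerReynolds.sum_char_eq_finrank ρ C
  obtain ⟨cB, sB⟩ := S.sum_wMul (R : Subgroup G) le_rfl ρ.character hval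
  obtain ⟨cC, sC⟩ := S.sum_wMul E hER ρ.character hval
  have hW0 : (Nat.card W : ℂ) ≠ 0 := Nat.cast_ne_zero.2 Nat.card_pos.ne'
  have hB' : (q : ℤ) * fB = fA - ((q : ℤ) - 1) * k := by
    rw [eB, eA, cB, S.card_R] at sB
    have : ((q : ℤ) * fB : ℂ) = ((fA : ℤ) - ((q : ℤ) - 1) * k : ℂ) := by
      push_cast
      refine mul_left_cancel₀ hW0 ?_
      push_cast at sB
      rw [hq]; push_cast
      linear_combination sB
    exact_mod_cast this
  have hC' : 4 * (fC : ℤ) = fA - 3 * k := by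
    rw [eC, eA, cC, hE] at sC
    have : ((4 * fC : ℤ) : ℂ) = (((fA : ℤ) - 3 * k : ℤ) : ℂ) := by
      push_cast
      refine mul_left_cancel₀ hW0 ?_
      push_cast at sC
      linear_combination sC
    exact_mod_cast this
  -- two fixed spaces
  obtain ⟨g, a₀, ha₀, hga⟩ := S.exists_conj_notMem hW
  let U₂ : Submodule ℂ (Fin m → ℂ) := (Fix W).map (ρ g)
  have hgi : ∀ v, ρ g⁻¹ (ρ g v) = v := fun v => by
    rw [← Module.End.mul_apply, ← map_mul, inv_mul_cancel, map_one, Module.End.one_apply]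
  have hU₂ : finrank ℂ U₂ = fA :=
    (Submodule.equivMapOfInjective (ρ g) (Function.LeftInverse.injective hgi) (Fix W)).finrank_eq.symm
  set I := Fix W ⊓ U₂
  have hIC : I ⊓ Fix C ≤ Fix B := by
    rintro v ⟨⟨hv1, hv2⟩, hv3⟩
    obtain ⟨v', hv', rfl⟩ := hv2
    let T : Subgroup G :=
      { carrier := {y | ρ y (ρ g v') = ρ g v'}
        one_mem' := by simp
        mul_mem' := fun {a b} ha hb => by
          simp only [Set.mem_setOf_eq] at ha hb ⊢
          rw [map_mul, Module.End.mul_apply, hb, ha]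
        inv_mem' := fun {a} ha => by
          simp only [Set.mem_setOf_eq] at ha ⊢
          conv_lhs => rw [← ha]
          rw [← Module.End.mul_apply, ← map_mul, inv_mul_cancel, map_one, Module.End.one_apply] }
    have hWT : W ≤ T := fun a ha => (hmem _ _).1 hv1 a ha
    have hTH : ¬ T ≤ H := fun h => hga (h (show ρ (g * a₀ * g⁻¹) (ρ g v') = ρ g v' by
      rw [map_mul, map_mul, Module.End.mul_apply, Module.End.mul_apply, hgi,
        (hmem _ _).1 hv' a₀ ha₀]))
    have hCT : ∀ y ∈ E, y ∈ T := fun y hy =>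
      (hmem _ _).1 hv3 y ⟨1, one_mem W, y, hy, (one_mul y).symm⟩
    have hRT := S.R_le_of_mem T hWT hTH htR ht1 (hCT t (Or.inr (Or.inl rfl)))
      (hCT s (Or.inr (Or.inr (Or.inl rfl))))
    refine (hmem _ _).2 ?_
    rintro _ ⟨a, ha, r, hr, rfl⟩
    exact T.mul_mem (hWT ha) (hRT hr)
  have hIA : I ⊔ Fix C ≤ Fix W := sup_le inf_le_left fun v hv => (hmem _ _).2 fun a ha =>
    (hmem _ _).1 hv a ⟨a, ha, 1, one_mem E, (mul_one a).symm⟩
  have d1 := Submodule.finrank_sup_add_finrank_inf_eq I (Fix C)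
  have d2 := Submodule.finrank_mono hIC
  have d3 := Submodule.finrank_mono hIA
  have d4 := Submodule.finrank_sup_add_finrank_inf_eq (Fix W) U₂
  have d5 : finrank ℂ ↥(Fix W ⊔ U₂) ≤ m := by
    simpa using Submodule.finrank_le (Fix W ⊔ U₂)
  rw [hU₂] at d4
  have hI : finrank ℂ ↥I = finrank ℂ ↥(Fix W ⊓ U₂) := rfl
  have hmain : fA + fC ≤ x + fB := by
    rw [hfA] at d4 ⊢
    rw [hfB, hfC]
    omega
  have key : (q : ℤ) * (k * (5 * q - 8)) ≤ q * (4 * x) := by
    have h1 : (4 * q : ℤ) * (fA + fC) ≤ 4 * q * (x + fB) :=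
      mul_le_mul_of_nonneg_left (by exact_mod_cast hmain) (by positivity)
    have h2 : ((q : ℤ) - 1) * k ≤ fA := by
      have : (0 : ℤ) ≤ q * fB := by positivity
      omega
    have h3 : (5 * (q : ℤ) - 4) * (((q : ℤ) - 1) * k) ≤ (5 * q - 4) * fA :=
      mul_le_mul_of_nonneg_left h2 (by omega)
    linear_combination h1 + h3 - (q : ℤ) * hC' + 4 * hB'
  have key2 := Int.le_of_mul_le_mul_left key (by positivity)
  have : ((k * (5 * q - 8) : ℕ) : ℤ) ≤ ((4 * x : ℕ) : ℤ) := by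
    push_cast [Nat.cast_sub (show 8 ≤ 5 * q by omega)]
    exact key2
  exact_mod_cast this

/-- The index of the strongly embedded subgroup is less than `5 q`. -/
theorem index_le (S : Setup R W H w n) (hW : W ≠ ⊥) {M : Ideal AlgInt} (hM : IsPModular 2 M)
    {d : IrrCharacter G → ℤ} [Fintype G] (hd : Column M n H.index d) :
    H.index ≤ 4 * 2 ^ n + 1 ∨ H.index < 5 * 2 ^ n := by
  classical
  refine Or.inr ?_
  set q := 2 ^ n with hq
  have hq8 : 8 ≤ q := le_trans (by norm_num) (Nat.pow_le_pow_right Nat.two_pos S.three_le)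
  set B := (principalBlock M G).toFinite.toFinset with hB
  let one : IrrCharacter G := ⟨fun _ => 1, CfsgLib.Char.isIrrCharacter_one⟩
  haveI := hM.2.1.isPrime
  have h1B : one ∈ B := (Set.Finite.mem_toFinset _).2 CfsgLib.Block.one_mem_principalBlock
  have hd1 : d one = 1 := hd.one one rfl
  let x : IrrCharacter G → ℤ := fun χ => (charDegree (χ : G → ℂ) : ℤ)
  have hneg : ∀ χ ∈ B, d χ < 0 → (5 * (q : ℤ) - 8) * -(d χ) ≤ 4 * x χ := by
    intro χ hχ hlt
    have h := degree_ge S hW χ (-(d χ)).toNat (by omega) fun g hg => by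
      rw [hd.value χ ((Set.Finite.mem_toFinset _).1 hχ) g hg]
      rw [← Int.cast_natCast, Int.toNat_of_nonneg (by omega), Int.cast_neg, neg_neg]
    have h' : (((-(d χ)).toNat * (5 * q - 8) : ℕ) : ℤ) ≤ ((4 * charDegree (χ : G → ℂ) : ℕ) : ℤ) := by
      exact_mod_cast h
    push_cast [Nat.cast_sub (show 8 ≤ 5 * q by omega), Int.toNat_of_nonneg (show 0 ≤ -(d χ) by omega)] at h'
    linarith
  -- another positive term
  obtain ⟨χ₀, hχ₀, hne, hpos⟩ : ∃ χ ∈ B, χ ≠ one ∧ 0 < d χ := by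
    by_contra hall
    push Not at hall
    have hsum : ∑ χ ∈ B.erase one, -(d χ) * x χ = 1 := by
      have h := hd.orth
      rw [← hB, ← Finset.add_sum_erase B _ h1B, hd1, one_mul] at h
      have hx1 : charDegree (one : G → ℂ) = 1 := by
        simp [charDegree, one]
      rw [hx1] at h
      rw [Finset.sum_congr rfl fun χ _ => neg_mul (d χ) (x χ), Finset.sum_neg_distrib]
      push_cast at h
      linarith
    have hle : ∑ χ ∈ B.erase one, d χ * d χ ≤ ∑ χ ∈ B.erase one, -(d χ) * x χ := by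
      refine Finset.sum_le_sum fun χ hχ => ?_
      obtain ⟨hne, hχB⟩ := Finset.mem_erase.1 hχ
      rcases (hall χ hχB hne).eq_or_lt with e | e
      · rw [e]; simp
      · have h := hneg χ hχB e
        have h32 : (32 : ℤ) * -(d χ) ≤ 4 * x χ :=
          le_trans (mul_le_mul_of_nonneg_right (by omega) (by omega)) h
        rw [show d χ * d χ = -(d χ) * -(d χ) by ring]
        exact mul_le_mul_of_nonneg_left (by omega) (by omega)
    have h := hd.norm
    rw [← hB, ← Finset.add_sum_erase B _ h1B, hd1] at h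
    have hqZ : ((2 : ℤ) ^ n) = q := by rw [hq]; push_cast; ring
    omega
  -- the cube equation
  have hxpos : ∀ χ : IrrCharacter G, (0 : ℝ) < (charDegree (χ : G → ℂ) : ℝ) := fun χ => by
    have : charDegree (χ : G → ℂ) ≠ 0 := fun h0 => by
      have h1 := CfsgLib.Block.charDegree_spec (CfsgLib.Char.irr_isCharacter χ.2)
      rw [h0, Nat.cast_zero] at h1
      exact CfsgLib.Char.irr_apply_one_ne_zero χ.2 h1
    exact_mod_cast Nat.pos_of_ne_zero this
  have hA : (0 : ℝ) < 5 * (q : ℝ) - 8 := by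
    have : (8 : ℝ) ≤ q := by exact_mod_cast hq8
    linarith
  let T : IrrCharacter G → ℝ := fun χ => (d χ : ℝ) ^ 3 / (charDegree (χ : G → ℂ) : ℝ)
  have hterm : ∀ χ ∈ B, -(4 / (5 * (q : ℝ) - 8) * (d χ : ℝ) ^ 2) ≤ T χ := by
    intro χ hχ
    show _ ≤ (d χ : ℝ) ^ 3 / _
    rw [le_div_iff₀ (hxpos χ)]
    rcases le_or_gt 0 (d χ) with h | h
    · have h' : (0 : ℝ) ≤ d χ := by exact_mod_cast h
      have h2 : (0 : ℝ) ≤ (d χ : ℝ) ^ 3 := pow_nonneg h' 3
      have h3 : 0 ≤ 4 / (5 * (q : ℝ) - 8) * (d χ : ℝ) ^ 2 * (charDegree (χ : G → ℂ) : ℝ) := by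
        positivity
      linarith
    · have hb : (5 * (q : ℝ) - 8) * -(d χ : ℝ) ≤ 4 * (charDegree (χ : G → ℂ) : ℝ) := by
        have := hneg χ hχ h
        have h' : (((5 * (q : ℤ) - 8) * -(d χ) : ℤ) : ℝ) ≤ ((4 * x χ : ℤ) : ℝ) := Int.cast_le.2 this
        push_cast [x] at h'
        exact h'
      have h2 : -(d χ : ℝ) ≤ 4 / (5 * (q : ℝ) - 8) * (charDegree (χ : G → ℂ) : ℝ) := by
        rw [div_mul_eq_mul_div, le_div_iff₀ hA]
        linarith
      have h3 := mul_le_mul_of_nonneg_left h2 (sq_nonneg (d χ : ℝ))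
      linarith
  have h0ne : one ≠ χ₀ := fun e => hne e.symm
  have hsplit : ∀ f : IrrCharacter G → ℝ,
      ∑ χ ∈ B, f χ = f one + (f χ₀ + ∑ χ ∈ (B.erase one).erase χ₀, f χ) := fun f => by
    rw [← Finset.add_sum_erase B f h1B,
      ← Finset.add_sum_erase (B.erase one) f (Finset.mem_erase.2 ⟨hne, hχ₀⟩)]
  have hnorm : ∑ χ ∈ B, (d χ : ℝ) ^ 2 = (q : ℝ) := by
    have h := congrArg (fun z : ℤ => (z : ℝ)) hd.norm
    push_cast at h
    rw [hq]; push_cast
    rw [← h]
    exact Finset.sum_congr rfl fun χ _ => pow_two _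
  have hcube := hd.cube
  rw [← hB, hsplit] at hcube
  rw [hsplit] at hnorm
  have hT1 : T one = 1 := by
    show (d one : ℝ) ^ 3 / (charDegree (fun _ : G => (1 : ℂ)) : ℝ) = 1
    simp [hd1, charDegree]
  have hT0 : 0 < T χ₀ := div_pos (pow_pos (by exact_mod_cast hpos) 3) (hxpos χ₀)
  have hd0 : (1 : ℝ) ≤ (d χ₀ : ℝ) ^ 2 := by
    have : (1 : ℝ) ≤ d χ₀ := by exact_mod_cast hpos
    exact one_le_pow₀ this
  have hrest : -(4 / (5 * (q : ℝ) - 8) * ((q : ℝ) - 2)) ≤ ∑ χ ∈ (B.erase one).erase χ₀, T χ := by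
    refine le_trans ?_ (Finset.sum_le_sum fun χ hχ =>
      hterm χ (Finset.mem_of_mem_erase (Finset.mem_of_mem_erase hχ)))
    rw [Finset.sum_neg_distrib, ← Finset.mul_sum, neg_le_neg_iff]
    refine mul_le_mul_of_nonneg_left ?_ (div_nonneg (by norm_num) hA.le)
    have : (d one : ℝ) ^ 2 = 1 := by simp [hd1]
    linarith
  have hlow : (q : ℝ) / (5 * (q : ℝ) - 8) <
      (2 : ℝ) ^ n * ((2 : ℝ) ^ n - 2) / (((2 : ℝ) ^ n - 1) * (H.index : ℝ)) := by
    rw [← hcube]
    have e : (q : ℝ) / (5 * (q : ℝ) - 8) = 1 + -(4 / (5 * (q : ℝ) - 8) * ((q : ℝ) - 2)) := by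
      rw [div_eq_iff hA.ne', add_mul, neg_mul, mul_right_comm, div_mul_cancel₀ _ hA.ne']; ring
    show _ < T one + (T χ₀ + _)
    rw [hT1, e]
    linarith
  have hqR : (2 : ℝ) ^ n = q := by rw [hq]; push_cast; ring
  rw [hqR] at hlow
  have hv : (0 : ℝ) < H.index := by exact_mod_cast Nat.pos_of_ne_zero Subgroup.index_ne_zero_of_finite
  have hq8R : (8 : ℝ) ≤ q := by exact_mod_cast hq8
  rw [div_lt_div_iff₀ hA (mul_pos (by linarith) hv)] at hlow
  by_contra hge
  have hgeR : (5 : ℝ) * q ≤ H.index := by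
    have : 5 * q ≤ H.index := not_lt.1 hge
    exact_mod_cast this
  have h4 : (q : ℝ) * ((q - 1) * (5 * q)) ≤ q * ((q - 1) * H.index) :=
    mul_le_mul_of_nonneg_left (mul_le_mul_of_nonneg_left hgeR (by linarith)) (by linarith)
  have h5 : (q : ℝ) * ((q - 2) * (5 * q - 8)) ≤ q * ((q - 1) * (5 * q)) :=
    mul_le_mul_of_nonneg_left (by linarith) (by linarith)
  linarith

end CfsgLib.BlockA.PrimeInertial
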