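import Cfsg.Agent.Lib.BlockA.PrimeInertial.General
import Cfsg.Agent.Lib.BlockA.PrimeInertial.Orbits
import Cfsg.Agent.Lib.BlockA.PrimeInertial.Build
import Cfsg.Agent.Lib.BlockA.PrimeInertial.Column
import Cfsg.Agent.Lib.BlockA.PrimeInertial.Trace
import Cfsg.Agent.Lib.BlockA.PrimeInertial.Perm
import Cfsg.Agent.Lib.BlockA.PrimeInertial.CAChars
import Cfsg.Agent.Lib.BlockA.PrimeInertial.Exponent
import Cfsg.Agent.Lib.BlockA.PrimeInertial.Reduce
import Cfsg.Agent.Lib.BlockA.PrimeInertial.RankTwo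
import Cfsg.Agent.Lib.PLength.DerivedBound
import Cfsg.Agent.S4571
import Cfsg.Agent.S0205

/-!
The principal two-block of a group with abelian Sylow two-subgroup whose inertial quotient is cyclic
and acts freely off the fixed points, of prime order or regular on the involutions.
-/

set_option autoImplicit false
set_option linter.unusedSectionVars false

namespace CfsgLib.BlockA.PrimeInertial

open Cfsg Subgroup

universe u

variable {G : Type u} [Group G] [Finite G]

local notation "NP" P => Subgroup.normalizer (SetLike.coe (Sylow.toSubgroup P))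
local notation "CP" P => Subgroup.centralizer (SetLike.coe (Sylow.toSubgroup P))

/-- The regular elementary case. -/
theorem card_principal_setup {M : Ideal AlgInt} (hM : IsPModular 2 M) {R : Sylow 2 G} {W H : Subgroup G}
    {w : G} {n : ℕ} (S : Setup R W H w n) : Nat.card (principalBlock M G) = 2 ^ n := by
  classical
  have := Fintype.ofFinite G
  obtain ⟨d, hd⟩ := exists_column S hM
  have h8 : 8 ≤ 2 ^ n := le_trans (by norm_num) (Nat.pow_le_pow_right two_pos S.three_le)
  refine card_principal S (W_eq_bot S fun hW => ?_) hM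
  rcases index_le S hW hM hd with h | h
  · omega
  · exact h

/-- No fixed points: the rank is the inertial index, and the Sylow subgroup is small unless normal. -/
theorem key {M : Ideal AlgInt} (hM : IsPModular 2 M) (hcore : NoOddNormal G) (P : Sylow 2 G)
    (hab : IsMulCommutative (P : Subgroup G)) (e : ℕ) (he : (CP P).relIndex (NP P) = e)
    (hfree : ∀ y ∈ (P : Subgroup G), y ≠ 1 → cz y ⊓ (NP P) = (CP P))
    (hcyc : ∃ g ∈ (NP P), (CP P) ⊔ zpowers g = (NP P))
    (hspec : e.Prime ∨ ((∀ x ∈ (P : Subgroup G), x * x = 1) ∧ e + 1 = Nat.card (P : Subgroup G) ∧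
      8 ≤ e + 1)) :
    blockRank 2 (principalBlock M G) = e ∧
      (¬ (P : Subgroup G).Normal → Nat.card (P : Subgroup G) = e + 1) := by
  classical
  have := Fintype.ofFinite G
  have h2 : Fact (Nat.Prime 2) := ⟨Nat.prime_two⟩
  by_cases hn : (P : Subgroup G).Normal
  · haveI := hn
    have hC := centralizer_eq_of_normal hcore P hn hab
    have hN : (NP P) = ⊤ := normalizer_eq_top_iff.2 hn
    obtain ⟨g, -, hg⟩ := hcyc
    rw [hC, hN] at hg
    have hcy : IsCyclic (G ⧸ (P : Subgroup G)) := by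
      refine ⟨⟨QuotientGroup.mk g, fun x => ?_⟩⟩
      induction x using QuotientGroup.induction_on with
      | H x =>
        obtain ⟨a, ha, b, hb, rfl⟩ := mem_sup_of_normal_left.1 (hg ▸ mem_top x)
        obtain ⟨k, rfl⟩ := hb
        exact ⟨k, by rw [QuotientGroup.mk_mul, (QuotientGroup.eq_one_iff a).2 ha, one_mul]; rfl⟩
    rw [blockRank_of_normal_sylow hM hcore P hn hab hcy, ← he, hC, hN, relIndex_top_right]
    exact ⟨rfl, fun h => absurd hn h⟩
  have hcn : ∀ t ∈ (P : Subgroup G), t ≠ 1 → HasNormalPComplement 2 (cz t) := by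
    intro t ht ht1
    have hPt : (P : Subgroup G) ≤ cz t := fun a ha =>
      mem_centralizer_singleton_iff.2 ((le_centralizer_self P hab ha t ht).symm)
    refine CfsgLib.Transfer.hasNormalPComplement_of_normalizer_le_centralizer (P.subtype hPt) ?_
    intro g hg x hx
    have hgN : (g : G) ∈ (NP P) := by
      refine mem_normalizer_iff.2 fun a => ⟨fun ha => ?_, fun ha => ?_⟩
      · exact (mem_normalizer_iff.1 hg ⟨a, hPt ha⟩).1 ha
      · have hga : a ∈ cz t := by
          have := (cz t).mul_mem ((cz t).mul_mem (inv_mem g.2) (hPt ha)) g.2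
          simpa [mul_assoc] using this
        exact (mem_normalizer_iff.1 hg ⟨a, hga⟩).2 ha
    exact Subtype.ext ((show (g : G) ∈ (CP P) from hfree t ht ht1 ▸ ⟨g.2, hgN⟩) _ hx)
  have hrel : ∀ y ∈ (P : Subgroup G), y ≠ 1 → (cz y).relIndex (NP P) = (CP P).relIndex (NP P) :=
    fun y hy hy1 => by rw [← inf_relIndex_right, hfree y hy hy1]
  -- the involutions
  obtain ⟨n, hn2⟩ := card_omega P hab
  let T : Finset G := Finset.univ.filter fun x => x ∈ (P : Subgroup G) ∧ x * x = 1 ∧ x ≠ 1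
  have hTc : T.card + 1 = 2 ^ n := by
    rw [← hn2, ← Nat.card_congr (show {x : G // x ∈ insert (1 : G) T} ≃
      {x : (P : Subgroup G) // x * x = 1} from ?_), Nat.card_eq_fintype_card, Fintype.card_coe,
      Finset.card_insert_of_notMem (by simp [T])]
    refine
      { toFun := fun x => ⟨⟨x, ?_⟩, Subtype.ext ?_⟩
        invFun := fun x => ⟨x.1, ?_⟩
        left_inv := fun _ => rfl
        right_inv := fun _ => rfl }
    · rcases Finset.mem_insert.1 x.2 with h | h
      · rw [h]; exact one_mem _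
      · exact (Finset.mem_filter.1 h).2.1
    · rcases Finset.mem_insert.1 x.2 with h | h
      · simp [h]
      · exact (Finset.mem_filter.1 h).2.2.1
    · rw [Finset.mem_insert]
      by_cases h : (x.1 : G) = 1
      · exact Or.inl h
      · exact Or.inr (Finset.mem_filter.2 ⟨Finset.mem_univ _, x.1.2, congrArg Subtype.val x.2, h⟩)
  have hT : ∀ g ∈ (NP P), ∀ y ∈ T, g * y * g⁻¹ ∈ T := by
    intro g hg y hy
    obtain ⟨-, hyP, hy2, hy1⟩ := Finset.mem_filter.1 hy
    refine Finset.mem_filter.2 ⟨Finset.mem_univ _, (mem_normalizer_iff.1 hg y).1 hyP, ?_, ?_⟩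
    · calc g * y * g⁻¹ * (g * y * g⁻¹) = g * (y * y) * g⁻¹ := by group
        _ = 1 := by rw [hy2, mul_one, mul_inv_cancel]
    · exact fun h => hy1 (by simpa using conj_eq_one_iff.1 h)
  have hdvd : e ∣ T.card := he ▸ dvd_card_of_free P T hT fun y hy =>
    hrel y (Finset.mem_filter.1 hy).2.1 (Finset.mem_filter.1 hy).2.2.2
  -- a single orbit on the involutions forces the cardinality
  have horb : ∀ s ∈ T, (∀ t ∈ T, ∃ g ∈ (NP P), g * s * g⁻¹ = t) → T.card = e := by
    intro s hs htr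
    rw [← he, ← hrel s (Finset.mem_filter.1 hs).2.1 (Finset.mem_filter.1 hs).2.2.2, ← card_orbit P s,
      Nat.subtype_card T fun z => ⟨fun hz => htr z hz, fun ⟨g, hg, hz⟩ => hz ▸ hT g hg s hs⟩]
  have hP8 : 2 ≤ Nat.card (P : Subgroup G) := by
    by_contra h
    have : (P : Subgroup G) = ⊥ := Subgroup.card_eq_one.1 (by
      have := Nat.card_pos (α := (P : Subgroup G)); omega)
    exact hn (this ▸ inferInstance)
  -- the number of involutions
  have hn0 : 2 ≤ n := by
    rcases hspec with hp | ⟨hel, he1, he8⟩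
    · have hpos : 0 < T.card := by
        obtain ⟨x, hx⟩ := exists_prime_orderOf_dvd_card' (G := (P : Subgroup G)) 2 (by
          obtain ⟨k, hk⟩ := P.isPGroup'.exists_card_eq
          rcases k with _ | k
          · rw [pow_zero] at hk; omega
          · exact hk ▸ Dvd.intro_left _ (pow_succ 2 k).symm)
        refine Finset.card_pos.2 ⟨x, Finset.mem_filter.2 ⟨Finset.mem_univ _, x.2, ?_, fun h => ?_⟩⟩
        · have h1 := pow_orderOf_eq_one x
          rw [hx, sq] at h1
          exact congrArg Subtype.val h1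
        · rw [show x = 1 from Subtype.ext h, orderOf_one] at hx
          omega
      have := Nat.le_of_dvd hpos hdvd
      have := hp.two_le
      by_contra h
      have : 2 ^ n ≤ 2 ^ 1 := Nat.pow_le_pow_right two_pos (by omega)
      omega
    · have : 2 ^ n = Nat.card (P : Subgroup G) := by
        rw [← hn2]
        exact Nat.card_congr (Equiv.subtypeUnivEquiv fun x => Subtype.ext (hel x x.2))
      by_contra h
      have : 2 ^ n ≤ 2 ^ 1 := Nat.pow_le_pow_right two_pos (by omega)
      omega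
  have hconjN : ∀ s ∈ T, ∀ t ∈ T, IsConj s t → ∃ g ∈ (NP P), g * s * g⁻¹ = t := by
    intro s hs t ht hst
    obtain ⟨c, hc⟩ := isConj_iff.1 hst
    haveI : IsMulCommutative P := hab
    obtain ⟨m, hm, hme⟩ := P.conj_eq_normalizer_conj_of_mem s c⁻¹ (Finset.mem_filter.1 hs).2.1
      (by rw [inv_inv, hc]; exact (Finset.mem_filter.1 ht).2.1)
    rw [inv_inv, hc] at hme
    exact ⟨m⁻¹, inv_mem hm, by rw [inv_inv, hme]⟩
  rcases Nat.lt_or_ge n 3 with hlt | hge
  · obtain rfl : n = 2 := by omega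
    have h3 : T.card = 3 := by omega
    rw [h3] at hdvd
    have he3 : e = 3 := by
      rcases hspec with hp | ⟨-, -, he8⟩
      · exact ((Nat.dvd_prime Nat.prime_three).1 hdvd).resolve_left hp.one_lt.ne'
      · have := Nat.le_of_dvd (by omega) hdvd; omega
    obtain ⟨h4, hl⟩ := rank_two hM hcore P hab hn hn2 fun s hs hs1 hs2 t ht ht1 ht2 => by
      have hsT : s ∈ T := Finset.mem_filter.2 ⟨Finset.mem_univ _, hs, hs2, hs1⟩
      have htT : t ∈ T := Finset.mem_filter.2 ⟨Finset.mem_univ _, ht, ht2, ht1⟩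
      have hsub : (Finset.univ.filter fun z => ∃ g ∈ (NP P), g * s * g⁻¹ = z) ⊆ T := fun z hz => by
        obtain ⟨g, hg, rfl⟩ := (Finset.mem_filter.1 hz).2
        exact hT g hg s hsT
      have heq := Finset.eq_of_subset_of_card_le hsub (by
        rw [h3, ← he3, ← he, ← hrel s hs hs1, ← card_orbit P s,
          Nat.subtype_card (Finset.univ.filter fun z => ∃ g ∈ (NP P), g * s * g⁻¹ = z) (by simp)])
      rw [← heq] at htT
      exact (Finset.mem_filter.1 htT).2
    exact ⟨hl.trans he3.symm, fun _ => by omega⟩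
  -- rank at least three
  have h8 : 8 ≤ Nat.card {x : (P : Subgroup G) // x * x = 1} :=
    hn2 ▸ le_trans (by norm_num) (Nat.pow_le_pow_right two_pos hge)
  obtain ⟨H₀, hH₀, hPH⟩ := exists_strongly_embedded hcore P hab h8 hn hcn
  have hone : ∀ a b : G, orderOf a = 2 → orderOf b = 2 → IsConj a b :=
    fun a b => CfsgLib.Invol.se_isConj hH₀
  have hTo : ∀ s ∈ T, orderOf s = 2 := fun s hs =>
    orderOf_eq_prime (by rw [sq]; exact (Finset.mem_filter.1 hs).2.2.1) (Finset.mem_filter.1 hs).2.2.2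
  have htr : ∀ s ∈ T, ∀ t ∈ T, ∃ g ∈ (NP P), g * s * g⁻¹ = t := fun s hs t ht =>
    hconjN s hs t ht (hone s t (hTo s hs) (hTo t ht))
  have h8' : 8 ≤ 2 ^ n := le_trans (by norm_num) (Nat.pow_le_pow_right two_pos hge)
  obtain ⟨s₀, hs₀⟩ := Finset.card_pos.1 (show 0 < T.card by omega)
  have hTe : T.card = e := horb s₀ hs₀ (htr s₀ hs₀)
  have hel : ∀ x ∈ (P : Subgroup G), x * x = 1 := by
    rcases hspec with hp | h
    · refine elementary_of_oneClass hM P hab e he hcyc hfree (by omega) (by omega) hone hcore ?_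
      intro N hN hN2
      by_contra hne
      obtain ⟨Q, hQ⟩ := hN2.exists_le_sylow
      have hNall : ∀ S : Sylow 2 G, N ≤ (S : Subgroup G) := by
        intro S
        obtain ⟨g, rfl⟩ := MulAction.exists_smul_eq G Q S
        intro x hx
        have : (MulAut.conj g)⁻¹ • x ∈ N := by
          simpa [MulAut.smul_def] using hN.conj_mem x hx g⁻¹
        exact Subgroup.mem_pointwise_smul_iff_inv_smul_mem.2 (hQ this)
      obtain ⟨k, hk⟩ := hN2.exists_card_eq
      obtain ⟨x, hx⟩ := exists_prime_orderOf_dvd_card' (G := N) 2 (by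
        rcases k with _ | k
        · exact absurd (Subgroup.card_eq_one.1 hk) hne
        · exact hk ▸ Dvd.intro_left _ (pow_succ 2 k).symm)
      obtain ⟨u, huH, hu⟩ := CfsgLib.Invol.se_exists_invol_notMem hH₀
      obtain ⟨c, hc⟩ := isConj_iff.1 (hone x u (by rw [orderOf_coe, hx]) hu)
      exact huH (hPH (hNall P (hc ▸ hN.conj_mem x x.2 c)))
    · exact h.1
  have hcard : Nat.card (P : Subgroup G) = 2 ^ n := by
    rw [← hn2]
    exact (Nat.card_congr (Equiv.subtypeUnivEquiv fun (x : (P : Subgroup G)) => Subtype.ext (hel x x.2))).symm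
  obtain ⟨g₀, hg₀, hgen⟩ := hcyc
  obtain ⟨W, H, w, S⟩ := exists_setup hcore P n hge hcard hel hn g₀ hg₀ hgen hcn
    (fun s hs hs1 t ht ht1 => htr s (Finset.mem_filter.2 ⟨Finset.mem_univ _, hs, hel s hs, hs1⟩) t
      (Finset.mem_filter.2 ⟨Finset.mem_univ _, ht, hel t ht, ht1⟩)) (by omega)
  have hk := card_principal_setup hM S
  have hf := card_principal_formula hM P hab ⊥ bot_le bot_le e he
    fun y hy hy1 => hfree y hy fun h => hy1 (h ▸ one_mem _)
  rw [hk, Subgroup.card_bot, one_mul, hcard] at hf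
  have heq : e * blockRank 2 (principalBlock M G) = e * e := by
    have h2n : 2 ^ n = e + 1 := by omega
    rw [h2n, mul_add, mul_one] at hf
    omega
  exact ⟨Nat.eq_of_mul_eq_mul_left (by omega) heq, fun _ => by omega⟩

/-- The fixed points of the normalizer in the Sylow subgroup. -/
abbrev fixedPart (P : Sylow 2 G) : Subgroup G := (P : Subgroup G) ⊓ centralizer ((NP P) : Set G)

/-- The invariants when there is no odd normal subgroup. -/
theorem invariants_core {M : Ideal AlgInt} (hM : IsPModular 2 M) (hcore : NoOddNormal G) (P : Sylow 2 G)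
    (hab : IsMulCommutative (P : Subgroup G)) (e : ℕ) (he : (CP P).relIndex (NP P) = e) (he1 : 1 < e)
    (hfree : ∀ y ∈ (P : Subgroup G), y ∉ fixedPart P → cz y ⊓ (NP P) = (CP P))
    (hcyc : ∃ g ∈ (NP P), (CP P) ⊔ zpowers g = (NP P))
    (hspec : e.Prime ∨ ((∀ x ∈ (P : Subgroup G), x * x = 1) ∧ e + 1 = Nat.card (P : Subgroup G) ∧
      8 ≤ e + 1)) :
    blockRank 2 (principalBlock M G) = e ∧ ∃ z r : ℕ, Nat.card (P : Subgroup G) = z * r ∧
      e * Nat.card (principalBlock M G) + z = e * (z * e) + z * r ∧ e ∣ r - 1 ∧ 1 < r ∧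
      (¬ Group.IsSolvable G → r = e + 1) := by
  classical
  have := Fintype.ofFinite G
  have h2 : Fact (Nat.Prime 2) := ⟨Nat.prime_two⟩
  set Z := fixedPart P with hZdef
  have hZP : Z ≤ (P : Subgroup G) := inf_le_left
  have hZc : Z ≤ center G := fun z hz =>
    central_of_fixed hcore P hab hz.1 fun g hg => (hz.2 g hg).symm
  haveI hZn : Z.Normal := ⟨fun z hz g => by
    rw [mem_center_iff.1 (hZc hz) g, mul_inv_cancel_right]; exact hz⟩
  have hsupZ : Z ⊔ centralizer (Z : Set G) = ⊤ :=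
    top_le_iff.1 fun g _ => mem_sup_right fun z hz => (mem_center_iff.1 (hZc hz) g).symm
  have hl := Cfsg.Agent.S4571.result 2 M hM Z (P.isPGroup'.to_le hZP) hsupZ
  set π := QuotientGroup.mk' Z with hπ
  have hπs : Function.Surjective π := QuotientGroup.mk'_surjective Z
  have hker : ∀ a b : G, π a = π b ↔ a⁻¹ * b ∈ Z := fun a b => QuotientGroup.eq
  have hmod : ∀ g ∈ (NP P), ∀ x ∈ (P : Subgroup G), π (g * x) = π (x * g) → Commute g x := by
    intro g hg x hx h
    have h1 : x⁻¹ * (g * x * g⁻¹) ∈ Z := by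
      rw [eq_comm, hker] at h
      have := hZn.conj_mem _ h g
      convert this using 1
      group
    exact commute_of_mod P hab hg hx (hZP h1) (h1.2 g hg) (by group)
  let P₂ : Sylow 2 (G ⧸ Z) := P.mapSurjective hπs
  have hP₂ : (P₂ : Subgroup (G ⧸ Z)) = (P : Subgroup G).map π := P.coe_mapSurjective hπs
  have hab₂ : IsMulCommutative (P₂ : Subgroup (G ⧸ Z)) := ⟨⟨fun a b => Subtype.ext (by
    obtain ⟨a', ha', hae⟩ := (hP₂ ▸ a.2 : (a : G ⧸ Z) ∈ (P : Subgroup G).map π)
    obtain ⟨b', hb', hbe⟩ := (hP₂ ▸ b.2 : (b : G ⧸ Z) ∈ (P : Subgroup G).map π)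
    show (a : G ⧸ Z) * b = b * a
    rw [← hae, ← hbe, ← map_mul, ← map_mul, le_centralizer_self P hab hb' a' ha'])⟩⟩
  have he₂ : (CP P₂).relIndex (NP P₂) = e := by
    rw [hP₂, relIndex_map π hπs P fun g hg h x hx => (hmod g hg x hx (h x hx)).eq.symm, he]
  have hN₂ : (NP P₂) = (NP P).map π := by rw [hP₂, normalizer_map_sylow π hπs P]
  have hfree₂ : ∀ y ∈ (P₂ : Subgroup (G ⧸ Z)), y ≠ 1 → cz y ⊓ (NP P₂) = (CP P₂) := by
    intro y hy hy1
    refine le_antisymm ?_ (le_inf (centralizer_le (Set.singleton_subset_iff.2 hy))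
      (centralizer_le_normalizer _))
    rw [hP₂] at hy
    obtain ⟨y', hy', rfl⟩ := hy
    have hy'Z : y' ∉ Z := fun h => hy1 ((QuotientGroup.eq_one_iff y').2 h)
    rintro g ⟨hgy, hgN⟩
    rw [hN₂] at hgN
    obtain ⟨g', hg', rfl⟩ := hgN
    have hc : Commute g' y' := hmod g' hg' y' hy' (by
      rw [map_mul, map_mul]; exact mem_centralizer_singleton_iff.1 hgy)
    have hg'C : g' ∈ (CP P) :=
      hfree y' hy' hy'Z ▸ ⟨mem_centralizer_singleton_iff.2 hc.eq, hg'⟩
    intro x hx
    rw [hP₂] at hx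
    obtain ⟨x', hx', rfl⟩ := hx
    rw [← map_mul, ← map_mul, hg'C x' hx']
  have hcyc₂ : ∃ g ∈ (NP P₂), (CP P₂) ⊔ zpowers g = (NP P₂) := by
    obtain ⟨g, hg, hgen⟩ := hcyc
    refine ⟨π g, hN₂ ▸ mem_map_of_mem π hg, le_antisymm (sup_le (centralizer_le_normalizer _)
      (zpowers_le.2 (hN₂ ▸ mem_map_of_mem π hg))) ?_⟩
    rw [hN₂, ← hgen, Subgroup.map_sup, MonoidHom.map_zpowers]
    refine sup_le_sup_right ?_ _
    rintro _ ⟨c, hc, rfl⟩ x hx
    rw [hP₂] at hx
    obtain ⟨x', hx', rfl⟩ := hx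
    rw [← map_mul, ← map_mul, hc x' hx']
  have hcore₂ : NoOddNormal (G ⧸ Z) := by
    intro K hK hKodd
    set L := K.comap π
    haveI hLn : L.Normal := hK.comap π
    have hZL : Z ≤ L := fun z hz => by
      show π z ∈ K
      rw [show π z = 1 from (QuotientGroup.eq_one_iff z).2 hz]
      exact one_mem K
    let φ := π.subgroupComap K
    have hsurj : Function.Surjective φ :=
      MonoidHom.subgroupComap_surjective_of_surjective π K hπs
    have hker' : φ.ker = Z.subgroupOf L := by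
      ext x
      rw [MonoidHom.mem_ker, mem_subgroupOf, Subtype.ext_iff]
      exact QuotientGroup.eq_one_iff (x : G)
    have hidx : φ.ker.index = Nat.card K := by
      rw [Subgroup.index_ker, MonoidHom.range_eq_top.2 hsurj, Subgroup.card_top]
    obtain ⟨k, hk⟩ := (P.isPGroup'.to_le hZP).exists_card_eq
    have hkc : Nat.card φ.ker = 2 ^ k := by
      rw [hker', Nat.card_congr (subgroupOfEquivOfLe hZL).toEquiv]; exact hk
    obtain ⟨S, hS⟩ := Subgroup.exists_right_complement'_of_coprime (N := φ.ker)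
      (by rw [hkc, hidx]; exact Nat.Coprime.pow_left k hKodd.coprime_two_left)
    have hSn : S.Normal := by
      refine ⟨fun s hs l => ?_⟩
      obtain ⟨⟨a, b⟩, hab' : (a : L) * b = l, -⟩ := hS.existsUnique l
      have hac : ∀ y : L, Commute (a : L) y := fun y => Subtype.ext
        (mem_center_iff.1 (hZc (mem_subgroupOf.1 (hker' ▸ a.2))) y).symm
      rw [← hab', mul_inv_rev]
      have : (a : L) * b * s * ((b : L)⁻¹ * (a : L)⁻¹) = (b : L) * s * (b : L)⁻¹ := by
        calc (a : L) * b * s * ((b : L)⁻¹ * (a : L)⁻¹)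
            = ((a : L) * ((b : L) * s * (b : L)⁻¹)) * (a : L)⁻¹ := by group
          _ = _ := by rw [(hac _).eq, mul_inv_cancel_right]
      rw [this]
      exact mul_mem (mul_mem b.2 hs) (inv_mem b.2)
    have hScard : Nat.card S = Nat.card K := by rw [← hidx, hS.symm.index_eq_card]
    have hreg : ∀ y : L, y ^ Nat.card K = 1 → y ∈ S := by
      intro y hy
      haveI := hSn
      refine (QuotientGroup.eq_one_iff y).1 (orderOf_eq_one_iff.1 ?_)
      have hd1 : orderOf (y : L ⧸ S) ∣ Nat.card K :=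
        orderOf_dvd_of_pow_eq_one (by rw [← QuotientGroup.mk_pow, hy, QuotientGroup.mk_one])
      have hd2 : orderOf (y : L ⧸ S) ∣ 2 ^ k := by
        have := orderOf_dvd_natCard (y : L ⧸ S)
        rwa [← Subgroup.index_eq_card, hS.index_eq_card, hkc] at this
      exact Nat.eq_one_of_dvd_coprimes (Nat.Coprime.pow_right k hKodd.coprime_two_left.symm) hd1 hd2
    have hSG : (S.map L.subtype).Normal := by
      refine ⟨?_⟩
      rintro _ ⟨s, hs, rfl⟩ g
      refine ⟨⟨g * s * g⁻¹, hLn.conj_mem _ s.2 g⟩, hreg _ (Subtype.ext ?_), rfl⟩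
      have hs1 : s ^ Nat.card K = 1 := by
        rw [← hScard]
        exact congrArg Subtype.val (pow_card_eq_one' (x := (⟨s, hs⟩ : S)))
      have := congrArg Subtype.val hs1
      rw [SubmonoidClass.coe_pow, OneMemClass.coe_one] at this
      rw [SubmonoidClass.coe_pow, conj_pow, this, mul_one, mul_inv_cancel, OneMemClass.coe_one]
    have hSbot := hcore _ hSG (by
      rw [Subgroup.card_map_of_injective L.subtype_injective, hScard]; exact hKodd)
    rw [Subgroup.map_eq_bot_iff_of_injective _ L.subtype_injective] at hSbot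
    rw [← Subgroup.card_eq_one, ← hScard, hSbot, Subgroup.card_bot]
  have hrc : Nat.card (P : Subgroup G) = Nat.card Z * Nat.card (P₂ : Subgroup (G ⧸ Z)) := by
    have hkerφ : (π.subgroupMap (P : Subgroup G)).ker = Z.subgroupOf (P : Subgroup G) := by
      ext x
      rw [MonoidHom.mem_ker, mem_subgroupOf, Subtype.ext_iff]
      exact QuotientGroup.eq_one_iff (x : G)
    have h1 := (π.subgroupMap (P : Subgroup G)).ker.card_mul_index
    rw [Subgroup.index_ker, MonoidHom.range_eq_top.2 (π.subgroupMap_surjective _), Subgroup.card_top,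
      hkerφ, Nat.card_congr (subgroupOfEquivOfLe hZP).toEquiv] at h1
    rw [← h1, hP₂]
  have hform := card_principal_formula hM P hab Z hZP hZc e he hfree
  -- the quotient is not trivial
  have hr1 : 1 < Nat.card (P₂ : Subgroup (G ⧸ Z)) := by
    by_contra h
    have hbot : (P₂ : Subgroup (G ⧸ Z)) = ⊥ := Subgroup.card_eq_one.1 (by
      have := Nat.card_pos (α := (P₂ : Subgroup (G ⧸ Z))); omega)
    have : (CP P₂).relIndex (NP P₂) = 1 := relIndex_eq_one.2 fun g _ x hx => by
      rw [hbot] at hx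
      rw [mem_bot.1 hx, one_mul, mul_one]
    omega
  have hdvd : e ∣ Nat.card (P₂ : Subgroup (G ⧸ Z)) - 1 := by
    have := Fintype.ofFinite (G ⧸ Z)
    let T : Finset (G ⧸ Z) := Finset.univ.filter fun x => x ∈ (P₂ : Subgroup (G ⧸ Z)) ∧ x ≠ 1
    have hTc : T.card + 1 = Nat.card (P₂ : Subgroup (G ⧸ Z)) := by
      have : (P₂ : Subgroup (G ⧸ Z)) = (P₂ : Subgroup (G ⧸ Z)) := rfl
      rw [Nat.subtype_card (insert 1 T) (fun x => by
        simp only [Finset.mem_insert, T, Finset.mem_filter, Finset.mem_univ, true_and]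
        constructor
        · rintro (rfl | h)
          · exact one_mem _
          · exact h.1
        · intro h
          by_cases hx : x = 1
          · exact Or.inl hx
          · exact Or.inr ⟨h, hx⟩), Finset.card_insert_of_notMem (by simp [T])]
    have := dvd_card_of_free P₂ T (fun g hg y hy => by
        obtain ⟨-, hyP, hy1⟩ := Finset.mem_filter.1 hy
        exact Finset.mem_filter.2 ⟨Finset.mem_univ _, (mem_normalizer_iff.1 hg y).1 hyP,
          fun h => hy1 (by simpa using conj_eq_one_iff.1 h)⟩)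
      fun y hy => by
        rw [← inf_relIndex_right, hfree₂ y (Finset.mem_filter.1 hy).2.1 (Finset.mem_filter.1 hy).2.2]
    rw [he₂] at this
    rwa [← hTc, Nat.add_sub_cancel]
  have hspec₂ : e.Prime ∨ ((∀ x ∈ (P₂ : Subgroup (G ⧸ Z)), x * x = 1) ∧
      e + 1 = Nat.card (P₂ : Subgroup (G ⧸ Z)) ∧ 8 ≤ e + 1) := by
    rcases hspec with hp | ⟨hel, hc, h8⟩
    · exact Or.inl hp
    · refine Or.inr ⟨fun x hx => ?_, ?_, h8⟩
      · rw [hP₂] at hx
        obtain ⟨x', hx', rfl⟩ := hx
        rw [← map_mul, hel x' hx', map_one]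
      · have hle : e + 1 ≤ Nat.card (P₂ : Subgroup (G ⧸ Z)) := by
          have := Nat.le_of_dvd (by omega) hdvd; omega
        have : Nat.card (P₂ : Subgroup (G ⧸ Z)) ≤ Nat.card (P : Subgroup G) :=
          hrc ▸ Nat.le_mul_of_pos_left _ Nat.card_pos
        omega
  obtain ⟨hlk, hnorm⟩ := key hM hcore₂ P₂ hab₂ e he₂ hfree₂ hcyc₂ hspec₂
  rw [hl, hlk] at hform
  refine ⟨hl.trans hlk, Nat.card Z, _, hrc, by rwa [← hrc], hdvd, hr1, fun hns => hnorm fun hn₂ => hns ?_⟩
  haveI := hn₂
  haveI : IsMulCommutative (P₂ : Subgroup (G ⧸ Z)) := hab₂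
  have hC₂ := centralizer_eq_of_normal hcore₂ P₂ hn₂ hab₂
  obtain ⟨g, -, hg⟩ := hcyc₂
  rw [hC₂, normalizer_eq_top_iff.2 hn₂] at hg
  haveI : Group.IsSolvable (G ⧸ Z) := by
    refine isSolvable_of_abelian_quotient (P₂ : Subgroup (G ⧸ Z)) fun a b => ?_
    induction a using QuotientGroup.induction_on with
    | H a =>
      induction b using QuotientGroup.induction_on with
      | H b =>
        obtain ⟨a1, ha1, a2, ⟨i, rfl⟩, rfl⟩ := mem_sup_of_normal_left.1 (hg ▸ mem_top a)
        obtain ⟨b1, hb1, b2, ⟨j, rfl⟩, rfl⟩ := mem_sup_of_normal_left.1 (hg ▸ mem_top b)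
        simp only [QuotientGroup.mk_mul, (QuotientGroup.eq_one_iff a1).2 ha1,
          (QuotientGroup.eq_one_iff b1).2 hb1, one_mul]
        rw [← QuotientGroup.mk_mul, ← QuotientGroup.mk_mul, ← zpow_add, ← zpow_add, add_comm]
  haveI : Group.IsSolvable Z := Group.isSolvable_of_comm fun a b =>
    Subtype.ext ((mem_center_iff.1 (hZc b.2) a))
  exact Group.isSolvable_of_ker_le_range Z.subtype π (by simp [hπ])

/-- **The invariants of the principal block.** -/
theorem invariants {M : Ideal AlgInt} (hM : IsPModular 2 M) (P : Sylow 2 G)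
    (hab : IsMulCommutative (P : Subgroup G)) (e : ℕ) (he : (CP P).relIndex (NP P) = e)
    (hspec : e.Prime ∨ ((∀ x ∈ (P : Subgroup G), x * x = 1) ∧ e + 1 = Nat.card (P : Subgroup G) ∧
      8 ≤ e + 1 ∧ (∀ y ∈ (P : Subgroup G), y ≠ 1 → cz y ⊓ (NP P) = (CP P)) ∧
      ∃ g ∈ (NP P), (CP P) ⊔ zpowers g = (NP P))) :
    blockRank 2 (principalBlock M G) = e ∧ ∃ z r : ℕ, Nat.card (P : Subgroup G) = z * r ∧
      e * Nat.card (principalBlock M G) + z = e * (z * e) + z * r ∧ e ∣ r - 1 ∧ 1 < r ∧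
      (¬ Group.IsSolvable G → r = e + 1) := by
  classical
  have := Fintype.ofFinite G
  have h2 : Fact (Nat.Prime 2) := ⟨Nat.prime_two⟩
  have he1 : 1 < e := by
    rcases hspec with hp | ⟨-, -, h8, -⟩
    · exact hp.one_lt
    · omega
  set K := pPrimeCore 2 G with hKdef
  haveI hKn : K.Normal := CfsgLib.Solvable.pPrimeCore_normal 2 G
  have hKodd : Odd (Nat.card K) := Nat.coprime_two_right.1 (CfsgLib.Solvable.pPrimeCore_coprime 2)
  obtain ⟨hl, hk⟩ := principal_quot_core hM K hKodd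
  set π := QuotientGroup.mk' K with hπ
  have hπs : Function.Surjective π := QuotientGroup.mk'_surjective K
  have htriv : ∀ a ∈ (P : Subgroup G), a ∈ K → a = 1 := by
    intro a ha hb
    obtain ⟨k, hk'⟩ := IsPGroup.iff_orderOf.1 P.isPGroup' ⟨a, ha⟩
    rw [orderOf_mk] at hk'
    refine orderOf_eq_one_iff.1 ?_
    exact Nat.eq_one_of_dvd_coprimes (Nat.Coprime.pow_left k hKodd.coprime_two_left)
      (hk' ▸ dvd_rfl) ((orderOf_mk a hb) ▸ orderOf_dvd_natCard (⟨a, hb⟩ : K))
  have hmod : ∀ g ∈ (NP P), ∀ x ∈ (P : Subgroup G), π (g * x) = π (x * g) → Commute g x := by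
    intro g hg x hx h
    have h1 : (g * x * g⁻¹) * x⁻¹ ∈ K := by
      rw [← QuotientGroup.eq_one_iff]
      have : π (g * x * g⁻¹ * x⁻¹) = π (g * x) * (π (x * g))⁻¹ := by
        rw [← map_inv, ← map_mul]; congr 1; group
      rw [h, mul_inv_cancel] at this
      exact this
    have h3 := mul_inv_eq_one.1 (htriv _ (mul_mem ((mem_normalizer_iff.1 hg x).1 hx) (inv_mem hx)) h1)
    exact mul_inv_eq_iff_eq_mul.1 h3
  let P₁ : Sylow 2 (G ⧸ K) := P.mapSurjective hπs
  have hP₁ : (P₁ : Subgroup (G ⧸ K)) = (P : Subgroup G).map π := P.coe_mapSurjective hπs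
  have hab₁ : IsMulCommutative (P₁ : Subgroup (G ⧸ K)) := ⟨⟨fun a b => Subtype.ext (by
    obtain ⟨a', ha', hae⟩ := (hP₁ ▸ a.2 : (a : G ⧸ K) ∈ (P : Subgroup G).map π)
    obtain ⟨b', hb', hbe⟩ := (hP₁ ▸ b.2 : (b : G ⧸ K) ∈ (P : Subgroup G).map π)
    show (a : G ⧸ K) * b = b * a
    rw [← hae, ← hbe, ← map_mul, ← map_mul, le_centralizer_self P hab hb' a' ha'])⟩⟩
  have he₁ : (CP P₁).relIndex (NP P₁) = e := by
    rw [hP₁, relIndex_map π hπs P fun g hg h x hx => (hmod g hg x hx (h x hx)).eq.symm, he]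
  have hcard : Nat.card (P₁ : Subgroup (G ⧸ K)) = Nat.card (P : Subgroup G) := by
    rw [hP₁]
    exact (Nat.card_congr (Equiv.ofBijective (π.subgroupMap (P : Subgroup G))
      ⟨fun a b h => Subtype.ext (inv_mul_eq_one.1 (htriv _ (mul_mem (inv_mem a.2) b.2)
        (QuotientGroup.eq.1 (congrArg Subtype.val h)))), π.subgroupMap_surjective _⟩)).symm
  have hcore₁ : NoOddNormal (G ⧸ K) := by
    intro L hL hLodd
    have hle : L ≤ pPrimeCore 2 (G ⧸ K) :=
      CfsgLib.Solvable.le_pPrimeCore hL (Nat.coprime_two_right.2 hLodd)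
    rwa [CfsgLib.Solvable.pPrimeCore_quotient_eq_bot 2, le_bot_iff] at hle
  -- transfer of the action
  have hNC : ∀ (g : G ⧸ K) (_ : g ∈ (NP P₁)), ∃ g' ∈ (NP P), π g' = g := fun g hg => by
    rw [hP₁, normalizer_map_sylow π hπs P] at hg
    exact hg
  have hCmap : ∀ g ∈ (CP P), π g ∈ (CP P₁) := by
    intro g hg x hx
    rw [hP₁] at hx
    obtain ⟨x', hx', rfl⟩ := hx
    rw [← map_mul, ← map_mul, hg x' hx']
  have hcyc : ∀ g ∈ (NP P), ((CP P) ⊔ zpowers g = (NP P)) →
      ∃ g₁ ∈ (NP P₁), (CP P₁) ⊔ zpowers g₁ = (NP P₁) := by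
    intro g hg hgen
    have hN₁ : (NP P₁) = (NP P).map π := by rw [hP₁, normalizer_map_sylow π hπs P]
    refine ⟨π g, hN₁ ▸ mem_map_of_mem π hg, le_antisymm (sup_le (centralizer_le_normalizer _)
      (zpowers_le.2 (hN₁ ▸ mem_map_of_mem π hg))) ?_⟩
    rw [hN₁, ← hgen, Subgroup.map_sup, MonoidHom.map_zpowers]
    exact sup_le_sup_right (map_le_iff_le_comap.2 hCmap) _
  have hmain : blockRank 2 (principalBlock M (G ⧸ K)) = e ∧ ∃ z r : ℕ,
      Nat.card (P₁ : Subgroup (G ⧸ K)) = z * r ∧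
      e * Nat.card (principalBlock M (G ⧸ K)) + z = e * (z * e) + z * r ∧ e ∣ r - 1 ∧ 1 < r ∧
      (¬ Group.IsSolvable (G ⧸ K) → r = e + 1) := by
    rcases hspec with hp | ⟨hel, hc, h8, hfree, g, hg, hgen⟩
    · obtain ⟨g, hg, hgC⟩ : ∃ g ∈ (NP P₁), g ∉ (CP P₁) := by
        by_contra h
        push Not at h
        have := relIndex_eq_one.2 (show (NP P₁) ≤ (CP P₁) from h)
        omega
      have hsplit : ∀ X : Subgroup (G ⧸ K), (CP P₁) ≤ X → X ≤ (NP P₁) →
          X = (CP P₁) ∨ X = (NP P₁) := by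
        intro X h1 h2
        have hm := relIndex_mul_relIndex (CP P₁) X (NP P₁) h1 h2
        rw [he₁] at hm
        rcases hp.eq_one_or_self_of_dvd _ (Dvd.intro _ hm) with h | h
        · exact Or.inl (le_antisymm (relIndex_eq_one.1 h) h1)
        · rw [h] at hm
          exact Or.inr (le_antisymm h2 (relIndex_eq_one.1 ((Nat.mul_eq_left hp.ne_zero).1 hm)))
      refine invariants_core hM hcore₁ P₁ hab₁ e he₁ he1 (fun y hy hyZ => ?_) ⟨g, hg, ?_⟩ (Or.inl hp)
      · rcases hsplit (cz y ⊓ (NP P₁)) (le_inf (centralizer_le (Set.singleton_subset_iff.2 hy))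
          (centralizer_le_normalizer _)) inf_le_right with h | h
        · exact h
        · exact absurd ⟨hy, fun a ha => mem_centralizer_singleton_iff.1
            (show a ∈ cz y from (h.symm ▸ ha : a ∈ cz y ⊓ (NP P₁)).1)⟩ hyZ
      · rcases hsplit _ (le_sup_left : (CP P₁) ≤ (CP P₁) ⊔ zpowers g)
          (sup_le (centralizer_le_normalizer _) (zpowers_le.2 hg)) with h | h
        · exact absurd (h ▸ mem_sup_right (mem_zpowers g)) hgC
        · exact h
    · refine invariants_core hM hcore₁ P₁ hab₁ e he₁ he1 (fun y hy hyZ => ?_) (hcyc g hg hgen)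
        (Or.inr ⟨fun x hx => ?_, hcard ▸ hc, h8⟩)
      · refine le_antisymm ?_ (le_inf (centralizer_le (Set.singleton_subset_iff.2 hy))
          (centralizer_le_normalizer _))
        rintro a ⟨hay, haN⟩
        obtain ⟨a', ha', rfl⟩ := hNC a haN
        rw [hP₁] at hy
        obtain ⟨y', hy', rfl⟩ := hy
        have hy1 : y' ≠ 1 := fun h => hyZ (by rw [h, map_one]; exact one_mem _)
        exact hCmap _ (hfree y' hy' hy1 ▸ ⟨mem_centralizer_singleton_iff.2
          (hmod a' ha' y' hy' (by rw [map_mul, map_mul]; exact mem_centralizer_singleton_iff.1 hay)).eq,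
          ha'⟩)
      · rw [hP₁] at hx
        obtain ⟨x', hx', rfl⟩ := hx
        rw [← map_mul, hel x' hx', map_one]
  rw [hl, hk, hcard] at hmain
  obtain ⟨h1, z, r, h2', h3, h4, h5, h6⟩ := hmain
  refine ⟨h1, z, r, h2', h3, h4, h5, fun hns => h6 fun hs => hns ?_⟩
  haveI : Group.IsSolvable K := Cfsg.Agent.S0205.result hKodd
  exact Group.isSolvable_of_ker_le_range K.subtype π (by simp [hπ])

end CfsgLib.BlockA.PrimeInertial
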