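import Cfsg.Agent.Lib.BlockA.PrimeInertial.General
import Cfsg.Agent.Lib.BlockA.PrimeInertial.Reduce
import Cfsg.Agent.Lib.BlockA.PrincipalNilp
import Mathlib.GroupTheory.SpecificGroups.Cyclic

/-!
An involution of an abelian Sylow two-subgroup whose centralizer is two-nilpotent bounds the
inertial index by the number of involutions.
-/

set_option autoImplicit false
set_option linter.unusedSectionVars false

namespace CfsgLib.BlockA.PrimeInertial

open Cfsg CfsgLib.BlockA Subgroup

universe u

variable {G : Type u} [Group G] [Finite G]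

/-- The inertial index is odd. -/
theorem odd_inertial (P : Sylow 2 G) (hab : IsMulCommutative (P : Subgroup G)) :
    Odd ((centralizer ((P : Subgroup G) : Set G)).relIndex
      (normalizer ((P : Subgroup G) : Set G))) := by
  rw [← Nat.not_even_iff_odd, even_iff_two_dvd]
  intro h
  have h1 : (centralizer ((P : Subgroup G) : Set G)).relIndex
      (normalizer ((P : Subgroup G) : Set G)) ∣
        (P : Subgroup G).relIndex (normalizer ((P : Subgroup G) : Set G)) :=
    relIndex_dvd_of_le_left _ (le_centralizer_self P hab)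
  exact P.not_dvd_index (h.trans (h1.trans (relIndex_dvd_index_of_le le_normalizer)))

/-- A semiregular involution `x` of `P`: the inertial index is less than the number of solutions of
`a * a = 1` in `P`, and in case of equality the normalizer is transitive on involutions. -/
theorem inertial_lt_invol (P : Sylow 2 G) {x : G} (hx : orderOf x = 2)
    (hxP : x ∈ (P : Subgroup G))
    (hfree : cz x ⊓ normalizer ((P : Subgroup G) : Set G) = centralizer ((P : Subgroup G) : Set G)) :
    (centralizer ((P : Subgroup G) : Set G)).relIndex (normalizer ((P : Subgroup G) : Set G)) + 1 ≤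
        Nat.card {a : (P : Subgroup G) // a * a = 1} ∧
      ((centralizer ((P : Subgroup G) : Set G)).relIndex (normalizer ((P : Subgroup G) : Set G)) + 1 =
          Nat.card {a : (P : Subgroup G) // a * a = 1} →
        ∀ y ∈ (P : Subgroup G), y ≠ 1 → y * y = 1 →
          ∃ g ∈ normalizer ((P : Subgroup G) : Set G), g * x * g⁻¹ = y) := by
  classical
  set N := normalizer ((P : Subgroup G) : Set G) with hN
  set C := centralizer ((P : Subgroup G) : Set G) with hC
  have hx1 : x ≠ 1 := by rintro rfl; simp at hx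
  have hxx : x * x = 1 := by rw [← sq, ← hx, pow_orderOf_eq_one]
  have hmem : ∀ n : N, (n : G) * x * (n : G)⁻¹ ∈ (P : Subgroup G) := fun n =>
    (mem_normalizer_iff.1 n.2 x).1 hxP
  have hsq : ∀ n : N, ((n : G) * x * (n : G)⁻¹) * ((n : G) * x * (n : G)⁻¹) = 1 := fun n => by
    rw [show ((n : G) * x * (n : G)⁻¹) * ((n : G) * x * (n : G)⁻¹) = (n : G) * (x * x) * (n : G)⁻¹
      by group, hxx]
    group
  let o : {a : (P : Subgroup G) // a * a = 1} := ⟨1, mul_one _⟩
  let f : N ⧸ C.subgroupOf N → {a : (P : Subgroup G) // a * a = 1} := fun q =>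
    ⟨⟨_, hmem q.out⟩, Subtype.ext (hsq q.out)⟩
  have hfinj : Function.Injective f := by
    intro q r h
    have h1 : ((q.out : N) : G) * x * ((q.out : N) : G)⁻¹ = ((r.out : N) : G) * x * ((r.out : N) : G)⁻¹ :=
      congrArg (fun a : {a : (P : Subgroup G) // a * a = 1} => ((a : (P : Subgroup G)) : G)) h
    rw [← q.out_eq, ← r.out_eq, QuotientGroup.eq, mem_subgroupOf]
    apply hfree.le
    refine mem_inf.2 ⟨?_, (q.out⁻¹ * r.out).2⟩
    rw [mem_centralizer_singleton_iff]
    simp only [coe_mul, InvMemClass.coe_inv]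
    calc ((q.out : N) : G)⁻¹ * (r.out : N) * x
        = ((q.out : N) : G)⁻¹ * (((r.out : N) : G) * x * ((r.out : N) : G)⁻¹) * (r.out : N) := by group
      _ = x * (((q.out : N) : G)⁻¹ * (r.out : N)) := by rw [← h1]; group
  have hf1 : ∀ q, f q ≠ o := fun q h => hx1 (by
    have h1 : ((q.out : N) : G) * x * ((q.out : N) : G)⁻¹ = 1 :=
      congrArg (fun a : {a : (P : Subgroup G) // a * a = 1} => ((a : (P : Subgroup G)) : G)) h
    calc x = ((q.out : N) : G)⁻¹ * (((q.out : N) : G) * x * ((q.out : N) : G)⁻¹) * (q.out : N) := by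
          group
      _ = 1 := by rw [h1]; group)
  let F : Option (N ⧸ C.subgroupOf N) → {a : (P : Subgroup G) // a * a = 1} := fun t => t.elim o f
  have hF : Function.Injective F := by
    rintro (_ | q) (_ | r) h
    · rfl
    · exact (hf1 r h.symm).elim
    · exact (hf1 q h).elim
    · exact congrArg some (hfinj h)
  have hcard : Nat.card (Option (N ⧸ C.subgroupOf N)) = C.relIndex N + 1 := Finite.card_option
  refine ⟨hcard ▸ Nat.card_le_card_of_injective F hF, fun he y hy hy1 hy2 => ?_⟩
  obtain ⟨t, ht⟩ :=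
    ((Nat.bijective_iff_injective_and_card F).2 ⟨hF, hcard.trans he⟩).2 ⟨⟨y, hy⟩, Subtype.ext hy2⟩
  cases t with
  | none =>
    exact (hy1 (congrArg (fun a : {a : (P : Subgroup G) // a * a = 1} =>
      ((a : (P : Subgroup G)) : G)) ht).symm).elim
  | some q =>
    exact ⟨_, q.out.2, congrArg (fun a : {a : (P : Subgroup G) // a * a = 1} =>
      ((a : (P : Subgroup G)) : G)) ht⟩

/-- `#{a ∈ P | a * a = 1}` divides `|P|`. -/
theorem invol_card_dvd (P : Sylow 2 G) (hab : IsMulCommutative (P : Subgroup G)) :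
    Nat.card {a : (P : Subgroup G) // a * a = 1} ∣ Nat.card (P : Subgroup G) := by
  let Ω : Subgroup (P : Subgroup G) :=
    { carrier := {a | a * a = 1}
      one_mem' := mul_one 1
      mul_mem' := fun {a b} (ha : a * a = 1) (hb : b * b = 1) => by
        show a * b * (a * b) = 1
        rw [mul_assoc, ← mul_assoc b, hab.is_comm.comm b a, mul_assoc a b b, hb, mul_one, ha]
      inv_mem' := fun {a} (ha : a * a = 1) => by
        show a⁻¹ * a⁻¹ = 1
        rw [← mul_inv_rev, ha, inv_one] }
  exact Subgroup.card_subgroup_dvd_card Ω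

/-- If all of `P` squares to one the count is `|P|`, and conversely. -/
theorem elem_of_invol_card (P : Sylow 2 G)
    (h : Nat.card {a : (P : Subgroup G) // a * a = 1} = Nat.card (P : Subgroup G)) :
    ∀ a : (P : Subgroup G), a * a = 1 := by
  intro a
  have hb := (Nat.bijective_iff_injective_and_card
    (Subtype.val : {a : (P : Subgroup G) // a * a = 1} → (P : Subgroup G))).2
      ⟨Subtype.val_injective, h⟩
  obtain ⟨b, rfl⟩ := hb.2 a
  exact b.2

theorem cube_eq_one_zmod_five : ∀ t : ZMod 5, t ^ 3 = 1 → t = 1 := by decide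

/-- A group of order fifteen has an element of order fifteen. -/
theorem exists_orderOf_fifteen (Q : Type u) [Group Q] [Finite Q] (h : Nat.card Q = 15) :
    ∃ g : Q, orderOf g = 15 := by
  have : Fact (Nat.Prime 5) := ⟨Nat.prime_five⟩
  have : Fact (Nat.Prime 3) := ⟨Nat.prime_three⟩
  obtain ⟨a, ha⟩ := exists_prime_orderOf_dvd_card' (G := Q) 3 (by rw [h]; norm_num)
  obtain ⟨b, hb⟩ := exists_prime_orderOf_dvd_card' (G := Q) 5 (by rw [h]; norm_num)
  have hidx : (zpowers b).index = 3 := by
    have := (zpowers b).card_mul_index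
    rw [Nat.card_zpowers, hb, h] at this
    omega
  have hn : (zpowers b).Normal := normal_of_index_eq_minFac_card (by
    rw [hidx, h]
    norm_num)
  obtain ⟨i, hi⟩ := mem_zpowers_iff.1 (hn.conj_mem b (mem_zpowers b) a)
  have key : ∀ j : ℕ, a ^ j * b * (a ^ j)⁻¹ = b ^ (i ^ j) := by
    intro j
    induction j with
    | zero => simp
    | succ j ih =>
      rw [pow_succ', mul_inv_rev,
        show a * a ^ j * b * ((a ^ j)⁻¹ * a⁻¹) = a * (a ^ j * b * (a ^ j)⁻¹) * a⁻¹ by group, ih,
        pow_succ', zpow_mul, hi, conj_zpow]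
  have h3 := key 3
  rw [← ha, pow_orderOf_eq_one, ha, one_mul, inv_one, mul_one] at h3
  have h5 : ((i ^ 3 : ℤ) : ZMod 5) = 1 := by
    have hd : (orderOf b : ℤ) ∣ 1 - i ^ 3 := by
      rw [orderOf_dvd_iff_zpow_eq_one, zpow_sub, zpow_one, ← h3, mul_inv_cancel]
    rw [hb] at hd
    have h0 := (ZMod.intCast_zmod_eq_zero_iff_dvd _ 5).2 hd
    push_cast at h0 ⊢
    exact (sub_eq_zero.1 h0).symm
  have hi1 : ((i : ℤ) : ZMod 5) = 1 := by
    push_cast at h5
    exact cube_eq_one_zmod_five _ h5
  have hcomm : Commute a b := by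
    have hd : (orderOf b : ℤ) ∣ i - 1 := by
      rw [hb]
      refine (ZMod.intCast_zmod_eq_zero_iff_dvd _ 5).1 ?_
      push_cast
      rw [hi1, sub_self]
    have hbb : b ^ i = b := by
      rw [orderOf_dvd_iff_zpow_eq_one, zpow_sub, zpow_one, mul_inv_eq_one] at hd
      exact hd
    rw [hbb] at hi
    exact mul_inv_eq_iff_eq_mul.1 hi.symm
  exact ⟨a * b, by rw [hcomm.orderOf_mul_eq_mul_orderOf_of_coprime (by rw [ha, hb]; norm_num), ha, hb]⟩

/-- An inertial quotient of order fifteen is generated by one element. -/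
theorem exists_gen_fifteen (P : Sylow 2 G)
    (he : (centralizer ((P : Subgroup G) : Set G)).relIndex
      (normalizer ((P : Subgroup G) : Set G)) = 15) :
    ∃ g ∈ normalizer ((P : Subgroup G) : Set G), centralizer ((P : Subgroup G) : Set G) ⊔ zpowers g =
      normalizer ((P : Subgroup G) : Set G) := by
  set N := normalizer ((P : Subgroup G) : Set G) with hN
  set C := centralizer ((P : Subgroup G) : Set G) with hC
  have hn : (C.subgroupOf N).Normal := by
    refine ⟨fun c hc n => ?_⟩
    rw [mem_subgroupOf] at hc ⊢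
    intro y hy
    have h1 := (mem_normalizer_iff.1 (inv_mem n.2) y).1 hy
    rw [inv_inv] at h1
    have h2 := hc _ h1
    simp only [coe_mul, InvMemClass.coe_inv]
    calc y * ((n : G) * c * (n : G)⁻¹) = (n : G) * (((n : G)⁻¹ * y * n) * c) * (n : G)⁻¹ := by group
      _ = (n : G) * ((c : G) * ((n : G)⁻¹ * y * n)) * (n : G)⁻¹ := by rw [h2]
      _ = (n : G) * c * (n : G)⁻¹ * y := by group
  obtain ⟨q, hq⟩ := exists_orderOf_fifteen (N ⧸ C.subgroupOf N) he
  obtain ⟨n, rfl⟩ := QuotientGroup.mk_surjective q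
  refine ⟨n, n.2, le_antisymm (sup_le (centralizer_le_normalizer _)
    (zpowers_le.2 n.2)) fun m hm => ?_⟩
  have hcard : Nat.card (zpowers (QuotientGroup.mk n : N ⧸ C.subgroupOf N)) =
      Nat.card (N ⧸ C.subgroupOf N) := by rw [Nat.card_zpowers, hq]; exact he.symm
  have hmem : (QuotientGroup.mk (⟨m, hm⟩ : N) : N ⧸ C.subgroupOf N) ∈
      zpowers (QuotientGroup.mk n : N ⧸ C.subgroupOf N) := by
    rw [eq_top_of_card_eq _ hcard]
    exact mem_top _
  obtain ⟨i, hi⟩ := mem_zpowers_iff.1 hmem
  rw [← QuotientGroup.mk_zpow, QuotientGroup.eq, mem_subgroupOf] at hi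
  simp only [coe_mul, InvMemClass.coe_inv, SubgroupClass.coe_zpow] at hi
  have : m = (n : G) ^ i * (((n : G) ^ i)⁻¹ * m) := by group
  rw [this]
  exact mul_mem (zpow_mem (mem_sup_right (mem_zpowers _)) i) (mem_sup_left hi)

/-- With trivial inertial quotient the principal block has `|P|` characters. -/
theorem card_principal_of_one {M : Ideal AlgInt} (hM : IsPModular 2 M) (P : Sylow 2 G)
    (hab : IsMulCommutative (P : Subgroup G))
    (he : (centralizer ((P : Subgroup G) : Set G)).relIndex
      (normalizer ((P : Subgroup G) : Set G)) = 1) :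
    Nat.card (principalBlock M G) = Nat.card (P : Subgroup G) := by
  classical
  have := hM.2.1.isPrime
  have : Fact (Nat.Prime 2) := ⟨Nat.prime_two⟩
  have hle := relIndex_eq_one.1 he
  have hl : blockRank 2 (principalBlock M G) = 1 := blockRank_principal_of_complement hM
    (CfsgLib.Transfer.hasNormalPComplement_of_normalizer_le_centralizer P hle)
  have h := card_principal_formula hM P hab ⊥ bot_le bot_le 1 he fun y hy _ =>
    le_antisymm (inf_le_right.trans hle)
      (le_inf (centralizer_le (Set.singleton_subset_iff.2 hy)) (centralizer_le_normalizer _))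
  rw [hl, Subgroup.card_bot] at h
  omega

/-- The arithmetic of the possible invariants. -/
theorem count_eight_sixteen {e k z r c : ℕ} (he : 1 < e) (hodd : Odd e)
    (h1 : c = z * r) (h2 : e * k + z = e * (z * e) + z * r) (h3 : e ∣ r - 1) (h4 : 1 < r) :
    (c = 8 → k = 8) ∧ (c = 16 → k = 8 ∨ k = 16) := by
  have key : ∀ m : ℕ, m ≤ 4 → c = 2 ^ m → (m = 3 → k = 8) ∧ (m = 4 → k = 8 ∨ k = 16) := by
    intro m hm hc
    have hr : r ∣ 2 ^ m := ⟨z, by rw [← hc, h1, Nat.mul_comm]⟩
    obtain ⟨j, hj, rfl⟩ := (Nat.dvd_prime_pow Nat.prime_two).1 hr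
    have hz : z = 2 ^ (m - j) := by
      have h5 : 2 ^ (m - j) * 2 ^ j = z * 2 ^ j := by
        rw [← pow_add, Nat.sub_add_cancel hj, ← hc, h1]
      exact (Nat.eq_of_mul_eq_mul_right (Nat.two_pow_pos j) h5).symm
    subst hz
    have hj4 : j ≤ 4 := hj.trans hm
    have hb : e ≤ 2 ^ j - 1 := Nat.le_of_dvd (by omega) h3
    have he15 : e ≤ 15 := hb.trans (by
      have : 2 ^ j ≤ 2 ^ 4 := Nat.pow_le_pow_right (by norm_num) hj4
      omega)
    obtain ⟨t, rfl⟩ := hodd
    have ht : t ≤ 7 := by omega
    constructor <;>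
    · intro h
      subst h
      interval_cases j <;> interval_cases t <;> norm_num at * <;> omega
  exact ⟨fun hc => (key 3 (by norm_num) hc).1 rfl, fun hc => (key 4 le_rfl hc).2 rfl⟩

/-- The block count of S4570 from the invariants of an inertial index that is prime, or maximal
and regular, together with the value at index nine. -/
theorem count_of_rank_one {M : Ideal AlgInt} (hM : IsPModular 2 M)
    (hinv : ∀ (P : Sylow 2 G), IsMulCommutative (P : Subgroup G) → ∀ e : ℕ,
      (centralizer ((P : Subgroup G) : Set G)).relIndex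
        (normalizer ((P : Subgroup G) : Set G)) = e →
      (e.Prime ∨ ((∀ a ∈ (P : Subgroup G), a * a = 1) ∧ e + 1 = Nat.card (P : Subgroup G) ∧
        8 ≤ e + 1 ∧
        (∀ y ∈ (P : Subgroup G), y ≠ 1 → cz y ⊓ normalizer ((P : Subgroup G) : Set G) =
          centralizer ((P : Subgroup G) : Set G)) ∧
        ∃ g ∈ normalizer ((P : Subgroup G) : Set G), centralizer ((P : Subgroup G) : Set G) ⊔
          zpowers g = normalizer ((P : Subgroup G) : Set G))) →
      ∃ z r : ℕ, Nat.card (P : Subgroup G) = z * r ∧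
        e * Nat.card (principalBlock M G) + z = e * (z * e) + z * r ∧ e ∣ r - 1 ∧ 1 < r)
    (hnine : ∀ (P : Sylow 2 G), Nat.card (P : Subgroup G) = 16 →
      (∀ a : (P : Subgroup G), a * a = 1) →
      (centralizer ((P : Subgroup G) : Set G)).relIndex
        (normalizer ((P : Subgroup G) : Set G)) = 9 →
      Nat.card (principalBlock M G) = 16)
    (P₀ : Sylow 2 G) (hab₀ : IsMulCommutative (P₀ : Subgroup G)) (x : G) (hx : orderOf x = 2)
    (hl : blockRank 2 (principalBlock M (centralizer ({x} : Set G))) = 1) :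
    (Nat.card (P₀ : Subgroup G) = 8 → Nat.card (principalBlock M G) = 8) ∧
      (Nat.card (P₀ : Subgroup G) = 16 →
        Nat.card (principalBlock M G) = 8 ∨ Nat.card (principalBlock M G) = 16) := by
  classical
  have := hM.2.1.isPrime
  have : Fact (Nat.Prime 2) := ⟨Nat.prime_two⟩
  -- a Sylow subgroup containing `x`
  obtain ⟨P, hP⟩ := (IsPGroup.of_card (n := 1) (by rw [Nat.card_zpowers, hx, pow_one]) :
    IsPGroup 2 (zpowers x)).exists_le_sylow
  have hxP : x ∈ (P : Subgroup G) := hP (mem_zpowers x)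
  have hab : IsMulCommutative (P : Subgroup G) := ⟨⟨fun a b => (P.equiv P₀).injective (by
    rw [map_mul, map_mul]
    exact hab₀.is_comm.comm _ _)⟩⟩
  rw [← Nat.card_congr (P.equiv P₀).toEquiv]
  have hfree := inf_normalizer_of_nilp P hab hxP (complement_of_blockRank_principal hM hl)
  obtain ⟨hlt, htr⟩ := inertial_lt_invol P hx hxP hfree
  have hdvd := invol_card_dvd P hab
  obtain ⟨e, he⟩ : ∃ e, (centralizer ((P : Subgroup G) : Set G)).relIndex
      (normalizer ((P : Subgroup G) : Set G)) = e := ⟨_, rfl⟩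
  have hodd : Odd e := he ▸ odd_inertial P hab
  rw [he] at hlt htr
  have hle := Nat.le_of_dvd Nat.card_pos hdvd
  by_cases he1 : e = 1
  · rw [card_principal_of_one hM P hab (he.trans he1)]
    exact ⟨id, Or.inr⟩
  have he2 : 1 < e := by obtain ⟨t, rfl⟩ := hodd; omega
  have hgen : ∀ (hspec : e.Prime ∨ ((∀ a ∈ (P : Subgroup G), a * a = 1) ∧
      e + 1 = Nat.card (P : Subgroup G) ∧ 8 ≤ e + 1 ∧
      (∀ y ∈ (P : Subgroup G), y ≠ 1 → cz y ⊓ normalizer ((P : Subgroup G) : Set G) =
        centralizer ((P : Subgroup G) : Set G)) ∧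
      ∃ g ∈ normalizer ((P : Subgroup G) : Set G), centralizer ((P : Subgroup G) : Set G) ⊔
        zpowers g = normalizer ((P : Subgroup G) : Set G))),
      (Nat.card (P : Subgroup G) = 8 → Nat.card (principalBlock M G) = 8) ∧
      (Nat.card (P : Subgroup G) = 16 →
        Nat.card (principalBlock M G) = 8 ∨ Nat.card (principalBlock M G) = 16) := by
    intro hspec
    obtain ⟨z, r, h1, h2, h3, h4⟩ := hinv P hab e he hspec
    exact count_eight_sixteen he2 hodd h1 h2 h3 h4
  refine ⟨fun hc => ?_, fun hc => ?_⟩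
  · refine (hgen (Or.inl ?_)).1 hc
    obtain ⟨t, rfl⟩ := hodd
    have ht : t ≤ 3 := by omega
    interval_cases t <;> first | omega | norm_num
  · have he15 : e ≤ 15 := by omega
    have hcases : e.Prime ∨ e = 9 ∨ e = 15 := by
      obtain ⟨t, rfl⟩ := hodd
      have ht : t ≤ 7 := by omega
      interval_cases t <;> first | omega | norm_num
    rcases hcases with hp | rfl | rfl
    · exact (hgen (Or.inl hp)).2 hc
    · refine Or.inr (hnine P hc (elem_of_invol_card P ?_) he)
      obtain ⟨j, hj, hj'⟩ := (Nat.dvd_prime_pow Nat.prime_two).1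
        (show _ ∣ 2 ^ 4 from (hc ▸ hdvd).trans (by norm_num))
      rw [hj', hc]
      rw [hj'] at hlt
      interval_cases j <;> omega
    · have hΩ : Nat.card {a : (P : Subgroup G) // a * a = 1} = 16 := by omega
      have hel : ∀ a ∈ (P : Subgroup G), a * a = 1 := fun a ha =>
        congrArg Subtype.val (elem_of_invol_card P (hΩ.trans hc.symm) ⟨a, ha⟩)
      refine (hgen (Or.inr ⟨hel, hc.symm, by norm_num, fun y hy hy1 => ?_,
        exists_gen_fifteen P he⟩)).2 hc
      -- every involution is conjugate to `x` in the normalizer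
      obtain ⟨g, hg, hgy⟩ := htr hΩ.symm y hy hy1 (hel y hy)
      refine le_antisymm ?_
        (le_inf (centralizer_le (Set.singleton_subset_iff.2 hy)) (centralizer_le_normalizer _))
      rintro c ⟨hcy, hcn⟩
      replace hcy : c * y = y * c := mem_centralizer_singleton_iff.1 hcy
      have hc' : g⁻¹ * c * g ∈ cz x ⊓ normalizer ((P : Subgroup G) : Set G) :=
        mem_inf.2 ⟨mem_centralizer_singleton_iff.2 (by
          calc g⁻¹ * c * g * x = g⁻¹ * (c * (g * x * g⁻¹)) * g := by group
            _ = g⁻¹ * ((g * x * g⁻¹) * c) * g := by rw [hgy, hcy]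
            _ = x * (g⁻¹ * c * g) := by group), mul_mem (mul_mem (inv_mem hg) hcn) hg⟩
      rw [hfree] at hc'
      intro v hv
      have h1 := (mem_normalizer_iff.1 (inv_mem hg) v).1 hv
      rw [inv_inv] at h1
      have h2 := hc' _ h1
      calc v * c = g * ((g⁻¹ * v * g) * (g⁻¹ * c * g)) * g⁻¹ := by group
        _ = g * ((g⁻¹ * c * g) * (g⁻¹ * v * g)) * g⁻¹ := by rw [h2]
        _ = c * v := by group

end CfsgLib.BlockA.PrimeInertial
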