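import Cfsg.Agent.Lib.BlockA.PrimeInertial.Basic
import Cfsg.Agent.Lib.InvolConj.Homocyclic
import Cfsg.Agent.S0949
import Cfsg.Agent.S4512
import Mathlib.GroupTheory.SpecificGroups.Cyclic

/-!
The rank-two case: an abelian Sylow two-subgroup with three conjugate involutions, no odd core,
not normal, is a four-group and the principal block has two-regular rank three.
-/

set_option autoImplicit false

namespace CfsgLib.BlockA.PrimeInertial

open Cfsg

universe u

variable {G : Type u} [Group G] [Finite G]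

/-- Solutions of `x * x = 1` in a power of a cyclic group of even order. -/
theorem card_sq_eq_one_pi {C : Type*} [CommGroup C] [IsCyclic C] [Finite C]
    (h2 : 2 ∣ Nat.card C) (r : ℕ) :
    Nat.card {f : Fin r → C // f * f = 1} = 2 ^ r := by
  classical
  have h : Nat.card {a : C // a * a = 1} = 2 := by
    have h1 := IsCyclic.card_powMonoidHom_ker (G := C) 2
    rw [Nat.gcd_eq_right h2] at h1
    rw [← h1]
    exact Nat.card_congr (Equiv.subtypeEquivRight fun a => by
      rw [MonoidHom.mem_ker, powMonoidHom_apply, pow_two])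
  rw [Nat.card_congr (α := {f : Fin r → C // f * f = 1})
    (β := Fin r → {a : C // a * a = 1})
    { toFun := fun f i => ⟨f.1 i, congrFun f.2 i⟩
      invFun := fun f => ⟨fun i => (f i).1, funext fun i => (f i).2⟩
      left_inv := fun _ => rfl
      right_inv := fun _ => rfl }, Nat.card_fun, h, Nat.card_fin]

/-- The rank-two case. -/
theorem rank_two {M : Ideal AlgInt} (hM : IsPModular 2 M) (hcore : NoOddNormal G) (P : Sylow 2 G)
    (hab : IsMulCommutative (P : Subgroup G)) (hnn : ¬ (P : Subgroup G).Normal)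
    (hΩ : Nat.card {x : (P : Subgroup G) // x * x = 1} = 4)
    (htrans : ∀ s ∈ (P : Subgroup G), s ≠ 1 → s * s = 1 →
      ∀ t ∈ (P : Subgroup G), t ≠ 1 → t * t = 1 →
        ∃ g ∈ Subgroup.normalizer ((P : Subgroup G) : Set G), g * s * g⁻¹ = t) :
    Nat.card (P : Subgroup G) = 4 ∧ blockRank 2 (principalBlock M G) = 3 := by
  classical
  let instC : CommGroup (P : Subgroup G) :=
    { (inferInstance : Group (P : Subgroup G)) with mul_comm := fun a b => mul_comm' a b }
  have : Nontrivial (P : Subgroup G) := by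
    by_contra hnt
    rw [not_nontrivial_iff_subsingleton] at hnt
    have : Nat.card {x : (P : Subgroup G) // x * x = 1} ≤ 1 := Finite.card_le_one_iff_subsingleton.2 inferInstance
    omega
  have haut : ∀ x y : (P : Subgroup G), x ≠ 1 → x ^ 2 = 1 → y ≠ 1 → y ^ 2 = 1 →
      ∃ φ : MulAut (P : Subgroup G), φ x = y := by
    intro x y hx1 hx2 hy1 hy2
    have hx2' : (x : G) * x = 1 := by
      rw [← pow_two, ← Subgroup.coe_pow, hx2, Subgroup.coe_one]
    have hy2' : (y : G) * y = 1 := by
      rw [← pow_two, ← Subgroup.coe_pow, hy2, Subgroup.coe_one]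
    obtain ⟨g, hg, hgxy⟩ := htrans x x.2 (fun e => hx1 (Subtype.ext e)) hx2'
      y y.2 (fun e => hy1 (Subtype.ext e)) hy2'
    exact ⟨(P : Subgroup G).normalizerMonoidHom ⟨g, hg⟩, Subtype.ext hgxy⟩
  obtain ⟨m, r, ⟨e⟩⟩ := CfsgLib.InvolConj.exists_homocyclic_equiv P.isPGroup' haut
  have hcount : Nat.card {f : Fin r → Multiplicative (ZMod (2 ^ m)) // f * f = 1} = 4 := by
    rw [← hΩ]
    exact (Nat.card_congr (e.toEquiv.subtypeEquiv fun a => by
      show a * a = 1 ↔ e a * e a = 1
      rw [← map_mul, MulEquiv.map_eq_one_iff])).symm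
  have hm0 : m ≠ 0 := by
    intro h0
    subst h0
    have h1 : Subsingleton {f : Fin r → Multiplicative (ZMod (2 ^ 0)) // f * f = 1} := by
      have : Subsingleton (ZMod (2 ^ 0)) := by rw [pow_zero]; infer_instance
      infer_instance
    have := Finite.card_le_one_iff_subsingleton.2 h1
    omega
  have hNe : NeZero (2 ^ m) := ⟨pow_ne_zero _ two_ne_zero⟩
  have hcardC : Nat.card (Multiplicative (ZMod (2 ^ m))) = 2 ^ m := by
    rw [Nat.card_congr Multiplicative.toAdd, Nat.card_zmod]
  rw [card_sq_eq_one_pi (by rw [hcardC]; exact dvd_pow_self 2 hm0)] at hcount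
  have hr : r = 2 := Nat.pow_right_injective le_rfl (show 2 ^ r = 2 ^ 2 from hcount)
  subst hr
  let e' : (P : Subgroup G) ≃* Multiplicative (ZMod (2 ^ m) × ZMod (2 ^ m)) :=
    e.trans
      { toFun := fun f => Multiplicative.ofAdd (Multiplicative.toAdd (f 0), Multiplicative.toAdd (f 1))
        invFun := fun p => ![Multiplicative.ofAdd (Multiplicative.toAdd p).1,
          Multiplicative.ofAdd (Multiplicative.toAdd p).2]
        left_inv := fun f => by funext i; fin_cases i <;> rfl
        right_inv := fun p => rfl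
        map_mul' := fun f g => rfl }
  have hm1 : m = 1 := by
    by_contra h1
    exact hnn (Cfsg.Agent.S0949.result P m (by omega) e' hcore).1
  subst hm1
  have hP : Nat.card (P : Subgroup G) = 4 := by
    rw [Nat.card_congr e'.toEquiv, Nat.card_congr Multiplicative.toAdd, Nat.card_prod,
      Nat.card_zmod]
    rfl
  refine ⟨hP, ?_⟩
  have hexp : ∀ x : (P : Subgroup G), x * x = 1 := by
    intro x
    refine e'.injective (Multiplicative.toAdd.injective ?_)
    rw [map_mul, map_one, toAdd_mul, toAdd_one]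
    exact (by decide : ∀ p : ZMod (2 ^ 1) × ZMod (2 ^ 1), p + p = 0) _
  refine Cfsg.Agent.S4512.result M hM P hP hexp fun s t hs ht => ?_
  have inP : ∀ a : G, orderOf a = 2 → ∃ g : G, g * a * g⁻¹ ∈ (P : Subgroup G) := by
    intro a ha
    have hp : IsPGroup 2 (Subgroup.zpowers a) :=
      IsPGroup.of_card (n := 1) (by rw [Nat.card_zpowers, ha, pow_one])
    obtain ⟨Q, hQ⟩ := hp.exists_le_sylow
    obtain ⟨g, hg⟩ := MulAction.exists_smul_eq G Q P
    refine ⟨g, ?_⟩
    rw [← hg]
    exact Subgroup.smul_mem_pointwise_smul a (MulAut.conj g) _ (hQ (Subgroup.mem_zpowers a))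
  obtain ⟨g₁, h₁⟩ := inP s hs
  obtain ⟨g₂, h₂⟩ := inP t ht
  have key : ∀ (a g : G), orderOf a = 2 → g * a * g⁻¹ ≠ 1 ∧ (g * a * g⁻¹) * (g * a * g⁻¹) = 1 := by
    intro a g ha
    refine ⟨fun h => ?_, ?_⟩
    · rw [conj_eq_one_iff] at h
      rw [h, orderOf_one] at ha
      exact absurd ha (by omega)
    · rw [show g * a * g⁻¹ * (g * a * g⁻¹) = g * (a * a) * g⁻¹ from by group]
      have : a * a = 1 := by rw [← pow_two, ← ha]; exact pow_orderOf_eq_one a
      rw [this]; group
  obtain ⟨k, -, hk⟩ := htrans _ h₁ (key s g₁ hs).1 (key s g₁ hs).2 _ h₂ (key t g₂ ht).1 (key t g₂ ht).2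
  refine isConj_iff.2 ⟨g₂⁻¹ * k * g₁, ?_⟩
  calc g₂⁻¹ * k * g₁ * s * (g₂⁻¹ * k * g₁)⁻¹
      = g₂⁻¹ * (k * (g₁ * s * g₁⁻¹) * k⁻¹) * g₂ := by group
    _ = t := by rw [hk]; group

end CfsgLib.BlockA.PrimeInertial
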